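import Mathlib.Topology.Constructible
import Mathlib.Topology.NoetherianSpace
import Mathlib.Topology.Sober
import Mathlib.Topology.Semicontinuity.Basic

set_option autoImplicit false
universe u v

namespace Groth.Agent.H12

open Topology TopologicalSpace Set

variable {X : Type u} [TopologicalSpace X]

theorem isRetrocompact_of_noetherian [NoetherianSpace X] (s : Set X) : IsRetrocompact s :=
  fun _ _ _ => NoetherianSpace.isCompact _

theorem isConstructible_of_isOpen [NoetherianSpace X] {s : Set X} (hs : IsOpen s) :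
    IsConstructible s :=
  (isRetrocompact_of_noetherian s).isConstructible hs

theorem isConstructible_of_isClosed [NoetherianSpace X] {s : Set X} (hs : IsClosed s) :
    IsConstructible s := by
  have := (isConstructible_of_isOpen hs.isOpen_compl)
  simpa using this.compl

/-- Normal form induction for constructible sets in a Noetherian space. -/
theorem constructible_induction [NoetherianSpace X] {P : Set X → Prop}
    (sdiff : ∀ U V : Set X, IsOpen U → IsOpen V → P (U \ V))
    (union : ∀ s t : Set X, P s → P t → P (s ∪ t))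
    {s : Set X} (hs : IsConstructible s) : P s := by
  have hL : IsSublattice {U : Set X | IsOpen U ∧ IsRetrocompact U} :=
    ⟨fun s hs t ht ↦ ⟨hs.1.union ht.1, hs.2.union ht.2⟩,
      fun s hs t ht ↦ ⟨hs.1.inter ht.1, hs.2.inter_isOpen ht.2 ht.1⟩⟩
  have hb : (⊥ : Set X) ∈ {U : Set X | IsOpen U ∧ IsRetrocompact U} :=
    ⟨isOpen_empty, .empty⟩
  have ht : (⊤ : Set X) ∈ {U : Set X | IsOpen U ∧ IsRetrocompact U} :=
    ⟨isOpen_univ, .univ⟩
  refine BooleanSubalgebra.closure_sdiff_sup_induction (p := fun g _ => P g) hL hb ht ?_ ?_ s hs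
  · intro x hx y hy
    exact sdiff x y hx.1 hy.1
  · intro x _ y _ hx hy
    exact union x y hx hy

/-- In an irreducible Noetherian space, a dense constructible set contains a nonempty open set. -/
theorem exists_open_subset_of_dense_constructible [NoetherianSpace X] [IrreducibleSpace X]
    {E : Set X} (hE : IsConstructible E) (hd : Dense E) :
    ∃ U : Set X, IsOpen U ∧ U.Nonempty ∧ U ⊆ E := by
  refine constructible_induction
    (P := fun E => Dense E → ∃ U : Set X, IsOpen U ∧ U.Nonempty ∧ U ⊆ E) ?_ ?_ hE hd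
  · intro U V hU hV hd
    have h1 : U \ V ⊆ Vᶜ := fun x hx => hx.2
    have h2 : closure (U \ V) ⊆ Vᶜ := closure_minimal h1 hV.isClosed_compl
    have h3 : Vᶜ = univ := by
      rw [eq_univ_iff_forall]; intro x; exact h2 (hd x)
    have h4 : V = ∅ := by simpa using h3
    subst h4
    refine ⟨U, hU, ?_, by simp⟩
    have := hd.nonempty
    simpa using this
  · intro s t hs ht hd
    have h1 : closure s ∪ closure t = univ := by
      rw [← closure_union]; exact hd.closure_eq
    have h2 := (isPreirreducible_iff_isClosed_union_isClosed.mp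
      (PreirreducibleSpace.isPreirreducible_univ (X := X))) (closure s) (closure t)
      isClosed_closure isClosed_closure (by rw [h1])
    rcases h2 with h | h
    · obtain ⟨U, hU, hne, hsub⟩ := hs (dense_iff_closure_eq.mpr (univ_subset_iff.mp h))
      exact ⟨U, hU, hne, hsub.trans subset_union_left⟩
    · obtain ⟨U, hU, hne, hsub⟩ := ht (dense_iff_closure_eq.mpr (univ_subset_iff.mp h))
      exact ⟨U, hU, hne, hsub.trans subset_union_right⟩

theorem dense_constructible_iff [NoetherianSpace X] [IrreducibleSpace X]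
    {E : Set X} (hE : IsConstructible E) :
    Dense E ↔ ∃ U : Set X, IsOpen U ∧ U.Nonempty ∧ U ⊆ E := by
  constructor
  · exact exists_open_subset_of_dense_constructible hE
  · rintro ⟨U, hU, hne, hsub⟩
    exact (hU.dense hne).mono hsub


theorem dense_or_isNowhereDense [PreirreducibleSpace X] (s : Set X) :
    Dense s ∨ IsNowhereDense s := by
  by_cases h : (interior (closure s)).Nonempty
  · left
    have h1 : Dense (interior (closure s)) := isOpen_interior.dense h
    have h2 : Dense (closure s) := h1.mono interior_subset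
    exact dense_closure.mp h2
  · right
    rw [Set.not_nonempty_iff_eq_empty] at h
    exact h

theorem not_isNowhereDense_of_dense [Nonempty X] {s : Set X} (hd : Dense s) :
    ¬ IsNowhereDense s := by
  intro h
  rw [IsNowhereDense, hd.closure_eq, interior_univ] at h
  exact Set.univ_nonempty.ne_empty h

/-- closure of a preimage in a subspace -/
theorem closure_preimage_val (Y : Set X) (E : Set X) :
    closure (Subtype.val ⁻¹' E : Set Y) = Subtype.val ⁻¹' closure (E ∩ Y) := by
  rw [Topology.IsEmbedding.subtypeVal.closure_eq_preimage_closure_image,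
    Subtype.image_preimage_coe, Set.inter_comm]

theorem dense_preimage_val_iff (Y : Set X) (E : Set X) :
    Dense (Subtype.val ⁻¹' E : Set Y) ↔ Y ⊆ closure (E ∩ Y) := by
  rw [dense_iff_closure_eq, closure_preimage_val, Set.eq_univ_iff_forall]
  constructor
  · intro h y hy
    exact h ⟨y, hy⟩
  · intro h y
    exact h y.2

theorem dense_preimage_iff [NoetherianSpace X] {Y : Set X} (hY : IsIrreducible Y)
    {E : Set X} (hE : IsConstructible E) :
    Dense (Subtype.val ⁻¹' E : Set Y) ↔
      ∃ U : Set X, IsOpen U ∧ (U ∩ Y).Nonempty ∧ U ∩ Y ⊆ E := by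
  have : IrreducibleSpace Y := Subtype.irreducibleSpace hY
  have hE' : IsConstructible (Subtype.val ⁻¹' E : Set Y) :=
    hE.preimage continuous_subtype_val (fun s _ _ => isRetrocompact_of_noetherian _)
  rw [dense_constructible_iff hE']
  constructor
  · rintro ⟨W, hW, hne, hsub⟩
    obtain ⟨U, hU, rfl⟩ := isOpen_induced_iff.mp hW
    refine ⟨U, hU, ?_, ?_⟩
    · obtain ⟨y, hy⟩ := hne
      exact ⟨y.1, hy, y.2⟩
    · rintro x ⟨hxU, hxY⟩
      exact hsub (show (⟨x, hxY⟩ : Y) ∈ Subtype.val ⁻¹' U from hxU)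
  · rintro ⟨U, hU, ⟨x, hxU, hxY⟩, hsub⟩
    refine ⟨Subtype.val ⁻¹' U, hU.preimage continuous_subtype_val, ⟨⟨x, hxY⟩, hxU⟩, ?_⟩
    intro y hy
    exact hsub ⟨hy, y.2⟩

theorem closed_induction [NoetherianSpace X] {P : Set X → Prop}
    (h : ∀ Z : Set X, IsClosed Z → (∀ Z' : Set X, IsClosed Z' → Z' ⊂ Z → P Z') → P Z) :
    ∀ Z : Set X, IsClosed Z → P Z := by
  intro Z hZ
  suffices H : ∀ C : Closeds X, P (C : Set X) from H ⟨Z, hZ⟩
  intro C
  induction C using WellFoundedLT.induction with
  | ind C ih =>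
    apply h _ C.isClosed
    intro Z' hZ' hlt
    exact ih ⟨Z', hZ'⟩ (by
      rw [← SetLike.coe_ssubset_coe]
      exact hlt)

theorem irreducible_closed_induction [NoetherianSpace X] {P : Set X → Prop}
    (hempty : P ∅)
    (hunion : ∀ Z1 Z2 : Set X, IsClosed Z1 → IsClosed Z2 → P Z1 → P Z2 → P (Z1 ∪ Z2))
    (hirr : ∀ Z : Set X, IsClosed Z → IsIrreducible Z →
      (∀ Z' : Set X, IsClosed Z' → Z' ⊂ Z → P Z') → P Z) :
    ∀ Z : Set X, IsClosed Z → P Z := by
  apply closed_induction
  intro Z hZ ih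
  by_cases hi : IsIrreducible Z
  · exact hirr Z hZ hi ih
  · rcases Set.eq_empty_or_nonempty Z with rfl | hne
    · exact hempty
    · have hnp : ¬ IsPreirreducible Z := fun hp => hi ⟨hne, hp⟩
      rw [isPreirreducible_iff_isClosed_union_isClosed] at hnp
      push Not at hnp
      obtain ⟨Z1, Z2, h1, h2, hsub, hn1, hn2⟩ := hnp
      have e : Z = (Z ∩ Z1) ∪ (Z ∩ Z2) := by
        rw [← Set.inter_union_distrib_left]
        exact (Set.inter_eq_left.mpr hsub).symm
      rw [e]
      apply hunion _ _ (hZ.inter h1) (hZ.inter h2)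
      · apply ih _ (hZ.inter h1)
        refine ⟨Set.inter_subset_left, fun hh => hn1 (fun x hx => (hh hx).2)⟩
      · apply ih _ (hZ.inter h2)
        refine ⟨Set.inter_subset_left, fun hh => hn2 (fun x hx => (hh hx).2)⟩

omit [TopologicalSpace X] in
theorem diff_ssubset_of_inter_nonempty {Z U : Set X} (h : (U ∩ Z).Nonempty) : Z \ U ⊂ Z := by
  refine ⟨Set.sdiff_subset, ?_⟩
  intro hh
  obtain ⟨x, hxU, hxZ⟩ := h
  exact (hh hxZ).2 hxU

/-- Criterion for constructibility (one direction). -/
theorem isConstructible_of_forall_irreducible [NoetherianSpace X] (E : Set X)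
    (H : ∀ Y : Set X, IsClosed Y → IsIrreducible Y →
        IsNowhereDense (Subtype.val ⁻¹' E : Set Y) ∨
          ∃ U : Set X, IsOpen U ∧ (U ∩ Y).Nonempty ∧ U ∩ Y ⊆ E) :
    IsConstructible E := by
  suffices h : ∀ Z : Set X, IsClosed Z → IsConstructible (E ∩ Z) by
    simpa using h Set.univ isClosed_univ
  apply irreducible_closed_induction
  · simp
  · intro Z1 Z2 _ _ h1 h2
    rw [Set.inter_union_distrib_left]
    exact h1.union h2
  · intro Z hZ hZi ih
    rcases H Z hZ hZi with hnd | ⟨U, hU, hne, hsub⟩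
    · have hsubZ : closure (E ∩ Z) ⊆ Z := closure_minimal Set.inter_subset_right hZ
      have hne' : closure (E ∩ Z) ≠ Z := by
        intro heq
        have : Nonempty Z := hZi.nonempty.to_subtype
        have hd : Dense (Subtype.val ⁻¹' E : Set Z) := by
          rw [dense_preimage_val_iff, heq]
        exact not_isNowhereDense_of_dense hd hnd
      have := ih (closure (E ∩ Z)) isClosed_closure ⟨hsubZ, fun hh => hne' (hsubZ.antisymm hh)⟩
      have e : E ∩ Z = E ∩ closure (E ∩ Z) := by
        apply Set.Subset.antisymm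
        · intro x hx
          exact ⟨hx.1, subset_closure hx⟩
        · intro x hx
          exact ⟨hx.1, hsubZ hx.2⟩
      rw [e]; exact this
    · have h1 := ih (Z \ U) (hZ.sdiff hU) (diff_ssubset_of_inter_nonempty hne)
      have e : E ∩ Z = (U ∩ Z) ∪ (E ∩ (Z \ U)) := by
        ext x
        constructor
        · rintro ⟨hxE, hxZ⟩
          by_cases hxU : x ∈ U
          · exact Or.inl ⟨hxU, hxZ⟩
          · exact Or.inr ⟨hxE, hxZ, hxU⟩
        · rintro (hx | hx)
          · exact ⟨hsub hx, hx.2⟩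
          · exact ⟨hx.1, hx.2.1⟩
      rw [e]
      exact ((isConstructible_of_isOpen hU).inter (isConstructible_of_isClosed hZ)).union h1

theorem forall_irreducible_of_isConstructible [NoetherianSpace X] {E : Set X}
    (hE : IsConstructible E) (Y : Set X) (hYi : IsIrreducible Y) :
    IsNowhereDense (Subtype.val ⁻¹' E : Set Y) ∨
      ∃ U : Set X, IsOpen U ∧ (U ∩ Y).Nonempty ∧ U ∩ Y ⊆ E := by
  have : IrreducibleSpace Y := Subtype.irreducibleSpace hYi
  rcases dense_or_isNowhereDense (Subtype.val ⁻¹' E : Set Y) with h | h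
  · exact Or.inr ((dense_preimage_iff hYi hE).mp h)
  · exact Or.inl h

/-- Directed covers by constructible sets stabilize. -/
theorem exists_eq_univ_of_directed [NoetherianSpace X] {ι : Type v} [Preorder ι]
    [IsDirected ι (· ≤ ·)] [Nonempty ι]
    (E : ι → Set X) (hmono : Monotone E) (hE : ∀ a, IsConstructible (E a))
    (hirr : ∀ Y : Set X, IsClosed Y → IsIrreducible Y → ∃ a, Y ⊆ closure (E a ∩ Y)) :
    ∃ a, E a = Set.univ := by
  suffices h : ∀ Z : Set X, IsClosed Z → ∃ a, Z ⊆ E a by
    obtain ⟨a, ha⟩ := h Set.univ isClosed_univ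
    exact ⟨a, Set.univ_subset_iff.mp ha⟩
  apply irreducible_closed_induction
  · exact ⟨Classical.arbitrary ι, Set.empty_subset _⟩
  · rintro Z1 Z2 _ _ ⟨a, ha⟩ ⟨b, hb⟩
    obtain ⟨c, hac, hbc⟩ := exists_ge_ge a b
    exact ⟨c, Set.union_subset (ha.trans (hmono hac)) (hb.trans (hmono hbc))⟩
  · intro Z hZ hZi ih
    obtain ⟨a, ha⟩ := hirr Z hZ hZi
    have hd : Dense (Subtype.val ⁻¹' (E a) : Set Z) := (dense_preimage_val_iff Z (E a)).mpr ha
    obtain ⟨U, hU, hne, hsub⟩ := (dense_preimage_iff hZi (hE a)).mp hd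
    obtain ⟨b, hb⟩ := ih (Z \ U) (hZ.sdiff hU) (diff_ssubset_of_inter_nonempty hne)
    obtain ⟨c, hac, hbc⟩ := exists_ge_ge a b
    refine ⟨c, ?_⟩
    intro x hx
    by_cases hxU : x ∈ U
    · exact hmono hac (hsub ⟨hxU, hx⟩)
    · exact hmono hbc (hb ⟨hx, hxU⟩)

theorem subset_closure_inter_of_genericPoint {Y E : Set X} {y : X} (hy : IsGenericPoint y Y)
    (hyE : y ∈ E) : Y ⊆ closure (E ∩ Y) := by
  have hyY : y ∈ Y := hy.mem
  have h : closure {y} ⊆ closure (E ∩ Y) :=
    closure_mono (Set.singleton_subset_iff.mpr ⟨hyE, hyY⟩)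
  rwa [hy.def] at h

/-- Neighbourhood criterion. -/
theorem mem_nhds_iff_of_isConstructible [NoetherianSpace X] (x : X) {E : Set X}
    (hE : IsConstructible E) :
    E ∈ nhds x ↔
      ∀ Y : Set X, IsClosed Y → IsIrreducible Y → x ∈ Y →
        Dense (Subtype.val ⁻¹' E : Set Y) := by
  constructor
  · intro h Y _ hYi hxY
    obtain ⟨U, hUE, hU, hxU⟩ := mem_nhds_iff.mp h
    rw [dense_preimage_iff hYi hE]
    exact ⟨U, hU, ⟨x, hxU, hxY⟩, Set.inter_subset_left.trans hUE⟩
  · intro H
    suffices h : ∀ Z : Set X, IsClosed Z → ∃ U : Set X, IsOpen U ∧ x ∈ U ∧ U ∩ Z ⊆ E by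
      obtain ⟨U, hU, hxU, hsub⟩ := h Set.univ isClosed_univ
      exact mem_nhds_iff.mpr ⟨U, by simpa using hsub, hU, hxU⟩
    apply irreducible_closed_induction
    · exact ⟨Set.univ, isOpen_univ, trivial, by simp⟩
    · rintro Z1 Z2 _ _ ⟨U1, hU1, hx1, hs1⟩ ⟨U2, hU2, hx2, hs2⟩
      refine ⟨U1 ∩ U2, hU1.inter hU2, ⟨hx1, hx2⟩, ?_⟩
      rintro y ⟨⟨hy1, hy2⟩, hy | hy⟩
      · exact hs1 ⟨hy1, hy⟩
      · exact hs2 ⟨hy2, hy⟩
    · intro Z hZ hZi ih
      by_cases hxZ : x ∈ Z
      · obtain ⟨V, hV, hne, hsub⟩ := (dense_preimage_iff hZi hE).mp (H Z hZ hZi hxZ)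
        obtain ⟨U', hU', hxU', hs'⟩ := ih (Z \ V) (hZ.sdiff hV)
          (diff_ssubset_of_inter_nonempty hne)
        refine ⟨U', hU', hxU', ?_⟩
        rintro y ⟨hyU, hyZ⟩
        by_cases hyV : y ∈ V
        · exact hsub ⟨hyV, hyZ⟩
        · exact hs' ⟨hyU, hyZ, hyV⟩
      · exact ⟨Zᶜ, hZ.isOpen_compl, hxZ, by simp⟩

/-- Openness criterion. -/
theorem isOpen_iff_forall_irreducible [NoetherianSpace X] (E : Set X) :
    IsOpen E ↔
      ∀ Y : Set X, IsClosed Y → IsIrreducible Y → (E ∩ Y).Nonempty →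
        ∃ U : Set X, IsOpen U ∧ (U ∩ Y).Nonempty ∧ U ∩ Y ⊆ E := by
  constructor
  · intro hE Y _ _ hne
    exact ⟨E, hE, hne, Set.inter_subset_left⟩
  · intro H
    have hE : IsConstructible E := by
      apply isConstructible_of_forall_irreducible
      intro Y hY hYi
      rcases Set.eq_empty_or_nonempty (E ∩ Y) with h | h
      · left
        have : (Subtype.val ⁻¹' E : Set Y) = ∅ := by
          ext y
          simp only [Set.mem_preimage, Set.mem_empty_iff_false, iff_false]
          intro hy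
          have : y.1 ∈ E ∩ Y := ⟨hy, y.2⟩
          rw [h] at this
          exact this
        rw [this]
        simp
      · exact Or.inr (H Y hY hYi h)
    rw [isOpen_iff_mem_nhds]
    intro x hx
    rw [mem_nhds_iff_of_isConstructible x hE]
    intro Y hY hYi hxY
    rw [dense_preimage_iff hYi hE]
    exact H Y hY hYi ⟨x, hx, hxY⟩


section Functions

variable {T : Type v}

theorem constructible_function_of_locally_constant [NoetherianSpace X] (h : X → T)
    (H : ∀ Y : Set X, IsClosed Y → IsIrreducible Y →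
        ∃ U : Set X, IsOpen U ∧ (U ∩ Y).Nonempty ∧ ∀ a ∈ U ∩ Y, ∀ b ∈ U ∩ Y, h a = h b) :
    (∀ t, IsConstructible (h ⁻¹' {t})) ∧ (Set.range h).Finite := by
  constructor
  · intro t
    apply isConstructible_of_forall_irreducible
    intro Y hY hYi
    obtain ⟨U, hU, hne, hconst⟩ := H Y hY hYi
    obtain ⟨a, ha⟩ := hne
    by_cases hat : h a = t
    · right
      refine ⟨U, hU, ⟨a, ha⟩, ?_⟩
      intro b hb
      show h b = t
      rw [← hat]
      exact hconst b hb a ha
    · left
      have : IrreducibleSpace Y := Subtype.irreducibleSpace hYi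
      rcases dense_or_isNowhereDense (Subtype.val ⁻¹' (h ⁻¹' {t}) : Set Y) with hd | hnd
      · exfalso
        rw [dense_preimage_val_iff] at hd
        have h1 : closure (h ⁻¹' {t} ∩ Y) ⊆ Uᶜ := by
          apply closure_minimal _ hU.isClosed_compl
          rintro b ⟨hb, hbY⟩ hbU
          apply hat
          rw [hconst a ha b ⟨hbU, hbY⟩]
          exact hb
        exact h1 (hd ha.2) ha.1
      · exact hnd
  · suffices hfin : ∀ Z : Set X, IsClosed Z → (h '' Z).Finite by
      simpa using hfin Set.univ isClosed_univ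
    apply irreducible_closed_induction
    · simp
    · intro Z1 Z2 _ _ h1 h2
      rw [Set.image_union]
      exact h1.union h2
    · intro Z hZ hZi ih
      obtain ⟨U, hU, hne, hconst⟩ := H Z hZ hZi
      have h1 := ih (Z \ U) (hZ.sdiff hU) (diff_ssubset_of_inter_nonempty hne)
      obtain ⟨a, ha⟩ := hne
      apply (h1.union (Set.finite_singleton (h a))).subset
      rintro _ ⟨b, hb, rfl⟩
      by_cases hbU : b ∈ U
      · right
        exact hconst b ⟨hbU, hb⟩ a ha
      · left
        exact ⟨b, ⟨hb, hbU⟩, rfl⟩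

theorem locally_constant_of_constructible_function [NoetherianSpace X] (h : X → T)
    (hc : (∀ t, IsConstructible (h ⁻¹' {t})) ∧ (Set.range h).Finite)
    (Y : Set X) (hYi : IsIrreducible Y) :
    ∃ U : Set X, IsOpen U ∧ (U ∩ Y).Nonempty ∧ ∀ a ∈ U ∩ Y, ∀ b ∈ U ∩ Y, h a = h b := by
  obtain ⟨hfib, hfin⟩ := hc
  classical
  let S : Finset (Set X) := hfin.toFinset.image (fun t => closure (h ⁻¹' {t} ∩ Y))
  have hcov : Y ⊆ ⋃₀ (S : Set (Set X)) := by
    intro y hy
    refine ⟨closure (h ⁻¹' {h y} ∩ Y), ?_, subset_closure ⟨rfl, hy⟩⟩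
    simp only [S, Finset.coe_image, Set.mem_image, Finset.mem_coe, Set.Finite.mem_toFinset]
    exact ⟨h y, ⟨y, rfl⟩, rfl⟩
  obtain ⟨z, hzS, hYz⟩ := (isIrreducible_iff_sUnion_isClosed.mp hYi) S (by
    intro z hz
    simp only [S, Finset.mem_image] at hz
    obtain ⟨t, _, rfl⟩ := hz
    exact isClosed_closure) hcov
  simp only [S, Finset.mem_image] at hzS
  obtain ⟨t, _, rfl⟩ := hzS
  have hd : Dense (Subtype.val ⁻¹' (h ⁻¹' {t}) : Set Y) := (dense_preimage_val_iff _ _).mpr hYz
  obtain ⟨U, hU, hne, hsub⟩ := (dense_preimage_iff hYi (hfib t)).mp hd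
  refine ⟨U, hU, hne, ?_⟩
  intro a ha b hb
  have h1 : h a = t := hsub ha
  have h2 : h b = t := hsub hb
  rw [h1, h2]

theorem finite_range_of_constructible_fibres [NoetherianSpace X] [QuasiSober X] (h : X → T)
    (hfib : ∀ t, IsConstructible (h ⁻¹' {t})) : (Set.range h).Finite := by
  refine (constructible_function_of_locally_constant h ?_).2
  intro Y hY hYi
  obtain ⟨y, hy⟩ := QuasiSober.sober hYi hY
  have hd : Dense (Subtype.val ⁻¹' (h ⁻¹' {h y}) : Set Y) :=
    (dense_preimage_val_iff _ _).mpr (subset_closure_inter_of_genericPoint hy rfl)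
  obtain ⟨U, hU, hne, hsub⟩ := (dense_preimage_iff hYi (hfib (h y))).mp hd
  refine ⟨U, hU, hne, ?_⟩
  intro a ha b hb
  have h1 : h a = h y := hsub ha
  have h2 : h b = h y := hsub hb
  rw [h1, h2]

theorem upperSemicontinuous_iff_of_constructible [NoetherianSpace X] [QuasiSober X]
    [LinearOrder T] (h : X → T)
    (hc : (∀ t, IsConstructible (h ⁻¹' {t})) ∧ (Set.range h).Finite) :
    UpperSemicontinuous h ↔ ∀ x x' : X, x' ⤳ x → h x' ≤ h x := by
  constructor
  · intro husc x x' hspec
    by_contra hlt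
    rw [not_le] at hlt
    have h1 : ∀ᶠ z in nhds x, h z < h x' := husc x (h x') hlt
    have h2 : {z | h z < h x'} ∈ nhds x := h1
    obtain ⟨U, hUsub, hU, hxU⟩ := mem_nhds_iff.mp h2
    have h3 : x' ∈ U := hspec.mem_open hU hxU
    exact lt_irrefl _ (hUsub h3)
  · intro H x y hy
    show {z | h z < y} ∈ nhds x
    have hE : IsConstructible {z | h z < y} := by
      have e : {z | h z < y} = ⋃ t ∈ {t | t ∈ Set.range h ∧ t < y}, h ⁻¹' {t} := by
        ext z
        simp only [Set.mem_setOf_eq, Set.mem_iUnion, Set.mem_preimage, Set.mem_singleton_iff,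
          exists_prop]
        constructor
        · intro hz
          exact ⟨h z, ⟨⟨z, rfl⟩, hz⟩, rfl⟩
        · rintro ⟨t, ⟨_, ht⟩, rfl⟩
          exact ht
      rw [e]
      exact IsConstructible.biUnion (hc.2.subset (fun t ht => ht.1)) (fun t _ => hc.1 t)
    rw [mem_nhds_iff_of_isConstructible x hE]
    intro Y hY hYi hxY
    obtain ⟨η, hη⟩ := QuasiSober.sober hYi hY
    rw [dense_preimage_val_iff]
    apply subset_closure_inter_of_genericPoint hη
    have hspec : η ⤳ x := hη.specializes hxY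
    exact lt_of_le_of_lt (H x η hspec) hy

end Functions

end Groth.Agent.H12
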