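import Groth.Prelude.Def_ega3
import Mathlib

set_option autoImplicit false
universe u

open CategoryTheory TensorProduct

namespace Groth.Agent.H12.BC

variable {A B : Type u} [CommRing A] [CommRing B] [Algebra A B]

/-- `B` with its restricted `A`-module structure is `B`. -/
noncomputable def restrictSelfEquiv :
    ((ModuleCat.restrictScalars (algebraMap A B)).obj (ModuleCat.of B B)) ≃ₗ[A] B where
  toFun x := x
  invFun x := x
  map_add' _ _ := rfl
  map_smul' a x := by
    rw [ModuleCat.restrictScalars.smul_def, RingHom.id_apply]
    show algebraMap A B a * (show B from x) = a • (show B from x)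
    rw [Algebra.smul_def]
  left_inv _ := rfl
  right_inv _ := rfl

/-- the `A`-linear bridge. -/
noncomputable def bridgeA (N : ModuleCat.{u} A) :
    TensorProduct A ((ModuleCat.restrictScalars (algebraMap A B)).obj (ModuleCat.of B B)) N ≃ₗ[A]
      B ⊗[A] N :=
  TensorProduct.congr restrictSelfEquiv (LinearEquiv.refl A N)

theorem bridgeA_tmul (N : ModuleCat.{u} A)
    (s : (ModuleCat.restrictScalars (algebraMap A B)).obj (ModuleCat.of B B)) (n : N) :
    bridgeA (B := B) N (s ⊗ₜ n) = (show B from s) ⊗ₜ n := rfl

theorem bridgeA_smul (N : ModuleCat.{u} A) (b : B)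
    (t : ((ModuleCat.extendScalars (algebraMap A B)).obj N)) :
    bridgeA (B := B) N (b • t) = b • bridgeA (B := B) N t := by
  refine TensorProduct.induction_on
    (motive := fun t => bridgeA (B := B) N
      (HSMul.hSMul (α := B) (β := ↑((ModuleCat.extendScalars (algebraMap A B)).obj N)) b t) =
        b • bridgeA (B := B) N t) t ?_ ?_ ?_
  · have h0 : (HSMul.hSMul (α := B) (β := ↑((ModuleCat.extendScalars (algebraMap A B)).obj N)) b 0)
        = 0 := smul_zero b
    rw [map_zero, smul_zero]
    exact (congrArg _ h0).trans (map_zero _)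
  · intro s n
    rw [bridgeA_tmul, TensorProduct.smul_tmul']
    exact bridgeA_tmul N _ n
  · intro x y hx hy
    have h0 : (HSMul.hSMul (α := B) (β := ↑((ModuleCat.extendScalars (algebraMap A B)).obj N)) b
        (x + y)) = HSMul.hSMul (α := B) (β := ↑((ModuleCat.extendScalars (algebraMap A B)).obj N)) b x
          + HSMul.hSMul (α := B) (β := ↑((ModuleCat.extendScalars (algebraMap A B)).obj N)) b y :=
      smul_add b _ _
    rw [map_add, smul_add, ← hx, ← hy, ← map_add]
    exact congrArg _ h0

/-- the bridge between `extendScalars` and the standard base change. -/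
noncomputable def bridge (N : ModuleCat.{u} A) :
    ((ModuleCat.extendScalars (algebraMap A B)).obj N) ≃ₗ[B] B ⊗[A] N :=
  { (bridgeA (B := B) N).toAddEquiv with
    map_smul' := bridgeA_smul N }

end Groth.Agent.H12.BC
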