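import Groth.Prelude.Def_ega3

/-!
# Koszul complexes of weakly regular sequences
-/

namespace Groth.Agent.H12.KoszulReg

open CategoryTheory CochainComplex HomComplex Limits
open scoped Pointwise

universe u

variable {A : Type u} [CommRing A]

section Cone

variable {F₁ G₁ F₂ G₂ : CochainComplex (ModuleCat.{u} A) ℤ} (φ₁ : F₁ ⟶ G₁) (φ₂ : F₂ ⟶ G₂)
  (a : F₁ ⟶ F₂) (b : G₁ ⟶ G₂) (comm : φ₁ ≫ b = a ≫ φ₂)

theorem map_f_fst (n m : ℤ) (h : n + 1 = m) :
    (mappingCone.map φ₁ φ₂ a b comm).f n ≫ (mappingCone.fst φ₂).1.v n m h =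
      (mappingCone.fst φ₁).1.v n m h ≫ a.f m := by
  subst h
  simp [mappingCone.ext_from_iff _ (n + 1) n rfl, mappingCone.map]

theorem map_f_snd (n : ℤ) :
    (mappingCone.map φ₁ φ₂ a b comm).f n ≫ (mappingCone.snd φ₂).v n n (add_zero n) =
      (mappingCone.snd φ₁).v n n (add_zero n) ≫ b.f n := by
  simp [mappingCone.ext_from_iff _ (n + 1) n rfl, mappingCone.map]

end Cone

section Elements

variable {F G : CochainComplex (ModuleCat.{u} A) ℤ} (φ : F ⟶ G)

/-- first component of an element of the cone -/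
noncomputable def cfst (n : ℤ) : (mappingCone φ).X n →ₗ[A] F.X (n + 1) :=
  ((mappingCone.fst φ).1.v n (n + 1) rfl).hom

/-- second component of an element of the cone -/
noncomputable def csnd (n : ℤ) : (mappingCone φ).X n →ₗ[A] G.X n :=
  ((mappingCone.snd φ).v n n (add_zero n)).hom

/-- inclusion of the first component -/
noncomputable def cinl (n : ℤ) : F.X (n + 1) →ₗ[A] (mappingCone φ).X n :=
  ((mappingCone.inl φ).v (n + 1) n (by omega)).hom

/-- inclusion of the second component -/
noncomputable def cinr (n : ℤ) : G.X n →ₗ[A] (mappingCone φ).X n :=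
  ((mappingCone.inr φ).f n).hom

theorem cdecomp (n : ℤ) (x : (mappingCone φ).X n) :
    x = cinl φ n (cfst φ n x) + cinr φ n (csnd φ n x) := by
  have h := mappingCone.id_X φ n (n + 1) rfl
  have := congr($(h).hom x)
  simp only [ModuleCat.hom_add, ModuleCat.hom_comp, ModuleCat.hom_id, LinearMap.add_apply,
    LinearMap.comp_apply, LinearMap.id_apply] at this
  exact this.symm

theorem cfst_cinl (n : ℤ) (p : F.X (n + 1)) : cfst φ n (cinl φ n p) = p := by
  have h := mappingCone.inl_v_fst_v φ (n + 1) n rfl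
  have := congr($(h).hom p)
  exact this

theorem csnd_cinl (n : ℤ) (p : F.X (n + 1)) : csnd φ n (cinl φ n p) = 0 := by
  have h := mappingCone.inl_v_snd_v φ (n + 1) n (by omega)
  have := congr($(h).hom p)
  exact this

theorem cfst_cinr (n : ℤ) (q : G.X n) : cfst φ n (cinr φ n q) = 0 := by
  have h := mappingCone.inr_f_fst_v φ n (n + 1) rfl
  have := congr($(h).hom q)
  exact this

theorem csnd_cinr (n : ℤ) (q : G.X n) : csnd φ n (cinr φ n q) = q := by
  have h := mappingCone.inr_f_snd_v φ n
  have := congr($(h).hom q)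
  exact this

theorem cext (n : ℤ) (x y : (mappingCone φ).X n) (h1 : cfst φ n x = cfst φ n y)
    (h2 : csnd φ n x = csnd φ n y) : x = y := by
  rw [cdecomp φ n x, cdecomp φ n y, h1, h2]

theorem cexists (n : ℤ) (p : F.X (n + 1)) (q : G.X n) :
    ∃ x : (mappingCone φ).X n, cfst φ n x = p ∧ csnd φ n x = q :=
  ⟨cinl φ n p + cinr φ n q, by simp [cfst_cinl, cfst_cinr], by simp [csnd_cinl, csnd_cinr]⟩

end Elements

section Nat

variable {F₁ G₁ F₂ G₂ : CochainComplex (ModuleCat.{u} A) ℤ} (φ₁ : F₁ ⟶ G₁) (φ₂ : F₂ ⟶ G₂)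
  (a : F₁ ⟶ F₂) (b : G₁ ⟶ G₂) (comm : φ₁ ≫ b = a ≫ φ₂)

theorem cfst_map (n : ℤ) (x : (mappingCone φ₁).X n) :
    cfst φ₂ n (((mappingCone.map φ₁ φ₂ a b comm).f n).hom x) = (a.f (n + 1)).hom (cfst φ₁ n x) := by
  have h := map_f_fst φ₁ φ₂ a b comm n (n + 1) rfl
  have := congr($(h).hom x)
  exact this

theorem csnd_map (n : ℤ) (x : (mappingCone φ₁).X n) :
    csnd φ₂ n (((mappingCone.map φ₁ φ₂ a b comm).f n).hom x) = (b.f n).hom (csnd φ₁ n x) := by
  have h := map_f_snd φ₁ φ₂ a b comm n
  have := congr($(h).hom x)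
  exact this

end Nat

/-- The functor `K ↦ cone (g • 𝟙 K)`. -/
noncomputable def coneFunctor (g : A) :
    CochainComplex (ModuleCat.{u} A) ℤ ⥤ CochainComplex (ModuleCat.{u} A) ℤ where
  obj K := mappingCone (g • 𝟙 K)
  map {K L} u := mappingCone.map (g • 𝟙 K) (g • 𝟙 L) u u (by simp)
  map_id K := mappingCone.map_id _
  map_comp {K L N} u v := mappingCone.map_comp _ _ _ _ _ _ _ _ _

theorem coneFunctor_map_f_hom (g : A) {K L : CochainComplex (ModuleCat.{u} A) ℤ} (u : K ⟶ L)
    (n : ℤ) (x : (mappingCone (g • 𝟙 K)).X n) :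
    cfst _ n ((((coneFunctor g).map u).f n).hom x) = (u.f (n + 1)).hom (cfst _ n x) ∧
    csnd _ n ((((coneFunctor g).map u).f n).hom x) = (u.f n).hom (csnd _ n x) :=
  ⟨cfst_map _ _ _ _ (by simp) n x, csnd_map _ _ _ _ (by simp) n x⟩

instance (g : A) : (coneFunctor (A := A) g).PreservesZeroMorphisms where
  map_zero K L := by
    ext n x
    apply cext
    · rw [(coneFunctor_map_f_hom g (0 : K ⟶ L) n x).1]
      simp only [HomologicalComplex.zero_f, ModuleCat.hom_zero, LinearMap.zero_apply]
      exact (LinearMap.map_zero _).symm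
    · rw [(coneFunctor_map_f_hom g (0 : K ⟶ L) n x).2]
      simp only [HomologicalComplex.zero_f, ModuleCat.hom_zero, LinearMap.zero_apply]
      exact (LinearMap.map_zero _).symm

theorem coneFunctor_shortExact (g : A) (T : ShortComplex (CochainComplex (ModuleCat.{u} A) ℤ))
    (hT : T.ShortExact) : (T.map (coneFunctor g)).ShortExact := by
  have hTn : ∀ m, (T.map (HomologicalComplex.eval _ _ m)).ShortExact :=
    fun m => hT.map_of_exact _
  have hinj : ∀ m, Function.Injective (T.f.f m).hom := fun m => (hTn m).moduleCat_injective_f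
  have hsurj : ∀ m, Function.Surjective (T.g.f m).hom := fun m => (hTn m).moduleCat_surjective_g
  have hex : ∀ m (y : T.X₂.X m), (T.g.f m).hom y = 0 → ∃ x, (T.f.f m).hom x = y :=
    fun m => (ShortComplex.moduleCat_exact_iff _).mp (hTn m).exact
  apply HomologicalComplex.shortExact_of_degreewise_shortExact
  intro n
  have e1 : ∀ (y : (mappingCone (g • 𝟙 T.X₂)).X n), (((coneFunctor g).map T.g).f n).hom y = 0 →
      ∃ x : (mappingCone (g • 𝟙 T.X₁)).X n, (((coneFunctor g).map T.f).f n).hom x = y := by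
    intro y hy
    have hy1 : (T.g.f (n + 1)).hom (cfst (g • 𝟙 T.X₂) n y) = 0 := by
      rw [← (coneFunctor_map_f_hom g T.g n y).1]
      exact (congrArg (cfst _ n) hy).trans (LinearMap.map_zero _)
    have hy2 : (T.g.f n).hom (csnd (g • 𝟙 T.X₂) n y) = 0 := by
      rw [← (coneFunctor_map_f_hom g T.g n y).2]
      exact (congrArg (csnd _ n) hy).trans (LinearMap.map_zero _)
    obtain ⟨p, hp⟩ := hex _ _ hy1
    obtain ⟨q, hq⟩ := hex _ _ hy2
    obtain ⟨x, hx1, hx2⟩ := cexists (g • 𝟙 T.X₁) n p q
    refine ⟨x, ?_⟩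
    apply cext
    · refine ((coneFunctor_map_f_hom g T.f n x).1).trans ?_
      rw [hx1, hp]
    · refine ((coneFunctor_map_f_hom g T.f n x).2).trans ?_
      rw [hx2, hq]
  have e2 : Function.Injective (((coneFunctor g).map T.f).f n).hom := by
    intro x y hxy
    apply cext
    · apply hinj
      rw [← (coneFunctor_map_f_hom g T.f n x).1, ← (coneFunctor_map_f_hom g T.f n y).1]
      exact congrArg (cfst _ n) hxy
    · apply hinj
      rw [← (coneFunctor_map_f_hom g T.f n x).2, ← (coneFunctor_map_f_hom g T.f n y).2]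
      exact congrArg (csnd _ n) hxy
  have e3 : Function.Surjective (((coneFunctor g).map T.g).f n).hom := by
    intro y
    obtain ⟨p, hp⟩ := hsurj _ (cfst (g • 𝟙 T.X₃) n y)
    obtain ⟨q, hq⟩ := hsurj _ (csnd (g • 𝟙 T.X₃) n y)
    obtain ⟨x, hx1, hx2⟩ := cexists (g • 𝟙 T.X₂) n p q
    refine ⟨x, ?_⟩
    apply cext
    · refine ((coneFunctor_map_f_hom g T.g n x).1).trans ?_
      rw [hx1, hp]
    · refine ((coneFunctor_map_f_hom g T.g n x).2).trans ?_
      rw [hx2, hq]
  refine ShortComplex.ShortExact.mk' ?_ ?_ ?_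
  · rw [ShortComplex.moduleCat_exact_iff]
    exact e1
  · rw [ModuleCat.mono_iff_injective]
    exact e2
  · rw [ModuleCat.epi_iff_surjective]
    exact e3

/-- The Koszul complex as a functor of the module. -/
noncomputable def koszulFunctor : List A → (ModuleCat.{u} A ⥤ CochainComplex (ModuleCat.{u} A) ℤ)
  | [] => HomologicalComplex.single (ModuleCat.{u} A) (ComplexShape.up ℤ) 0
  | f :: fs => koszulFunctor fs ⋙ coneFunctor f

theorem koszulFunctor_obj (fs : List A) (M : ModuleCat.{u} A) :
    (koszulFunctor fs).obj M = CohIII.koszulCx M fs := by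
  induction fs with
  | nil => rfl
  | cons f fs ih =>
    show mappingCone (f • 𝟙 ((koszulFunctor fs).obj M)) = mappingCone (f • 𝟙 (CohIII.koszulCx M fs))
    rw [ih]

theorem koszulFunctor_preservesZero (fs : List A) :
    (koszulFunctor (A := A) fs).PreservesZeroMorphisms := by
  induction fs with
  | nil => exact inferInstanceAs
      (HomologicalComplex.single (ModuleCat.{u} A) (ComplexShape.up ℤ) 0).PreservesZeroMorphisms
  | cons f fs ih =>
    have := ih
    exact inferInstanceAs (koszulFunctor fs ⋙ coneFunctor f).PreservesZeroMorphisms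

instance (fs : List A) : (koszulFunctor (A := A) fs).PreservesZeroMorphisms :=
  koszulFunctor_preservesZero fs

theorem koszulFunctor_shortExact (fs : List A) (S : ShortComplex (ModuleCat.{u} A))
    (hS : S.ShortExact) : (S.map (koszulFunctor fs)).ShortExact := by
  induction fs with
  | nil =>
    exact hS.map_of_exact (HomologicalComplex.single (ModuleCat.{u} A) (ComplexShape.up ℤ) 0)
  | cons f fs ih =>
    have h := coneFunctor_shortExact f (S.map (koszulFunctor fs)) ih
    exact h

theorem coneFunctor_map_smul (g f : A) (K : CochainComplex (ModuleCat.{u} A) ℤ) :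
    (coneFunctor g).map (f • 𝟙 K) = f • 𝟙 _ := by
  ext n x
  apply cext
  · rw [(coneFunctor_map_f_hom g (f • 𝟙 K) n x).1]
    simp only [HomologicalComplex.smul_f_apply, HomologicalComplex.id_f, ModuleCat.hom_smul,
      ModuleCat.hom_id, LinearMap.smul_apply, LinearMap.id_coe, id_eq]
    exact (LinearMap.map_smul _ _ _).symm
  · rw [(coneFunctor_map_f_hom g (f • 𝟙 K) n x).2]
    simp only [HomologicalComplex.smul_f_apply, HomologicalComplex.id_f, ModuleCat.hom_smul,
      ModuleCat.hom_id, LinearMap.smul_apply, LinearMap.id_coe, id_eq]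
    exact (LinearMap.map_smul _ _ _).symm

theorem koszulFunctor_map_smul (fs : List A) (f : A) (M : ModuleCat.{u} A) :
    (koszulFunctor fs).map (f • 𝟙 M) = f • 𝟙 _ := by
  induction fs with
  | nil =>
    show (HomologicalComplex.single (ModuleCat.{u} A) (ComplexShape.up ℤ) 0).map (f • 𝟙 M) =
      f • 𝟙 ((HomologicalComplex.single (ModuleCat.{u} A) (ComplexShape.up ℤ) 0).obj M)
    apply HomologicalComplex.from_single_hom_ext
    rw [HomologicalComplex.single_map_f_self]
    simp
  | cons g fs ih =>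
    show (coneFunctor g).map ((koszulFunctor fs).map (f • 𝟙 M)) = _
    rw [ih]
    exact coneFunctor_map_smul g f _

/-- the short exact sequence `0 → M → M → M/fM → 0` for an `M`-regular element. -/
noncomputable def regSC (M : Type u) [AddCommGroup M] [Module A M] (f : A) :
    ShortComplex (ModuleCat.{u} A) :=
  ShortComplex.mk (f • 𝟙 (ModuleCat.of A M))
    (ModuleCat.ofHom (f • (⊤ : Submodule A M)).mkQ) (by
      ext x
      simp only [ModuleCat.hom_comp, ModuleCat.hom_smul, ModuleCat.hom_id, ModuleCat.hom_ofHom,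
        LinearMap.comp_apply, LinearMap.smul_apply, LinearMap.id_coe, id_eq, ModuleCat.hom_zero,
        LinearMap.zero_apply, Submodule.mkQ_apply, Submodule.Quotient.mk_eq_zero]
      exact Submodule.smul_mem_pointwise_smul x f ⊤ Submodule.mem_top)

theorem regSC_shortExact (M : Type u) [AddCommGroup M] [Module A M] (f : A)
    (hf : IsSMulRegular M f) : (regSC M f).ShortExact := by
  refine ShortComplex.ShortExact.mk' ?_ ?_ ?_
  · rw [ShortComplex.moduleCat_exact_iff]
    intro (y : M) hy
    have hy' : y ∈ f • (⊤ : Submodule A M) :=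
      (Submodule.Quotient.mk_eq_zero (f • (⊤ : Submodule A M))).mp hy
    obtain ⟨m, -, hm⟩ := (Submodule.mem_smul_pointwise_iff_exists _ _ _).mp hy'
    exact ⟨m, hm⟩
  · rw [ModuleCat.mono_iff_injective]
    intro x y hxy
    exact hf hxy
  · rw [ModuleCat.epi_iff_surjective]
    exact Submodule.mkQ_surjective _

theorem isZero_homology_cone_congr {K : CochainComplex (ModuleCat.{u} A) ℤ} (φ ψ : K ⟶ K)
    (h : φ = ψ) (n : ℤ) (hz : IsZero ((mappingCone φ).homology n)) :
    IsZero ((mappingCone ψ).homology n) := by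
  subst h
  exact hz

theorem isZero_homology_koszulFunctor (fs : List A) :
    ∀ (M : Type u) [AddCommGroup M] [Module A M], RingTheory.Sequence.IsWeaklyRegular M fs →
      ∀ n : ℤ, n ≠ 0 → IsZero (((koszulFunctor fs).obj (ModuleCat.of A M)).homology n) := by
  induction fs with
  | nil =>
    intro M _ _ _ n hn
    exact HomologicalComplex.isZero_single_obj_homology (ComplexShape.up ℤ) 0 _ n hn
  | cons f fs ih =>
    intro M _ _ hreg n hn
    rw [RingTheory.Sequence.isWeaklyRegular_cons_iff] at hreg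
    obtain ⟨hf, hreg'⟩ := hreg
    have hS := regSC_shortExact M f hf
    have hT := koszulFunctor_shortExact fs _ hS
    have hq := mappingCone.quasiIso_descShortComplex hT
    have hz : IsZero ((((regSC M f).map (koszulFunctor fs)).X₃).homology n) :=
      ih (QuotSMulTop f M) hreg' n hn
    have hz' : IsZero ((mappingCone ((regSC M f).map (koszulFunctor fs)).f).homology n) :=
      IsZero.of_iso hz (isoOfQuasiIsoAt (mappingCone.descShortComplex _) n)
    exact isZero_homology_cone_congr _ _ (koszulFunctor_map_smul fs f _) n hz'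

theorem isZero_koszulH_of_isWeaklyRegular (fs : List A) (M : Type u) [AddCommGroup M] [Module A M]
    (hreg : RingTheory.Sequence.IsWeaklyRegular M fs) (n : ℤ) (hn : n ≠ 0) :
    IsZero ((CohIII.koszulCx (ModuleCat.of A M) fs).homology n) := by
  rw [← koszulFunctor_obj]
  exact isZero_homology_koszulFunctor fs M hreg n hn

end Groth.Agent.H12.KoszulReg
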