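import Groth.Agent.H12.QCohExt

/-!
helper12: on an arbitrary scheme, quasi-coherent modules are closed under kernels, cokernels,
images, finite biproducts and fibre products in `X.Modules`.
-/

set_option autoImplicit false
universe u

noncomputable section

namespace Groth.Agent.H12.QCohAbelian

open CategoryTheory CategoryTheory.Limits Opposite TopologicalSpace AlgebraicGeometry
open Groth.Agent.H18 Groth.Agent.H12.QCohExt

variable {X : Scheme.{u}}

theorem app_injective_of_mono {M N : X.Modules} (f : M ⟶ N) [Mono f] (U : X.Opens) :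
    Function.Injective (f.app U) := by
  have h : Mono ((secFunctor U).map f) := inferInstance
  exact (AddCommGrpCat.mono_iff_injective _).mp h

theorem app_exact_of_exact_of_mono (S : ShortComplex X.Modules) (hS : S.Exact) [Mono S.f]
    (U : X.Opens) (y : Γ(S.X₂, U)) (hy : S.g.app U y = 0) : ∃ x : Γ(S.X₁, U), S.f.app U x = y := by
  have h : (S.map (secFunctor U)).Exact :=
    hS.map_of_mono_of_preservesKernel (secFunctor U) inferInstance inferInstance
  rw [ShortComplex.ab_exact_iff] at h
  exact h y hy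

/-- the kernel part of a left exact sequence `0 → X₁ → X₂ → X₃` with `X₂`, `X₃` quasi-coherent. -/
theorem isQuasicoherent_of_exact_of_mono (S : ShortComplex X.Modules) (hS : S.Exact) [Mono S.f]
    [S.X₂.IsQuasicoherent] [S.X₃.IsQuasicoherent] : S.X₁.IsQuasicoherent := by
  refine isQuasicoherent_of_localizes S.X₁ (ι := X.affineOpens) (fun U => U.1) ?_ (fun U => U.2)
    ?_ ?_
  · exact X.isBasis_affineOpens.isOpenCover
  · intro U r y
    have hD : X.basicOpen r ≤ U.1 := X.basicOpen_le r
    set ρ := X.presheaf.map (homOfLE hD).op r with hρ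
    obtain ⟨n, z, hz⟩ := exists_pow_smul_eq_res_of_isQuasicoherent S.X₂ U.2 r
      (S.f.app (X.basicOpen r) y)
    have h0 : mres S.X₃ hD (S.g.app U.1 z) = 0 := by
      rw [app_mres, ← hz, Scheme.Modules.Hom.app_smul, app_zero_apply, smul_zero]
    obtain ⟨m, hm⟩ := exists_pow_smul_eq_zero_of_isQuasicoherent S.X₃ U.2 r _ h0
    have h1 : S.g.app U.1 (r ^ m • z) = 0 := by
      rw [Scheme.Modules.Hom.app_smul, hm]
    obtain ⟨w, hw⟩ := app_exact_of_exact_of_mono S hS _ _ h1
    refine ⟨m + n, w, ?_⟩
    apply app_injective_of_mono S.f (X.basicOpen r)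
    rw [← app_mres, hw, mres_smul, map_pow, ← hz, Scheme.Modules.Hom.app_smul, pow_add, mul_smul]
  · intro U r x hx
    have hD : X.basicOpen r ≤ U.1 := X.basicOpen_le r
    have h0 : mres S.X₂ hD (S.f.app U.1 x) = 0 := by
      rw [app_mres, hx, map_zero]
    obtain ⟨n, hn⟩ := exists_pow_smul_eq_zero_of_isQuasicoherent S.X₂ U.2 r _ h0
    refine ⟨n, ?_⟩
    apply app_injective_of_mono S.f U.1
    rw [Scheme.Modules.Hom.app_smul, hn, map_zero]

/-- the quotient in a short exact sequence with `X₁`, `X₂` quasi-coherent. -/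
theorem isQuasicoherent_X₃_of_shortExact (S : ShortComplex X.Modules) (hS : S.ShortExact)
    [S.X₁.IsQuasicoherent] [S.X₂.IsQuasicoherent] : S.X₃.IsQuasicoherent := by
  refine isQuasicoherent_of_localizes S.X₃ (ι := X.affineOpens) (fun U => U.1) ?_ (fun U => U.2)
    ?_ ?_
  · exact X.isBasis_affineOpens.isOpenCover
  · intro U r y
    have hD : X.basicOpen r ≤ U.1 := X.basicOpen_le r
    obtain ⟨y', rfl⟩ := app_surjective_of_isAffineOpen S hS (U.2.basicOpen r) y
    obtain ⟨n, z, hz⟩ := exists_pow_smul_eq_res_of_isQuasicoherent S.X₂ U.2 r y'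
    refine ⟨n, S.g.app U.1 z, ?_⟩
    rw [app_mres, ← hz, Scheme.Modules.Hom.app_smul]
  · intro U r x hx
    have hD : X.basicOpen r ≤ U.1 := X.basicOpen_le r
    set ρ := X.presheaf.map (homOfLE hD).op r with hρ
    obtain ⟨x', rfl⟩ := app_surjective_of_isAffineOpen S hS U.2 x
    have h0 : S.g.app (X.basicOpen r) (mres S.X₂ hD x') = 0 := by
      rw [← app_mres, hx]
    obtain ⟨v, hv⟩ := app_exact S hS _ _ h0
    obtain ⟨n, w, hw⟩ := exists_pow_smul_eq_res_of_isQuasicoherent S.X₁ U.2 r v
    have h1 : mres S.X₂ hD (r ^ n • x' - S.f.app U.1 w) = 0 := by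
      rw [map_sub, mres_smul, map_pow, app_mres, ← hw, Scheme.Modules.Hom.app_smul, hv, sub_self]
    obtain ⟨m, hm⟩ := exists_pow_smul_eq_zero_of_isQuasicoherent S.X₂ U.2 r _ h1
    refine ⟨m + n, ?_⟩
    have h2 : r ^ (m + n) • x' = S.f.app U.1 (r ^ m • w) := by
      rw [smul_sub, sub_eq_zero] at hm
      rw [pow_add, mul_smul, hm, Scheme.Modules.Hom.app_smul]
    rw [← Scheme.Modules.Hom.app_smul, h2, app_zero_apply]

theorem isQuasicoherent_kernel {M N : X.Modules} [M.IsQuasicoherent] [N.IsQuasicoherent]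
    (φ : M ⟶ N) : (kernel φ).IsQuasicoherent := by
  let S : ShortComplex X.Modules := ShortComplex.mk (kernel.ι φ) φ (kernel.condition φ)
  have hS : S.Exact := ShortComplex.exact_of_f_is_kernel S (kernelIsKernel φ)
  have : Mono S.f := inferInstanceAs (Mono (kernel.ι φ))
  have : S.X₂.IsQuasicoherent := inferInstanceAs M.IsQuasicoherent
  have : S.X₃.IsQuasicoherent := inferInstanceAs N.IsQuasicoherent
  exact isQuasicoherent_of_exact_of_mono S hS

theorem isQuasicoherent_coimage {M N : X.Modules} [M.IsQuasicoherent] [N.IsQuasicoherent]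
    (φ : M ⟶ N) : (Abelian.coimage φ).IsQuasicoherent := by
  have hK : (kernel φ).IsQuasicoherent := isQuasicoherent_kernel φ
  let S : ShortComplex X.Modules :=
    ShortComplex.mk (kernel.ι φ) (cokernel.π (kernel.ι φ)) (cokernel.condition _)
  have hS : S.ShortExact := by
    have h1 : S.Exact := ShortComplex.exact_of_g_is_cokernel S (cokernelIsCokernel _)
    have : Mono S.f := inferInstanceAs (Mono (kernel.ι φ))
    have : Epi S.g := inferInstanceAs (Epi (cokernel.π (kernel.ι φ)))
    exact ShortComplex.ShortExact.mk h1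
  have : S.X₁.IsQuasicoherent := hK
  have : S.X₂.IsQuasicoherent := inferInstanceAs M.IsQuasicoherent
  exact isQuasicoherent_X₃_of_shortExact S hS

theorem isQuasicoherent_cokernel {M N : X.Modules} [M.IsQuasicoherent] [N.IsQuasicoherent]
    (φ : M ⟶ N) : (cokernel φ).IsQuasicoherent := by
  have hI : (Abelian.coimage φ).IsQuasicoherent := isQuasicoherent_coimage φ
  let S₀ : ShortComplex X.Modules := ShortComplex.mk φ (cokernel.π φ) (cokernel.condition φ)
  have hS₀ : S₀.Exact := ShortComplex.exact_of_g_is_cokernel S₀ (cokernelIsCokernel φ)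
  have hz : Abelian.factorThruCoimage φ ≫ cokernel.π φ = 0 := by
    rw [← cancel_epi (Abelian.coimage.π φ), ← Category.assoc, Abelian.coimage.fac, comp_zero]
    exact cokernel.condition φ
  let S : ShortComplex X.Modules :=
    ShortComplex.mk (Abelian.factorThruCoimage φ) (cokernel.π φ) hz
  let α : S₀ ⟶ S :=
    { τ₁ := Abelian.coimage.π φ
      τ₂ := 𝟙 _
      τ₃ := 𝟙 _
      comm₁₂ := by
        show Abelian.coimage.π φ ≫ Abelian.factorThruCoimage φ = φ ≫ 𝟙 _
        rw [Abelian.coimage.fac, Category.comp_id]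
      comm₂₃ := by
        show 𝟙 _ ≫ cokernel.π φ = cokernel.π φ ≫ 𝟙 _
        rw [Category.id_comp, Category.comp_id] }
  have : Epi α.τ₁ := inferInstanceAs (Epi (Abelian.coimage.π φ))
  have : IsIso α.τ₂ := inferInstanceAs (IsIso (𝟙 N))
  have : Mono α.τ₃ := inferInstanceAs (Mono (𝟙 (cokernel φ)))
  have hSe : S.Exact := (ShortComplex.exact_iff_of_epi_of_isIso_of_mono α).mp hS₀
  have hS : S.ShortExact := by
    have : Mono S.f := inferInstanceAs (Mono (Abelian.factorThruCoimage φ))
    have : Epi S.g := inferInstanceAs (Epi (cokernel.π φ))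
    exact ShortComplex.ShortExact.mk hSe
  have : S.X₁.IsQuasicoherent := hI
  have : S.X₂.IsQuasicoherent := inferInstanceAs N.IsQuasicoherent
  exact isQuasicoherent_X₃_of_shortExact S hS

theorem isQuasicoherent_of_iso {M N : X.Modules} (e : M ≅ N) [M.IsQuasicoherent] :
    N.IsQuasicoherent :=
  (SheafOfModules.isQuasicoherent X.ringCatSheaf).prop_of_iso e inferInstance

theorem isQuasicoherent_image {M N : X.Modules} [M.IsQuasicoherent] [N.IsQuasicoherent]
    (φ : M ⟶ N) : (Abelian.image φ).IsQuasicoherent := by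
  have hI : (Abelian.coimage φ).IsQuasicoherent := isQuasicoherent_coimage φ
  exact isQuasicoherent_of_iso (Abelian.coimageIsoImage φ)

theorem isQuasicoherent_biprod (M N : X.Modules) [M.IsQuasicoherent] [N.IsQuasicoherent] :
    (M ⊞ N).IsQuasicoherent := by
  let S : ShortComplex X.Modules := ShortComplex.mk (biprod.inl : M ⟶ M ⊞ N) biprod.snd (by simp)
  have hS : S.ShortExact := (ShortComplex.Splitting.ofHasBinaryBiproduct M N).shortExact
  have : S.X₁.IsQuasicoherent := inferInstanceAs M.IsQuasicoherent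
  have : S.X₃.IsQuasicoherent := inferInstanceAs N.IsQuasicoherent
  exact isQuasicoherent_of_shortExact S hS

/-- fibre products of quasi-coherent modules are quasi-coherent. -/
theorem isQuasicoherent_pullback {M N P : X.Modules} [M.IsQuasicoherent] [N.IsQuasicoherent]
    [P.IsQuasicoherent] (f : M ⟶ P) (g : N ⟶ P) : (pullback f g).IsQuasicoherent := by
  have hB : (M ⊞ N).IsQuasicoherent := isQuasicoherent_biprod M N
  have hK : (kernel (biprod.desc f (-g))).IsQuasicoherent := isQuasicoherent_kernel _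
  let e : pullback f g ≅ kernel (biprod.desc f (-g)) :=
    IsLimit.conePointUniqueUpToIso
      (Abelian.PullbackToBiproductIsKernel.isLimitPullbackToBiproduct f g)
      (limit.isLimit (parallelPair (biprod.desc f (-g)) 0))
  exact isQuasicoherent_of_iso e.symm

end Groth.Agent.H12.QCohAbelian
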