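import Groth.Agent.H12.QCohAbelian

/-!
helper12: vanishing and isomorphisms of quasi-coherent modules can be tested on sections over an
affine open cover.
-/

set_option autoImplicit false
universe u

noncomputable section

namespace Groth.Agent.H12.QCohIso

open CategoryTheory CategoryTheory.Limits Opposite TopologicalSpace AlgebraicGeometry
open Groth.Agent.H18 Groth.Agent.H12.QCohExt Groth.Agent.H12.QCohAbelian

variable {X : Scheme.{u}}

theorem modules_eq_of_locally_eq (F : X.Modules) {W : X.Opens} (s t : Γ(F, W))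
    (h : ∀ x ∈ W, ∃ (V : X.Opens) (hV : V ≤ W), x ∈ V ∧ mres F hV s = mres F hV t) : s = t := by
  choose V hV hxV hst using h
  let Fs : TopCat.Sheaf AddCommGrpCat X.toTopCat := ⟨F.presheaf, F.isSheaf⟩
  refine TopCat.Sheaf.eq_of_locally_eq' Fs (fun x : W => V x.1 x.2) W
    (fun x => homOfLE (hV x.1 x.2)) ?_ s t (fun x => hst x.1 x.2)
  intro x hx
  exact Opens.mem_iSup.mpr ⟨⟨x, hx⟩, hxV x hx⟩

/-- sections of a quasi-coherent module vanish everywhere if they vanish on an affine cover. -/
theorem sections_eq_zero (Q : X.Modules) [Q.IsQuasicoherent] {ι : Type*} (U : ι → X.Opens)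
    (hU : ∀ x : X, ∃ i, x ∈ U i) (hUa : ∀ i, IsAffineOpen (U i))
    (h0 : ∀ i (t : Γ(Q, U i)), t = 0) (W : X.Opens) (s : Γ(Q, W)) : s = 0 := by
  apply modules_eq_of_locally_eq Q s 0
  intro x hxW
  obtain ⟨i, hxi⟩ := hU x
  obtain ⟨r, hr, hxr⟩ := (hUa i).exists_basicOpen_le ⟨x, hxW⟩ hxi
  refine ⟨X.basicOpen r, hr, hxr, ?_⟩
  rw [map_zero]
  have hD : X.basicOpen r ≤ U i := X.basicOpen_le r
  obtain ⟨n, t, ht⟩ := exists_pow_smul_eq_res_of_isQuasicoherent Q (hUa i) r (mres Q hr s)
  rw [h0 i t, map_zero] at ht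
  have hu : IsUnit (X.presheaf.map (homOfLE hD).op r) := RingedSpace.isUnit_res_basicOpen _ r
  have hu' : IsUnit ((X.presheaf.map (homOfLE hD).op r) ^ n) := hu.pow n
  obtain ⟨v, hv⟩ := hu'
  rw [← hv] at ht
  calc mres Q hr s = (v⁻¹ : (Γ(X, X.basicOpen r))ˣ) • (v • mres Q hr s) := by
        rw [smul_smul, inv_mul_cancel, one_smul]
    _ = 0 := by
        rw [show (v • mres Q hr s) = ((v : Γ(X, X.basicOpen r)) • mres Q hr s) from rfl, ht,
          smul_zero]

theorem isZero_of_sections_eq_zero (Q : X.Modules) [Q.IsQuasicoherent] {ι : Type*}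
    (U : ι → X.Opens) (hU : ∀ x : X, ∃ i, x ∈ U i) (hUa : ∀ i, IsAffineOpen (U i))
    (h0 : ∀ i (t : Γ(Q, U i)), t = 0) : IsZero Q := by
  rw [IsZero.iff_id_eq_zero]
  apply Scheme.Modules.hom_ext
  intro W
  apply AddCommGrpCat.hom_ext
  apply AddMonoidHom.ext
  intro s
  have h1 := sections_eq_zero Q U hU hUa h0 W s
  rw [h1, map_zero, map_zero]

/-- a morphism of quasi-coherent modules which is bijective on sections over an affine open
cover is an isomorphism. -/
theorem isIso_of_bijective_on_cover {M N : X.Modules} [M.IsQuasicoherent] [N.IsQuasicoherent]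
    (φ : M ⟶ N) {ι : Type*} (U : ι → X.Opens) (hU : ∀ x : X, ∃ i, x ∈ U i)
    (hUa : ∀ i, IsAffineOpen (U i)) (hbij : ∀ i, Function.Bijective (φ.app (U i))) :
    IsIso φ := by
  have hK : (kernel φ).IsQuasicoherent := isQuasicoherent_kernel φ
  have hK0 : IsZero (kernel φ) := by
    refine isZero_of_sections_eq_zero _ U hU hUa ?_
    intro i t
    apply app_injective_of_mono (kernel.ι φ) (U i)
    rw [map_zero]
    apply (hbij i).1
    rw [map_zero]
    have : (kernel.ι φ).app (U i) ≫ φ.app (U i) = 0 := by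
      rw [← Scheme.Modules.Hom.comp_app, kernel.condition]
      rfl
    exact congrArg (fun k => k.hom t) this
  have hmono : Mono φ := Preadditive.mono_of_kernel_zero (hK0.eq_of_src _ _)
  have hC : (cokernel φ).IsQuasicoherent := isQuasicoherent_cokernel φ
  let S : ShortComplex X.Modules := ShortComplex.mk φ (cokernel.π φ) (cokernel.condition φ)
  have hS : S.ShortExact := by
    have h1 : S.Exact := ShortComplex.exact_of_g_is_cokernel S (cokernelIsCokernel φ)
    have : Mono S.f := hmono
    have : Epi S.g := inferInstanceAs (Epi (cokernel.π φ))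
    exact ShortComplex.ShortExact.mk h1
  have hC0 : IsZero (cokernel φ) := by
    refine isZero_of_sections_eq_zero _ U hU hUa ?_
    intro i t
    have : S.X₁.IsQuasicoherent := inferInstanceAs M.IsQuasicoherent
    obtain ⟨y, rfl⟩ := app_surjective_of_isAffineOpen S hS (hUa i) t
    obtain ⟨x, rfl⟩ := (hbij i).2 y
    exact app_zero_apply S (U i) x
  have hepi : Epi φ := Preadditive.epi_of_cokernel_zero (hC0.eq_of_tgt _ _)
  exact isIso_of_mono_of_epi φ

end Groth.Agent.H12.QCohIso
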