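import Groth.Agent.H12.AffHomCrit3
import Groth.Agent.Lead.Coh.LocTop
import Groth.Agent.Lead.Coh.LocPairInj
/-
helper12: classes killed by powers of `f` and affineness of `X_f` (EGA III 1.4.17-type statements),
on top of the lead's localization library.

Main results (namespace `Groth.Agent.H12.PowKill`):
* `exists_pow_smul_eq_zero_of_isAffineOpen` : `X` qcqs, `X_f` affine, `M` qcoh, `i > 0`: every class
  in `H^i(X, M)` is killed by a power of `f`.
* `smulAb_naturality`, `smulMap`, `exists_lift_pow_smul` (connecting map is linear).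
* `isAffineOpen_basicOpen_of_pow_kill` : converse for quasi-compact `X_f`.
-/
set_option autoImplicit false
universe u
noncomputable section
namespace Groth.Agent.H12.PowKill
open CategoryTheory CategoryTheory.Limits Opposite TopologicalSpace AlgebraicGeometry Abelian
open Groth.Agent.Lead.Cech Groth.Agent.Lead.Coh Groth.Agent.H18

variable {X : Scheme.{u}}

/-- (i): if `X_f` is affine, every class of positive degree is killed by a power of `f`. -/
theorem exists_pow_smul_eq_zero_of_isAffineOpen [CompactSpace X] [QuasiSeparatedSpace X]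
    (f : Γ(X, ⊤)) (hf : IsAffineOpen (X.basicOpen f)) (M : X.Modules) [M.IsQuasicoherent]
    (i : ℕ) (hi : 0 < i) (ξ : Coh.HH X M i) : ∃ n : ℕ, f ^ n • ξ = 0 := by
  obtain ⟨e⟩ := nonempty_linearEquiv_HH_EM M i
  obtain ⟨j, rfl⟩ : ∃ j, i = j + 1 := ⟨i - 1, by omega⟩
  have hx : resHom (T := X) (le_top : X.basicOpen f ≤ ⊤) (j + 1) (e ξ) = 0 :=
    hVanish_of_isAffineOpen X M hf j _
  obtain ⟨k, hk⟩ := exists_pow_smul_eq_zero_of_res M f ⊤ (X.basicOpen f) isCompact_univ
    (IsQuasiSeparated.of_quasiSeparatedSpace _) le_top inf_le_right (j + 1) (e ξ) hx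
  refine ⟨k, ?_⟩
  apply e.injective
  rw [map_smul, hk, map_zero]

/-- multiplication by a global function commutes with morphisms of modules. -/
theorem smulAb_naturality {M N : X.Modules} (φ : M ⟶ N) (r : Coh.Γtop X) :
    (SheafOfModules.toSheaf X.ringCatSheaf).map φ ≫ Coh.smulAb N r =
      Coh.smulAb M r ≫ (SheafOfModules.toSheaf X.ringCatSheaf).map φ := by
  ext U m
  change (Coh.smulAb N r).hom.app U ((φ.val.app U).hom m) =
    (φ.val.app U).hom ((Coh.smulAb M r).hom.app U m)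
  rw [Coh.smulAb_app, Coh.smulAb_app]
  exact ((φ.val.app U).hom.map_smul _ m).symm


/-- the endomorphism of the underlying short complex of abelian sheaves given by a global
function. -/
def smulMap (E : ShortComplex X.Modules) (r : Coh.Γtop X) :
    E.map (SheafOfModules.toSheaf X.ringCatSheaf) ⟶ E.map (SheafOfModules.toSheaf X.ringCatSheaf) where
  τ₁ := Coh.smulAb E.X₁ r
  τ₂ := Coh.smulAb E.X₂ r
  τ₃ := Coh.smulAb E.X₃ r
  comm₁₂ := (smulAb_naturality E.f r).symm
  comm₂₃ := (smulAb_naturality E.g r).symm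

theorem resTop_top (r : Coh.Γtop X) : Coh.resTop X (op ⊤) r = r := by
  exact congrArg (fun φ => (RingCat.Hom.hom φ) r) (X.ringCatSheaf.obj.map_id (op (⊤ : X.Opens)))

/-- if the classes in `H¹` of the kernel are killed by powers of `f`, then a power of `f` times
a global section of the quotient lifts. -/
theorem exists_lift_pow_smul (E : ShortComplex X.Modules) (hE : E.ShortExact) (f : Γ(X, ⊤))
    (hkill : ∀ ζ : EM E.X₁ ⊤ 1, ∃ n : ℕ, f ^ n • ζ = 0) (s : Γ(E.X₃, ⊤)) :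
    ∃ (m : ℕ) (w : Γ(E.X₂, ⊤)), (E.g.app ⊤).hom w = f ^ m • s := by
  have hS := Groth.Agent.H49.SectionsExact.shortExact_toSheaf E hE
  let x₃ := secEquiv (⊤ : X.Opens) (Coh.toAb E.X₃) s
  let ξ : EM E.X₁ ⊤ 1 := x₃.comp hS.extClass (zero_add 1)
  obtain ⟨m, hm⟩ := hkill ξ
  have hm' : ξ.comp (Ext.mk₀ (Coh.smulAb E.X₁ (f ^ m))) (add_zero 1) = 0 := hm
  have h1 : secEquiv (⊤ : X.Opens) (Coh.toAb E.X₃) (f ^ m • s) =
      x₃.comp (Ext.mk₀ (Coh.smulAb E.X₃ (f ^ m))) (add_zero 0) := by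
    rw [secEquiv_naturality]
    congr 1
    have := Coh.smulAb_app E.X₃ (f ^ m) (op ⊤) s
    rw [resTop_top] at this
    exact this.symm
  have key : (secEquiv (⊤ : X.Opens) (Coh.toAb E.X₃) (f ^ m • s)).comp hS.extClass
      (zero_add 1) = 0 := by
    have h2 := ShortComplex.ShortExact.extClass_naturality hS hS (smulMap E (f ^ m))
    have h2' : (Ext.mk₀ (Coh.smulAb E.X₃ (f ^ m))).comp hS.extClass (zero_add 1) =
        hS.extClass.comp (Ext.mk₀ (Coh.smulAb E.X₁ (f ^ m))) (add_zero 1) := h2.symm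
    have h3 : (x₃.comp (Ext.mk₀ (Coh.smulAb E.X₃ (f ^ m))) (add_zero 0)).comp hS.extClass
        (zero_add 1) = x₃.comp ((Ext.mk₀ (Coh.smulAb E.X₃ (f ^ m))).comp hS.extClass
          (zero_add 1)) (zero_add 1) :=
      Ext.comp_assoc x₃ (Ext.mk₀ (Coh.smulAb E.X₃ (f ^ m))) hS.extClass (add_zero 0)
        (zero_add 1) (by omega)
    have h4 : x₃.comp (hS.extClass.comp (Ext.mk₀ (Coh.smulAb E.X₁ (f ^ m))) (add_zero 1))
        (zero_add 1) = (x₃.comp hS.extClass (zero_add 1)).comp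
          (Ext.mk₀ (Coh.smulAb E.X₁ (f ^ m))) (add_zero 1) :=
      (Ext.comp_assoc x₃ hS.extClass (Ext.mk₀ (Coh.smulAb E.X₁ (f ^ m))) (zero_add 1)
        (add_zero 1) (by omega)).symm
    rw [h1, h3, h2']
    exact h4.trans hm'
  obtain ⟨x₂, hx₂⟩ := Ext.covariant_sequence_exact₃ _ hS _ rfl key
  obtain ⟨w, rfl⟩ := (secEquiv (⊤ : X.Opens) (Coh.toAb E.X₂)).surjective x₂
  refine ⟨m, w, ?_⟩
  apply (secEquiv (⊤ : X.Opens) (Coh.toAb E.X₃)).injective
  have h3 := secEquiv_naturality (⊤ : X.Opens)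
    ((SheafOfModules.toSheaf X.ringCatSheaf).map E.g) w
  exact h3.symm.trans hx₂


/-- (ii): if `X_f` is quasi-compact and the classes in `H¹` of the quasi-coherent ideals are killed
by powers of `f`, then `X_f` is affine. -/
theorem isAffineOpen_basicOpen_of_pow_kill [CompactSpace X] [QuasiSeparatedSpace X] (f : Γ(X, ⊤))
    (hc : IsCompact (X.basicOpen f : Set X))
    (h : ∀ (J : X.Modules) (ι : J ⟶ Coh.structureModule X), Mono ι → J.IsQuasicoherent →
        ∀ ζ : Coh.HH X J 1, ∃ n : ℕ, f ^ n • ζ = 0) : IsAffineOpen (X.basicOpen f) := by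
  refine Groth.Agent.H12.AffHomCrit2.isAffineOpen_of_sectionsExactOnIdeals _ hc ?_
  intro E hE h1 h2 h3 i hi z
  have hmf : Mono E.f := hE.mono_f
  obtain ⟨n, s, hs⟩ := Groth.Agent.H8.exists_res_eq_pow_smul_of_qcqs E.X₃ (Y := ⊤)
    isCompact_univ (IsQuasiSeparated.of_quasiSeparatedSpace _) f z
  have hkill : ∀ ζ : EM E.X₁ ⊤ 1, ∃ n : ℕ, f ^ n • ζ = 0 := by
    intro ζ
    obtain ⟨e⟩ := nonempty_linearEquiv_HH_EM E.X₁ 1
    obtain ⟨k, hk⟩ := h E.X₁ (E.f ≫ i) (mono_comp _ _) h1 (e.symm ζ)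
    refine ⟨k, ?_⟩
    have := congrArg e hk
    rwa [map_smul, e.apply_symm_apply, map_zero] at this
  obtain ⟨m, w, hw⟩ := exists_lift_pow_smul E hE f hkill s
  obtain ⟨fr, hfr⟩ : ∃ fr : Γ(X, X.basicOpen f),
      fr = (X.presheaf.map (homOfLE (X.basicOpen_le f)).op).hom f := ⟨_, rfl⟩
  have hu : IsUnit fr := by
    rw [hfr]
    exact RingedSpace.isUnit_res_basicOpen _ f
  obtain ⟨v, hv⟩ := hu
  have hs' : mres E.X₃ (X.basicOpen_le f) s = fr ^ n • z := by
    rw [hfr]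
    exact hs
  refine ⟨((v⁻¹ ^ (n + m) : (Γ(X, X.basicOpen f))ˣ) : Γ(X, X.basicOpen f)) •
    mres E.X₂ (X.basicOpen_le f) w, ?_⟩
  rw [Scheme.Modules.Hom.app_smul]
  have h4 : (E.g.app (X.basicOpen f)).hom (mres E.X₂ (X.basicOpen_le f) w) =
      mres E.X₃ (X.basicOpen_le f) ((E.g.app ⊤).hom w) :=
    (Groth.Agent.H12.QCohExt.app_mres E.g (X.basicOpen_le f) w).symm
  rw [h4, hw, mres_smul, map_pow, ← hfr, hs', smul_smul, smul_smul, mul_assoc, ← pow_add, ← hv,
    add_comm m n, Units.val_pow_eq_pow_val, ← mul_pow, Units.inv_mul, one_pow, one_smul]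

end Groth.Agent.H12.PowKill
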