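import Mathlib.RingTheory.Flat.Equalizer
import Mathlib.RingTheory.Flat.Basic

set_option autoImplicit false
universe u

namespace Groth.Agent.H12

open TensorProduct

variable {R : Type u} [CommRing R] {M N P : Type u} [AddCommGroup M] [Module R M]
  [AddCommGroup N] [Module R N] [AddCommGroup P] [Module R P]

/-- In a short exact sequence `0 → M → N → P → 0` with `N` and `P` flat, `M` is flat. -/
theorem flat_of_exact_left (g : M →ₗ[R] N) (f : N →ₗ[R] P) (hg : Function.Injective g)
    (hf : Function.Surjective f) (H : Function.Exact g f) [Module.Flat R N] [Module.Flat R P] :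
    Module.Flat R M := by
  rw [Module.Flat.iff_lTensor_preserves_injective_linearMap]
  intro X' X _ _ _ _ j hj
  -- M ⊗ X' → N ⊗ X' → N ⊗ X is injective and factors through M ⊗ X' → M ⊗ X
  have h1 : Function.Injective (g.rTensor X') := by
    rw [← LinearMap.lTensor_inj_iff_rTensor_inj]
    exact LinearMap.lTensor_injective_of_exact_of_flat f hf g hg H X'
  have h2 : Function.Injective (j.lTensor N) :=
    Module.Flat.lTensor_preserves_injective_linearMap j hj
  have h3 : Function.Injective ((j.lTensor N) ∘ₗ (g.rTensor X')) := h2.comp h1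
  rw [LinearMap.lTensor_comp_rTensor, ← LinearMap.rTensor_comp_lTensor] at h3
  exact Function.Injective.of_comp h3

/-- In a short exact sequence `0 → M → N → P → 0` with `M` and `P` flat, `N` is flat. -/
theorem flat_of_exact_middle (g : M →ₗ[R] N) (f : N →ₗ[R] P) (hg : Function.Injective g)
    (hf : Function.Surjective f) (H : Function.Exact g f) [Module.Flat R M] [Module.Flat R P] :
    Module.Flat R N := by
  rw [Module.Flat.iff_lTensor_preserves_injective_linearMap]
  intro X' X _ _ _ _ j hj
  rw [injective_iff_map_eq_zero]
  intro x hx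
  -- image in P ⊗ X' vanishes
  have h1 : j.lTensor P (f.rTensor X' x) = 0 := by
    rw [← LinearMap.comp_apply, LinearMap.lTensor_comp_rTensor, ← LinearMap.rTensor_comp_lTensor,
      LinearMap.comp_apply, hx, map_zero]
  have h2 : f.rTensor X' x = 0 :=
    (map_eq_zero_iff _ (Module.Flat.lTensor_preserves_injective_linearMap j hj)).mp h1
  -- so x comes from M ⊗ X'
  obtain ⟨y, rfl⟩ := (rTensor_exact X' H hf x).mp h2
  -- M ⊗ X → N ⊗ X is injective
  have h3 : Function.Injective (g.rTensor X) := by
    rw [← LinearMap.lTensor_inj_iff_rTensor_inj]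
    exact LinearMap.lTensor_injective_of_exact_of_flat f hf g hg H X
  have h4 : g.rTensor X (j.lTensor M y) = 0 := by
    rw [← LinearMap.comp_apply, LinearMap.rTensor_comp_lTensor, ← LinearMap.lTensor_comp_rTensor,
      LinearMap.comp_apply]
    exact hx
  have h5 : j.lTensor M y = 0 := (map_eq_zero_iff _ h3).mp h4
  have h6 : y = 0 :=
    (map_eq_zero_iff _ (Module.Flat.lTensor_preserves_injective_linearMap j hj)).mp h5
  rw [h6, map_zero]

end Groth.Agent.H12
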