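import Mathlib.Algebra.Module.Submodule.Lattice
import Mathlib.Algebra.Module.LinearMap.Defs
import Mathlib.Algebra.BigOperators.Group.Finset.Basic
import Mathlib.Algebra.Module.Submodule.LinearMap
import Mathlib.Tactic.Abel

set_option autoImplicit false
universe u v w

namespace Groth.Agent.H12

variable {A : Type u} {L : Type v} {P : Type w} [Ring A] [AddCommGroup L] [Module A L]
  [AddCommGroup P] [Module A P]

/-- Successive approximation: if `L` is separated for the filtration `K`, `P` is complete for the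
filtration `Q`, `φ` is compatible with the filtrations, and every element of `K k` is
approximated by `φ (Q k)` modulo `K (k + 1)`, then `K 0 ⊆ φ (Q 0)`. -/
theorem approx_lemma
    (K : ℕ → Submodule A L) (Q : ℕ → Submodule A P)
    (hsep : ∀ x, (∀ m, x ∈ K m) → x = 0)
    (hcomp : ∀ z : ℕ → P, (∀ m, z (m + 1) - z m ∈ Q m) → ∃ y, ∀ m, y - z m ∈ Q m)
    (φ : P →ₗ[A] L)
    (hφ : ∀ k, ∀ y ∈ Q k, φ y ∈ K k)
    (happ : ∀ k, ∀ x ∈ K k, ∃ y ∈ Q k, x - φ y ∈ K (k + 1))
    (x : L) (hx : x ∈ K 0) : ∃ y ∈ Q 0, φ y = x := by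
  classical
  -- the sequence of remainders
  let s : ∀ k : ℕ, {x : L // x ∈ K k} := fun k =>
    Nat.rec ⟨x, hx⟩ (fun k xk =>
      ⟨xk.1 - φ (Classical.choose (happ k xk.1 xk.2)),
        (Classical.choose_spec (happ k xk.1 xk.2)).2⟩) k
  let y : ℕ → P := fun k => Classical.choose (happ k (s k).1 (s k).2)
  have hyQ : ∀ k, y k ∈ Q k := fun k => (Classical.choose_spec (happ k (s k).1 (s k).2)).1
  have hs0 : (s 0).1 = x := rfl
  have hs : ∀ k, (s (k + 1)).1 = (s k).1 - φ (y k) := fun k => rfl
  let z : ℕ → P := fun m => ∑ k ∈ Finset.range m, y k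
  have hz : ∀ m, z (m + 1) - z m ∈ Q m := by
    intro m
    have : z (m + 1) - z m = y m := by
      simp only [z, Finset.sum_range_succ]; abel
    rw [this]; exact hyQ m
  obtain ⟨y', hy'⟩ := hcomp z hz
  have hxz : ∀ m, x - φ (z m) = (s m).1 := by
    intro m
    induction m with
    | zero => simp [z, hs0]
    | succ m ih =>
      have : z (m + 1) = z m + y m := by simp only [z, Finset.sum_range_succ]
      rw [this, map_add, hs, ← ih]; abel
  refine ⟨y', ?_, ?_⟩
  · have := hy' 0
    simpa [z] using this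
  · have h0 : x - φ y' = 0 := by
      apply hsep
      intro m
      have e : x - φ y' = (x - φ (z m)) - φ (y' - z m) := by
        rw [map_sub]; abel
      rw [e, hxz]
      exact (K m).sub_mem (s m).2 (hφ m _ (hy' m))
    exact (sub_eq_zero.mp h0).symm

end Groth.Agent.H12
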