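import Groth.Agent.H12.TCx6

set_option autoImplicit false
universe u v

open CategoryTheory CategoryTheory.Limits MonoidalCategory CohIII

namespace Groth.Agent.H12.TCx
section NatIso
variable {A : Type u} [CommRing A] {ι : Type} {c : ComplexShape ι}
  (P : HomologicalComplex (ModuleCat.{u} A) c) (p : ι)

/-- `H_p(P) ⊗ M → ker (lW ⊗ M)`. -/
noncomputable def hcToKer (M : Type u) [AddCommGroup M] [Module A M] :
    TensorProduct A (Hc P p) M →ₗ[A] LinearMap.ker ((lW P p).rTensor M) :=
  ((Hc P p).subtype.rTensor M).codRestrict _ (by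
    intro x
    rw [LinearMap.mem_ker, ← LinearMap.comp_apply, ← LinearMap.rTensor_comp]
    have : lW P p ∘ₗ (Hc P p).subtype = 0 := by ext y; exact y.2
    rw [this, LinearMap.rTensor_zero, LinearMap.zero_apply])

theorem hcToKer_natural {M N : Type u} [AddCommGroup M] [Module A M] [AddCommGroup N] [Module A N]
    (g : M →ₗ[A] N) (x : TensorProduct A (Hc P p) M) :
    kerMap P p g (hcToKer P p M x) = hcToKer P p N (g.lTensor (Hc P p) x) := by
  apply Subtype.ext
  show g.lTensor (W P p) ((Hc P p).subtype.rTensor M x) =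
    (Hc P p).subtype.rTensor N (g.lTensor (Hc P p) x)
  rw [← LinearMap.comp_apply, ← LinearMap.comp_apply, LinearMap.lTensor_comp_rTensor,
    LinearMap.rTensor_comp_lTensor]

theorem hcToKer_injective (hB : Module.Flat A (LinearMap.range (lW P p)))
    (M : Type u) [AddCommGroup M] [Module A M] : Function.Injective (hcToKer P p M) := by
  have h : Function.Injective ((Hc P p).subtype.rTensor M) := by
    rw [← LinearMap.lTensor_inj_iff_rTensor_inj]
    exact LinearMap.lTensor_injective_of_exact_of_flat (lW P p).rangeRestrict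
      (LinearMap.surjective_rangeRestrict _) (Hc P p).subtype (Submodule.subtype_injective _)
      (exact_ker_rangeRestrict P p) M
  intro x y hxy
  exact h (congrArg Subtype.val hxy)

theorem hcToKer_surjective (M : Type u) [AddCommGroup M] [Module A M]
    (hinj : Function.Injective ((LinearMap.range (lW P p)).subtype.rTensor M)) :
    Function.Surjective (hcToKer P p M) := by
  rintro ⟨x, hx⟩
  have hcomp : (lW P p).rTensor M =
      ((LinearMap.range (lW P p)).subtype.rTensor M) ∘ₗ ((lW P p).rangeRestrict.rTensor M) := by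
    rw [← LinearMap.rTensor_comp]
    rfl
  have h1 : (lW P p).rangeRestrict.rTensor M x = 0 := by
    apply hinj
    rw [map_zero, ← LinearMap.comp_apply, ← hcomp]
    exact hx
  obtain ⟨y, rfl⟩ := (rTensor_exact M (exact_ker_rangeRestrict P p)
    (LinearMap.surjective_rangeRestrict _) x).mp h1
  exact ⟨y, Subtype.ext rfl⟩

/-- When `W_next` is flat (and `P_next` flat), `B ⊗ M → P_next ⊗ M` is injective. -/
theorem subtype_rTensor_injective_of_flat (hrel : c.Rel p (c.next p))
    (hW : Module.Flat A (W P (c.next p))) (M : Type u) [AddCommGroup M] [Module A M] :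
    Function.Injective ((LinearMap.range (lW P p)).subtype.rTensor M) := by
  rw [subtype_rTensor_inj_congr (range_lW_eq P p hrel)]
  set S := LinearMap.range (d₁ P (c.next p)) with hS
  have h' : Module.Flat A (P.X (c.next p) ⧸ S) := hW
  rw [← LinearMap.lTensor_inj_iff_rTensor_inj]
  exact LinearMap.lTensor_injective_of_exact_of_flat S.mkQ (Submodule.mkQ_surjective _)
    S.subtype (Submodule.subtype_injective _) (LinearMap.exact_subtype_mkQ S) _

/-- The equivalence `H_p(P) ⊗ M ≃ ker (lW ⊗ M)` when `W_next` is flat. -/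
noncomputable def hcEquivKer (hP : ∀ i, Module.Flat A (P.X i)) (hrel : c.Rel p (c.next p))
    (hW : Module.Flat A (W P (c.next p))) (M : Type u) [AddCommGroup M] [Module A M] :
    TensorProduct A (Hc P p) M ≃ₗ[A] LinearMap.ker ((lW P p).rTensor M) :=
  LinearEquiv.ofBijective (hcToKer P p M)
    ⟨hcToKer_injective P p (flat_range_lW P p hrel (hP _) hW) M,
      hcToKer_surjective P p M (subtype_rTensor_injective_of_flat P p hrel hW M)⟩

/-- The natural isomorphism `T_p ≅ H_p(P) ⊗ -` when `W_next` is flat. -/
noncomputable def TFunIsoTensorLeft (hP : ∀ i, Module.Flat A (P.X i)) (hrel : c.Rel p (c.next p))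
    (hW : Module.Flat A (W P (c.next p))) :
    TFun P p ≅ tensorLeft (ModuleCat.of A (Hc P p)) :=
  NatIso.ofComponents
    (fun M => (TEquivKer P p M ≪≫ₗ (hcEquivKer P p hP hrel hW M).symm).toModuleIso)
    (by
      intro M N g
      ext t
      show (hcEquivKer P p hP hrel hW N).symm (TEquivKer P p N (((TFun P p).map g).hom t)) =
        g.hom.lTensor (Hc P p) ((hcEquivKer P p hP hrel hW M).symm (TEquivKer P p M t))
      rw [TEquivKer_natural, LinearEquiv.symm_apply_eq]
      show kerMap P p g.hom _ = hcToKer P p N _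
      rw [← hcToKer_natural]
      congr 1
      exact ((hcEquivKer P p hP hrel hW M).apply_symm_apply _).symm)

end NatIso

theorem preservesEpi_tensorLeft {A : Type u} [CommRing A] (N : ModuleCat.{u} A) :
    (tensorLeft N).PreservesEpimorphisms := by
  refine ⟨fun {X Y} f hf => ?_⟩
  rw [ModuleCat.epi_iff_surjective] at hf ⊢
  exact LinearMap.lTensor_surjective N hf

theorem preservesEpi_of_iso_tensorLeft {A : Type u} [CommRing A]
    (F : ModuleCat.{u} A ⥤ ModuleCat.{u} A) (N : ModuleCat.{u} A) (e : F ≅ tensorLeft N) :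
    F.PreservesEpimorphisms := by
  have := preservesEpi_tensorLeft N
  exact Functor.PreservesEpimorphisms.of_iso e.symm

theorem preservesEpi_iff_iso_tensorLeft {A : Type u} [CommRing A]
    (P : ChainComplex (ModuleCat.{u} A) ℤ) (hP : ∀ i, Module.Flat A (P.X i)) (p : ℤ) :
    (TFun P p).PreservesEpimorphisms ↔
      ∃ N : ModuleCat.{u} A, Nonempty (TFun P p ≅ tensorLeft N) := by
  have hrel : (ComplexShape.down ℤ).Rel p ((ComplexShape.down ℤ).next p) := by
    rw [ChainComplex.next]; simp
  constructor
  · intro h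
    have hW := (preservesEpi_iff_flat_W_next P p hP hrel).mp h
    exact ⟨_, ⟨TFunIsoTensorLeft P p hP hrel hW⟩⟩
  · rintro ⟨N, ⟨e⟩⟩
    exact preservesEpi_of_iso_tensorLeft _ N e

end Groth.Agent.H12.TCx
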