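import Groth.Agent.H12.QCohIso
import Groth.Agent.H44.PullbackAffine
import Groth.Agent.H44.FiniteSections
import Groth.Agent.H71.QCoh.PushFT

/-!
helper12: epimorphisms of quasi-coherent modules on sections over affine opens; a Nakayama type
vanishing criterion for pullbacks along surjective closed immersions.
-/

set_option autoImplicit false
universe u

noncomputable section

namespace Groth.Agent.H12.QCohEpi

open CategoryTheory CategoryTheory.Limits Opposite TopologicalSpace AlgebraicGeometry TensorProduct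
open Groth.Agent.H12.QCohExt Groth.Agent.H12.QCohAbelian Groth.Agent.H12.QCohIso

theorem subsingleton_of_tensor_surjective {A B : Type*} [CommRing A] [CommRing B] [Algebra A B]
    (hsurj : Function.Surjective (algebraMap A B))
    (hnil : RingHom.ker (algebraMap A B) ≤ nilradical A)
    (M : Type*) [AddCommGroup M] [Module A M] [Module.Finite A M]
    (h : Subsingleton (B ⊗[A] M)) : Subsingleton M := by
  let I : Ideal A := RingHom.ker (algebraMap A B)
  have hsurj' : Function.Surjective (Algebra.ofId A B) := hsurj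
  let e₁ : (A ⧸ RingHom.ker (Algebra.ofId A B)) ≃ₐ[A] B :=
    Ideal.quotientKerAlgEquivOfSurjective hsurj'
  have hI : RingHom.ker (Algebra.ofId A B) = I := rfl
  let e₂ : ((A ⧸ RingHom.ker (Algebra.ofId A B)) ⊗[A] M) ≃ₗ[A] (B ⊗[A] M) :=
    TensorProduct.congr e₁.toLinearEquiv (LinearEquiv.refl A M)
  have h1 : Subsingleton ((A ⧸ RingHom.ker (Algebra.ofId A B)) ⊗[A] M) :=
    e₂.toEquiv.subsingleton
  have h2 : Subsingleton (M ⧸ (RingHom.ker (Algebra.ofId A B) • (⊤ : Submodule A M))) :=
    (quotTensorEquivQuotSMul M (RingHom.ker (Algebra.ofId A B))).symm.toEquiv.subsingleton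
  rw [Submodule.Quotient.subsingleton_iff] at h2
  have h3 : (⊤ : Submodule A M) = ⊥ := by
    apply Submodule.eq_bot_of_le_smul_of_le_jacobson_bot (RingHom.ker (Algebra.ofId A B)) ⊤
      Module.Finite.fg_top
    · rw [h2]
    · rw [hI]
      refine hnil.trans ?_
      exact Ideal.radical_le_jacobson
  exact (Submodule.subsingleton_iff A).mp (subsingleton_of_bot_eq_top h3.symm)

variable {X : Scheme.{u}}

/-- an epimorphism of quasi-coherent modules is surjective on sections over affine opens. -/
theorem app_surjective_of_epi {M N : X.Modules} [M.IsQuasicoherent] [N.IsQuasicoherent]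
    (φ : M ⟶ N) [Epi φ] {U : X.Opens} (hU : IsAffineOpen U) :
    Function.Surjective (φ.app U) := by
  let S : ShortComplex X.Modules := ShortComplex.mk (kernel.ι φ) φ (kernel.condition φ)
  have hS : S.ShortExact := by
    have h1 : S.Exact := ShortComplex.exact_of_f_is_kernel S (kernelIsKernel φ)
    have : Mono S.f := inferInstanceAs (Mono (kernel.ι φ))
    have : Epi S.g := inferInstanceAs (Epi φ)
    exact ShortComplex.ShortExact.mk h1
  have : S.X₁.IsQuasicoherent := isQuasicoherent_kernel φ
  exact app_surjective_of_isAffineOpen S hS hU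

theorem subsingleton_sections_of_isZero {M : X.Modules} (h : IsZero M) (U : X.Opens) :
    Subsingleton Γ(M, U) := by
  constructor
  intro a b
  have h1 : (𝟙 M : M ⟶ M) = 0 := h.eq_of_src _ _
  have h2 : ∀ c : Γ(M, U), c = 0 := by
    intro c
    have : ((𝟙 M : M ⟶ M).app U).hom c = ((0 : M ⟶ M).app U).hom c := by rw [h1]
    exact this
  rw [h2 a, h2 b]

/-- a quasi-coherent quotient of a quasi-coherent module of finite type is of finite type. -/
theorem isFiniteType_of_epi {M N : X.Modules} [M.IsQuasicoherent] [N.IsQuasicoherent]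
    (φ : M ⟶ N) [Epi φ] (hM : SheafOfModules.IsFiniteType (R := X.ringCatSheaf) M) :
    SheafOfModules.IsFiniteType (R := X.ringCatSheaf) N := by
  have := hM
  refine Groth.Agent.H71.QCoh.isFiniteType_of_finite_sections_cover N
    (fun W : X.affineOpens => W.1) (iSup_affineOpens_eq_top X) (fun W => W.2) ?_
  intro W
  have hfin : Module.Finite Γ(X, W.1) Γ(M, W.1) :=
    Groth.Agent.H44.finite_sections_of_isFiniteType M W.2
  let ψ : Γ(M, W.1) →ₗ[Γ(X, W.1)] Γ(N, W.1) :=
    { toFun := fun x => (φ.app W.1).hom x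
      map_add' := fun x y => map_add _ x y
      map_smul' := fun r x => Scheme.Modules.Hom.app_smul φ r x }
  exact Module.Finite.of_surjective ψ (app_surjective_of_epi φ W.2)

theorem ker_app_le_nilradical {X₀ : Scheme.{u}} (i : X₀ ⟶ X) [Surjective i] (V : X.Opens)
    (hV : IsCompact (V : Set X)) : RingHom.ker (i.app V).hom ≤ nilradical Γ(X, V) := by
  intro x hx
  rw [RingHom.mem_ker] at hx
  change IsNilpotent x
  rw [Scheme.isNilpotent_iff_basicOpen_eq_bot_of_isCompact hV]
  rw [eq_bot_iff]
  intro y hy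
  obtain ⟨y₀, rfl⟩ := i.surjective y
  have h1 : y₀ ∈ i ⁻¹ᵁ X.basicOpen x := hy
  rw [Scheme.preimage_basicOpen] at h1
  have h2 : (i.app V) x = 0 := hx
  rw [h2, Scheme.basicOpen_zero] at h1
  exact h1

/-- Nakayama: a quasi-coherent module of finite type whose pullback along a surjective closed
immersion vanishes is zero. -/
theorem isZero_of_isZero_pullback {X₀ : Scheme.{u}} (i : X₀ ⟶ X) [IsClosedImmersion i]
    [Surjective i] (C : X.Modules) [C.IsQuasicoherent]
    (hC : SheafOfModules.IsFiniteType (R := X.ringCatSheaf) C)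
    (h : IsZero ((Scheme.Modules.pullback i).obj C)) : IsZero C := by
  have := hC
  refine isZero_of_sections_eq_zero C (fun W : X.affineOpens => W.1) ?_ (fun W => W.2) ?_
  · intro x
    obtain ⟨W, hW, hxW, -⟩ := exists_isAffineOpen_mem_and_subset (X := X) (x := x) (U := ⊤) trivial
    exact ⟨⟨W, hW⟩, hxW⟩
  · intro W t
    have hU : IsAffineOpen (i ⁻¹ᵁ W.1) := W.2.preimage i
    let _ : Algebra Γ(X, W.1) Γ(X₀, i ⁻¹ᵁ W.1) := (i.appLE W.1 (i ⁻¹ᵁ W.1) le_rfl).hom.toAlgebra
    have e := Groth.Agent.H44.pullbackSectionsEquiv i C hU W.2 le_rfl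
    have h1 : Subsingleton Γ((Scheme.Modules.pullback i).obj C, i ⁻¹ᵁ W.1) :=
      subsingleton_sections_of_isZero h _
    have h2 : Subsingleton (Γ(X₀, i ⁻¹ᵁ W.1) ⊗[Γ(X, W.1)] Γ(C, W.1)) :=
      e.symm.toEquiv.subsingleton
    have hfin : Module.Finite Γ(X, W.1) Γ(C, W.1) :=
      Groth.Agent.H44.finite_sections_of_isFiniteType C W.2
    have happ : (i.appLE W.1 (i ⁻¹ᵁ W.1) le_rfl) = i.app W.1 := by
      simp [Scheme.Hom.appLE]
    have hsurj : Function.Surjective (algebraMap Γ(X, W.1) Γ(X₀, i ⁻¹ᵁ W.1)) := by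
      change Function.Surjective (i.appLE W.1 (i ⁻¹ᵁ W.1) le_rfl).hom
      rw [happ]
      exact i.app_surjective W.1 W.2
    have hnil : RingHom.ker (algebraMap Γ(X, W.1) Γ(X₀, i ⁻¹ᵁ W.1)) ≤ nilradical Γ(X, W.1) := by
      change RingHom.ker (i.appLE W.1 (i ⁻¹ᵁ W.1) le_rfl).hom ≤ _
      rw [happ]
      exact ker_app_le_nilradical i W.1 W.2.isCompact
    have := subsingleton_of_tensor_surjective hsurj hnil Γ(C, W.1) h2
    exact Subsingleton.elim _ _

end Groth.Agent.H12.QCohEpi
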