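import Groth.Agent.H12.SerreCrit
import Groth.Agent.H8.QcqsPush
import Groth.Agent.H12.QCohEpi
/-
helper12: affineness of a morphism from exactness of the direct image (EGA II 5.2.2 (b) => (a)),
without any assumption on the target.

Main results (namespace `Groth.Agent.H12.AffHomCrit`):
* `isQuasicoherent_of_finite_decomp`, `sproj`, `sum_sproj_ι`, `isQuasicoherent_sigma` :
  finite coproducts of quasi-coherent modules are quasi-coherent.
* `eq_zero_of_locally_zero`, `exists_finite_affine_cover`.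
* `isAffineOpen_of_sections_surjective` : a quasi-compact open `U` is affine as soon as `1|_U`
  lifts along `Γ(U, G) → Γ(U, O_X)` for quasi-coherent `G → O_X` hitting `1` locally on `U`
  (proof: radical ideals of the complements of a finite affine cover).
* `isAffineHom_of_push_epi`.
-/
set_option autoImplicit false
universe u
noncomputable section
namespace Groth.Agent.H12.AffHomCrit
open CategoryTheory CategoryTheory.Limits Opposite TopologicalSpace AlgebraicGeometry
open Groth.Agent.H18 Groth.Agent.H12.SubSheaf Groth.Agent.H12.QAffCrit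
open Groth.Agent.H12.QCohAbelian Groth.Agent.H12.SerreCrit

variable {X : Scheme.{u}}

/-- a module which is a finite "direct sum" of quasi-coherent modules is quasi-coherent. -/
theorem isQuasicoherent_of_finite_decomp {M : X.Modules} {n : ℕ} (J : Fin n → X.Modules)
    [∀ k, (J k).IsQuasicoherent] (ι : ∀ k, J k ⟶ M) (π : ∀ k, M ⟶ J k)
    (h : ∑ k, π k ≫ ι k = 𝟙 M) : M.IsQuasicoherent := by
  have hdec : ∀ (W : X.Opens) (y : Γ(M, W)),
      y = ∑ k, ((ι k).app W).hom (((π k).app W).hom y) := by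
    intro W y
    have := congrArg (evalHom (N := M) W y) h
    rw [map_sum] at this
    exact this.symm
  refine isQuasicoherent_of_localizes M (fun W : X.affineOpens => W.1)
    (iSup_affineOpens_eq_top X) (fun W => W.2) ?_ ?_
  · intro W r y
    choose m x hx using fun k =>
      exists_pow_smul_eq_res_of_isQuasicoherent (J k) W.2 r (((π k).app _).hom y)
    refine ⟨Finset.univ.sup m,
      ∑ k, ((ι k).app W.1).hom (r ^ (Finset.univ.sup m - m k) • x k), ?_⟩
    rw [map_sum]
    conv_lhs => rw [hdec _ y]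
    rw [Finset.smul_sum]
    refine Finset.sum_congr rfl fun k _ => ?_
    have hle : m k ≤ Finset.univ.sup m := Finset.le_sup (Finset.mem_univ k)
    have h1 : mres M (X.basicOpen_le r)
        (((ι k).app W.1).hom (r ^ (Finset.univ.sup m - m k) • x k)) =
        ((ι k).app (X.basicOpen r)).hom
          (mres (J k) (X.basicOpen_le r) (r ^ (Finset.univ.sup m - m k) • x k)) :=
      Groth.Agent.H12.QCohExt.app_mres (ι k) (X.basicOpen_le r) _
    rw [h1, mres_smul, ← hx k, map_pow, smul_smul,
      ← pow_add, Nat.sub_add_cancel hle, Scheme.Modules.Hom.app_smul]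
  · intro W r x hx
    have hk : ∀ k, ∃ m : ℕ, r ^ m • ((π k).app W.1).hom x = 0 := by
      intro k
      refine exists_pow_smul_eq_zero_of_isQuasicoherent (J k) W.2 r _ ?_
      have h1 : mres (J k) (X.basicOpen_le r) (((π k).app W.1).hom x) =
          ((π k).app (X.basicOpen r)).hom (mres M (X.basicOpen_le r) x) :=
        Groth.Agent.H12.QCohExt.app_mres (π k) (X.basicOpen_le r) _
      rw [h1, hx, map_zero]
    choose m hm using hk
    refine ⟨Finset.univ.sup m, ?_⟩
    rw [hdec _ x, Finset.smul_sum]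
    refine Finset.sum_eq_zero fun k _ => ?_
    have hle : m k ≤ Finset.univ.sup m := Finset.le_sup (Finset.mem_univ k)
    rw [← Scheme.Modules.Hom.app_smul, ← Nat.sub_add_cancel hle, pow_add, mul_smul, hm k,
      smul_zero, map_zero]

/-- the projections of a finite coproduct. -/
def sproj {n : ℕ} (J : Fin n → X.Modules) (i : Fin n) : (∐ J) ⟶ J i :=
  Sigma.desc (fun k : Fin n => if h : k = i then eqToHom (by rw [h]) else 0)

theorem ι_sproj_self {n : ℕ} (J : Fin n → X.Modules) (i : Fin n) :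
    Sigma.ι J i ≫ sproj J i = 𝟙 _ := by
  unfold sproj
  rw [Sigma.ι_desc, dif_pos rfl]
  rfl

theorem ι_sproj_ne {n : ℕ} (J : Fin n → X.Modules) (i k : Fin n) (h : k ≠ i) :
    Sigma.ι J k ≫ sproj J i = 0 := by
  unfold sproj
  rw [Sigma.ι_desc, dif_neg h]

theorem sum_sproj_ι {n : ℕ} (J : Fin n → X.Modules) :
    ∑ i : Fin n, sproj J i ≫ Sigma.ι J i = 𝟙 (∐ J) := by
  apply Sigma.hom_ext
  intro k
  rw [Preadditive.comp_sum, Category.comp_id]
  rw [Finset.sum_eq_single k]
  · rw [← Category.assoc, ι_sproj_self, Category.id_comp]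
  · intro b _ hb
    rw [← Category.assoc, ι_sproj_ne J b k (Ne.symm hb), zero_comp]
  · intro h
    exact absurd (Finset.mem_univ k) h

instance isQuasicoherent_sigma {n : ℕ} (J : Fin n → X.Modules) [∀ k, (J k).IsQuasicoherent] :
    (∐ J).IsQuasicoherent :=
  isQuasicoherent_of_finite_decomp J (Sigma.ι J) (sproj J) (sum_sproj_ι J)


theorem eq_zero_of_locally_zero (F : X.Modules) (U : X.Opens) (s : Γ(F, U))
    (h : ∀ x ∈ U, ∃ (W : X.Opens) (hW : W ≤ U), x ∈ W ∧ mres F hW s = 0) : s = 0 := by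
  choose W hW hxW hs using h
  let ι := {x : X // x ∈ U}
  refine TopCat.Sheaf.eq_of_locally_eq' ⟨_, F.isSheaf⟩ (fun i : ι => W i.1 i.2) U
    (fun i => homOfLE (hW i.1 i.2)) ?_ s 0 ?_
  · intro x hx
    exact Opens.mem_iSup.mpr ⟨⟨x, hx⟩, hxW x hx⟩
  · intro i
    change mres F (hW i.1 i.2) s = F.presheaf.map (homOfLE (hW i.1 i.2)).op 0
    rw [map_zero]
    exact hs i.1 i.2

/-- a finite cover of a quasi-compact open by affine opens contained in it. -/
theorem exists_finite_affine_cover (U : X.Opens) (hU : IsCompact (U : Set X)) :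
    ∃ (m : ℕ) (Wk : Fin m → X.affineOpens), (∀ k, (Wk k).1 ≤ U) ∧
      ∀ x ∈ U, ∃ k, x ∈ (Wk k).1 := by
  let S := {W : X.affineOpens // W.1 ≤ U}
  obtain ⟨t, ht⟩ := hU.elim_finite_subcover (fun W : S => (W.1.1 : Set X))
    (fun W => W.1.1.isOpen) (fun x hx => by
      obtain ⟨_, ⟨W, hW, rfl⟩, hxW, hWU⟩ :=
        X.isBasis_affineOpens.exists_subset_of_mem_open hx U.isOpen
      exact Set.mem_iUnion.mpr ⟨⟨⟨W, hW⟩, hWU⟩, hxW⟩)
  refine ⟨t.card, fun i => (t.equivFin.symm i).1.1, fun i => (t.equivFin.symm i).1.2, ?_⟩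
  intro x hx
  have := ht hx
  simp only [Set.mem_iUnion, exists_prop] at this
  obtain ⟨W, hWt, hxW⟩ := this
  refine ⟨t.equivFin ⟨W, hWt⟩, ?_⟩
  show x ∈ (t.equivFin.symm (t.equivFin ⟨W, hWt⟩)).1.1.1
  rw [Equiv.symm_apply_apply]
  exact hxW

set_option backward.isDefEq.respectTransparency false in
/-- Let `U` be a quasi-compact open of `X`.  Suppose that for every quasi-coherent `G` with a
morphism `q : G ⟶ O_X` such that `1|_U` is locally on `U` in the image of `q`, the section `1|_U`
is in the image of `Γ(U, G)`.  Then `U` is affine. -/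
theorem isAffineOpen_of_sections_surjective (U : X.Opens) (hU : IsCompact (U : Set X))
    (hsurj : ∀ (G : X.Modules) (q : G ⟶ Coh.structureModule X), G.IsQuasicoherent →
      (∀ x ∈ U, ∃ (W : X.Opens) (_ : W ≤ U), x ∈ W ∧
        ∃ t : Γ(G, W), fn W ((q.app W).hom t) = 1) →
      ∃ t : Γ(G, U), fn U ((q.app U).hom t) = 1) :
    IsAffineOpen U := by
  obtain ⟨m, Wk, hle, hcov⟩ := exists_finite_affine_cover U hU
  let K : Fin m → X.IdealSheafData := fun k => Scheme.IdealSheafData.vanishingIdeal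
    (⟨((Wk k).1 : Set X)ᶜ, (Wk k).1.isOpen.isClosed_compl⟩ : Closeds X)
  let J : Fin m → X.Modules := fun k => ClSub.idealMod (K k)
  let i : ∀ k, J k ⟶ Coh.structureModule X := fun k => ClSub.idealModι (K k)
  have hqJ : ∀ k, (J k).IsQuasicoherent := fun k => Groth.Agent.H44.isQuasicoherent_idealMod (K k)
  let q : (∐ J) ⟶ Coh.structureModule X := Sigma.desc i
  have hιq : ∀ k, Sigma.ι J k ≫ q = i k := fun k => Sigma.ι_desc _ _
  obtain ⟨t, ht⟩ := hsurj (∐ J) q inferInstance (by
    intro x hx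
    obtain ⟨k, hxk⟩ := hcov x hx
    refine ⟨(Wk k).1, hle k, hxk, ?_⟩
    have h1 : (1 : Γ(X, (Wk k).1)) ∈ (K k).ideal (Wk k) := one_mem_vanishingIdeal (Wk k)
    let g : Γ(J k, (Wk k).1) := OmegaSh.kerLift (ClSub.toSubscheme (K k)) (Wk k).1
      (OmegaSh.strSect X (Wk k).1 1)
      ((Groth.Agent.H44.toSubscheme_app_eq_zero_iff (K k) (Wk k).2 1).2 h1)
    have hg : ((i k).app (Wk k).1).hom g = OmegaSh.strSect X (Wk k).1 1 :=
      OmegaSh.ι_kerLift _ _ _ _
    refine ⟨((Sigma.ι J k).app (Wk k).1).hom g, ?_⟩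
    have h2 : (q.app (Wk k).1).hom (((Sigma.ι J k).app (Wk k).1).hom g) =
        ((i k).app (Wk k).1).hom g :=
      congrArg (fun φ : J k ⟶ Coh.structureModule X => (φ.app (Wk k).1).hom g) (hιq k)
    rw [h2, hg]
    rfl)
  -- components
  let s : Fin m → Γ(X, U) := fun k =>
    fn U (((i k).app U).hom (((sproj J k).app U).hom t))
  have hsum : ∑ k, s k = 1 := by
    rw [← ht]
    have hdec : q = ∑ k, sproj J k ≫ i k := by
      have h1 : q = 𝟙 _ ≫ q := (Category.id_comp q).symm
      rw [h1, ← sum_sproj_ι J, Preadditive.sum_comp]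
      refine Finset.sum_congr rfl fun k _ => ?_
      rw [Category.assoc, hιq]
    have := congrArg (evalHom (N := Coh.structureModule X) U t) hdec
    rw [map_sum] at this
    exact this.symm
  have hsle : ∀ k, X.basicOpen (s k) ≤ (Wk k).1 := by
    intro k z hz
    have hzU : z ∈ U := X.basicOpen_le _ hz
    obtain ⟨W', hW', hzW', hW'U⟩ : ∃ W' : X.Opens, IsAffineOpen W' ∧ z ∈ W' ∧ W' ≤ U := by
      obtain ⟨_, ⟨W', hW', rfl⟩, hzW', hW'U⟩ :=
        X.isBasis_affineOpens.exists_subset_of_mem_open hzU U.isOpen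
      exact ⟨W', hW', hzW', hW'U⟩
    have hmem := Groth.Agent.H44.idealModι_app_mem_ideal (K k) hW'
      (mres (J k) hW'U (((sproj J k).app U).hom t))
    have heq : OmegaSh.fnSect X W' (((ClSub.idealModι (K k)).app W').hom
        (mres (J k) hW'U (((sproj J k).app U).hom t))) =
        X.presheaf.map (homOfLE hW'U).op (s k) := by
      have h3 := Groth.Agent.H12.QCohExt.app_mres (i k) hW'U (((sproj J k).app U).hom t)
      exact h3.symm
    rw [heq] at hmem
    have := basicOpen_le_of_vanishingIdeal (Wk k).1 W' hW' _ hmem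
    apply this
    rw [Scheme.basicOpen_res]
    exact ⟨hzW', hz⟩
  have haff : ∀ k, IsAffineOpen (X.basicOpen (s k)) := by
    intro k
    have : X.basicOpen (s k) = X.basicOpen (X.presheaf.map (homOfLE (hle k)).op (s k)) := by
      rw [Scheme.basicOpen_res]
      exact (inf_eq_right.mpr (hsle k)).symm
    rw [this]
    exact (Wk k).2.basicOpen _
  refine isAffineOpen_of_isAffineOpen_basicOpen U (Set.range s) ?_ (by
    rintro _ ⟨k, rfl⟩
    exact haff k)
  rw [Ideal.eq_top_iff_one, ← hsum]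
  exact Ideal.sum_mem _ fun k _ => Ideal.subset_span ⟨k, rfl⟩


/-- EGA II 5.2.2 (b) ⇒ (a): a quasi-compact quasi-separated morphism whose direct image functor
preserves epimorphisms of quasi-coherent modules is affine. -/
theorem isAffineHom_of_push_epi {X Y : Scheme.{u}} (f : X ⟶ Y) [QuasiCompact f]
    [QuasiSeparated f]
    (h : ∀ (F F'' : X.Modules) (p : F ⟶ F''), F.IsQuasicoherent → F''.IsQuasicoherent → Epi p →
      Epi ((Scheme.Modules.pushforward f).map p)) : IsAffineHom f := by
  refine ⟨fun V hV => ?_⟩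
  refine isAffineOpen_of_sections_surjective (f ⁻¹ᵁ V) (f.isCompact_preimage hV.isCompact) ?_
  intro G q hG hloc
  obtain ⟨U, hUdef⟩ : ∃ U : X.Opens, U = f ⁻¹ᵁ V := ⟨_, rfl⟩
  rw [← hUdef] at hloc ⊢
  have hqC : (cokernel q).IsQuasicoherent := isQuasicoherent_cokernel q
  have hqI : (kernel (cokernel.π q)).IsQuasicoherent := isQuasicoherent_kernel (cokernel.π q)
  let e : G ⟶ kernel (cokernel.π q) := kernel.lift _ q (cokernel.condition q)
  have he : e ≫ kernel.ι (cokernel.π q) = q := kernel.lift_ι _ _ _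
  have hepi : Epi e := inferInstanceAs (Epi (Abelian.factorThruImage q))
  let one : Γ(Coh.structureModule X, U) := OmegaSh.strSect X U 1
  have hzero : ((cokernel.π q).app U).hom one = 0 := by
    apply eq_zero_of_locally_zero
    intro x hx
    obtain ⟨W, hW, hxW, t, ht⟩ := hloc x hx
    refine ⟨W, hW, hxW, ?_⟩
    have h1 := Groth.Agent.H12.QCohExt.app_mres (cokernel.π q) hW one
    refine h1.trans ?_
    have h2 : mres (Coh.structureModule X) hW one = (q.app W).hom t := by
      have : fn W (mres (Coh.structureModule X) hW one) = 1 := by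
        rw [fn_mres]
        exact map_one _
      exact this.trans ht.symm
    rw [h2]
    have h3 : q ≫ cokernel.π q = 0 := cokernel.condition q
    exact congrArg (fun φ : G ⟶ cokernel q => (φ.app W).hom t) h3
  let e₁ : Γ(kernel (cokernel.π q), U) := OmegaSh.kerLift (cokernel.π q) U one hzero
  have he₁ : ((kernel.ι (cokernel.π q)).app U).hom e₁ = one := OmegaSh.ι_kerLift _ _ _ _
  have hpe : Epi ((Scheme.Modules.pushforward f).map e) := h _ _ e hG hqI hepi
  have hq1 : ((Scheme.Modules.pushforward f).obj G).IsQuasicoherent :=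
    Groth.Agent.H8.isQuasicoherent_pushforward_of_qcqs f G
  have hq2 : ((Scheme.Modules.pushforward f).obj (kernel (cokernel.π q))).IsQuasicoherent :=
    Groth.Agent.H8.isQuasicoherent_pushforward_of_qcqs f _
  have hs := Groth.Agent.H12.QCohEpi.app_surjective_of_epi
    ((Scheme.Modules.pushforward f).map e) hV
  subst hUdef
  obtain ⟨t, ht⟩ := hs e₁
  refine ⟨t, ?_⟩
  have ht' : (e.app (f ⁻¹ᵁ V)).hom t = e₁ := ht
  have h4 : (q.app (f ⁻¹ᵁ V)).hom t =
      ((kernel.ι (cokernel.π q)).app (f ⁻¹ᵁ V)).hom ((e.app (f ⁻¹ᵁ V)).hom t) :=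
    congrArg (fun φ : G ⟶ Coh.structureModule X => (φ.app (f ⁻¹ᵁ V)).hom t) he.symm
  rw [h4, ht', he₁]
  rfl

end Groth.Agent.H12.AffHomCrit
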