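import Groth.Agent.H12.AffHomCrit
/-
helper12: affineness from right exactness of sections on quasi-coherent ideals.

Main results (namespace `Groth.Agent.H12.AffHomCrit2`):
* `SectionsExactOnIdeals U` : for short exact `0 → K → J → Q → 0` of quasi-coherent modules with a
  mono `J ⟶ O_X`, the map `Γ(U, J) → Γ(U, Q)` is onto.
* `exists_add_of_locally` (two ideal lemma), `exists_sum_of_locally` (finitely many ideals).
* `isAffineOpen_of_sectionsExactOnIdeals` : a quasi-compact open with `SectionsExactOnIdeals` is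
  affine.
* `isAffineHom_of_push_epi_on_ideals` : relative form for qcqs morphisms.
-/
set_option autoImplicit false
universe u
noncomputable section
namespace Groth.Agent.H12.AffHomCrit2
open CategoryTheory CategoryTheory.Limits Opposite TopologicalSpace AlgebraicGeometry
open Groth.Agent.H18 Groth.Agent.H12.SubSheaf Groth.Agent.H12.QAffCrit
open Groth.Agent.H12.QCohAbelian Groth.Agent.H12.SerreCrit Groth.Agent.H12.AffHomCrit

variable {X : Scheme.{u}}

/-- sections over `U` are right exact on short exact sequences of quasi-coherent modules whose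
middle term is an ideal (a subobject of the structure module). -/
def SectionsExactOnIdeals (U : X.Opens) : Prop :=
  ∀ (E : ShortComplex X.Modules), E.ShortExact → E.X₁.IsQuasicoherent → E.X₂.IsQuasicoherent →
    E.X₃.IsQuasicoherent → ∀ (i : E.X₂ ⟶ Coh.structureModule X), Mono i →
    Function.Surjective (E.g.app U).hom

/-- the two ideal lemma. -/
theorem exists_add_of_locally (U : X.Opens) (hU : SectionsExactOnIdeals U)
    (I J : X.Modules) (hI : I.IsQuasicoherent) (hJ : J.IsQuasicoherent)
    (ι : I ⟶ Coh.structureModule X) (i : J ⟶ Coh.structureModule X) (hι : Mono ι) (hi : Mono i)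
    (s : Γ(Coh.structureModule X, U))
    (hloc : ∀ x ∈ U, ∃ (W : X.Opens) (hW : W ≤ U), x ∈ W ∧ ∃ (a : Γ(J, W)) (b : Γ(I, W)),
      (i.app W).hom a + (ι.app W).hom b = mres (Coh.structureModule X) hW s) :
    ∃ (a : Γ(J, U)) (b : Γ(I, U)), (i.app U).hom a + (ι.app U).hom b = s := by
  have hO : (Coh.structureModule X).IsQuasicoherent := inferInstance
  have hC : (cokernel ι).IsQuasicoherent := isQuasicoherent_cokernel ι
  obtain ⟨π, hπ⟩ : ∃ π : Coh.structureModule X ⟶ cokernel ι, π = cokernel.π ι := ⟨_, rfl⟩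
  have hιπ : ι ≫ π = 0 := by rw [hπ]; exact cokernel.condition ι
  obtain ⟨φ, hφ⟩ : ∃ φ : J ⟶ cokernel ι, φ = i ≫ π := ⟨_, rfl⟩
  have hCφ : (cokernel φ).IsQuasicoherent := isQuasicoherent_cokernel φ
  have hQ : (kernel (cokernel.π φ)).IsQuasicoherent := isQuasicoherent_kernel (cokernel.π φ)
  let e : J ⟶ kernel (cokernel.π φ) := kernel.lift _ φ (cokernel.condition φ)
  have he : e ≫ kernel.ι (cokernel.π φ) = φ := kernel.lift_ι _ _ _
  have hepi : Epi e := inferInstanceAs (Epi (Abelian.factorThruImage φ))
  have hK : (kernel e).IsQuasicoherent := isQuasicoherent_kernel e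
  let E : ShortComplex X.Modules := ShortComplex.mk (kernel.ι e) e (kernel.condition e)
  have hE : E.ShortExact := by
    have h1 : E.Exact := ShortComplex.exact_of_f_is_kernel E (kernelIsKernel e)
    have : Mono E.f := inferInstanceAs (Mono (kernel.ι e))
    have : Epi E.g := hepi
    exact ShortComplex.ShortExact.mk h1
  have hsurj : Function.Surjective (e.app U).hom := hU E hE hK hJ hQ i hi
  -- the class of `s`
  have hzero : ((cokernel.π φ).app U).hom ((π.app U).hom s) = 0 := by
    apply eq_zero_of_locally_zero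
    intro x hx
    obtain ⟨W, hW, hxW, a, b, hab⟩ := hloc x hx
    refine ⟨W, hW, hxW, ?_⟩
    have h1 := Groth.Agent.H12.QCohExt.app_mres (cokernel.π φ) hW ((π.app U).hom s)
    refine h1.trans ?_
    have h2 : mres (cokernel ι) hW ((π.app U).hom s) =
        (π.app W).hom (mres (Coh.structureModule X) hW s) :=
      Groth.Agent.H12.QCohExt.app_mres π hW s
    rw [h2, ← hab, map_add]
    have h3 : (π.app W).hom ((ι.app W).hom b) = 0 :=
      congrArg (fun ψ : I ⟶ cokernel ι => (ψ.app W).hom b) hιπ
    have h4 : (π.app W).hom ((i.app W).hom a) = (φ.app W).hom a := by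
      rw [hφ]; rfl
    rw [h3, h4, add_zero]
    have h5 : φ ≫ cokernel.π φ = 0 := cokernel.condition φ
    exact congrArg (fun ψ : J ⟶ cokernel φ => (ψ.app W).hom a) h5
  let σ : Γ(kernel (cokernel.π φ), U) := OmegaSh.kerLift (cokernel.π φ) U _ hzero
  have hσ : ((kernel.ι (cokernel.π φ)).app U).hom σ = (π.app U).hom s :=
    OmegaSh.ι_kerLift _ _ _ _
  obtain ⟨a, ha⟩ := hsurj σ
  have hker : (π.app U).hom (s - (i.app U).hom a) = 0 := by
    rw [map_sub, sub_eq_zero, ← hσ, ← ha]
    have : (π.app U).hom ((i.app U).hom a) = (φ.app U).hom a := by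
      rw [hφ]; rfl
    rw [this]
    exact congrArg (fun ψ : J ⟶ cokernel ι => (ψ.app U).hom a) he
  have hex : (ShortComplex.mk ι π hιπ).Exact := by
    subst hπ
    exact ShortComplex.exact_cokernel ι
  obtain ⟨b, hb⟩ := app_exact_of_exact_of_mono (ShortComplex.mk ι π hιπ) hex U
    (s - (i.app U).hom a) hker
  refine ⟨a, b, ?_⟩
  have hb' : (ι.app U).hom b = s - (i.app U).hom a := hb
  rw [hb']
  abel


/-- a section of the structure module which is locally a sum of sections of finitely many
quasi-coherent ideals is globally such a sum. -/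
theorem exists_sum_of_locally (U : X.Opens) (hU : SectionsExactOnIdeals U) :
    ∀ (m : ℕ) (J : Fin m → X.Modules) (i : ∀ k, J k ⟶ Coh.structureModule X),
      (∀ k, (J k).IsQuasicoherent) → (∀ k, Mono (i k)) →
      ∀ (s : Γ(Coh.structureModule X, U)),
      (∀ x ∈ U, ∃ (W : X.Opens) (hW : W ≤ U), x ∈ W ∧ ∃ t : ∀ k, Γ(J k, W),
        ∑ k, ((i k).app W).hom (t k) = mres (Coh.structureModule X) hW s) →
      ∃ t : ∀ k, Γ(J k, U), ∑ k, ((i k).app U).hom (t k) = s := by
  intro m
  induction m with
  | zero =>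
    intro J i _ _ s hloc
    refine ⟨fun k => k.elim0, ?_⟩
    rw [Finset.univ_eq_empty, Finset.sum_empty]
    symm
    apply eq_zero_of_locally_zero
    intro x hx
    obtain ⟨W, hW, hxW, t, ht⟩ := hloc x hx
    refine ⟨W, hW, hxW, ?_⟩
    rw [← ht, Finset.univ_eq_empty, Finset.sum_empty]
  | succ m ih =>
    intro J i hJ hi s hloc
    obtain ⟨J', hJ'⟩ : ∃ J' : Fin m → X.Modules, J' = fun k => J k.castSucc := ⟨_, rfl⟩
    have hJ'q : ∀ k, (J' k).IsQuasicoherent := by
      intro k; rw [hJ']; exact hJ _
    obtain ⟨i', hi'⟩ : ∃ i' : ∀ k, J' k ⟶ Coh.structureModule X,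
        ∀ k, HEq (i' k) (i k.castSucc) := by
      subst hJ'
      exact ⟨fun k => i k.castSucc, fun k => HEq.rfl⟩
    subst hJ'
    have hi'eq : ∀ k, i' k = i k.castSucc := fun k => eq_of_heq (hi' k)
    have hi'm : ∀ k, Mono (i' k) := by
      intro k; rw [hi'eq]; exact hi _
    let q' : (∐ fun k : Fin m => J k.castSucc) ⟶ Coh.structureModule X := Sigma.desc i'
    have hιq : ∀ k, Sigma.ι (fun k : Fin m => J k.castSucc) k ≫ q' = i' k :=
      fun k => Sigma.ι_desc _ _
    have hSq : (∐ fun k : Fin m => J k.castSucc).IsQuasicoherent :=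
      isQuasicoherent_sigma (fun k : Fin m => J k.castSucc)
    have hCq : (cokernel q').IsQuasicoherent := isQuasicoherent_cokernel q'
    have hIq : (kernel (cokernel.π q')).IsQuasicoherent := isQuasicoherent_kernel (cokernel.π q')
    let e' : (∐ fun k : Fin m => J k.castSucc) ⟶ kernel (cokernel.π q') :=
      kernel.lift _ q' (cokernel.condition q')
    have he' : e' ≫ kernel.ι (cokernel.π q') = q' := kernel.lift_ι _ _ _
    have hepi : Epi e' := inferInstanceAs (Epi (Abelian.factorThruImage q'))
    have hdec : q' = ∑ k, sproj (fun k : Fin m => J k.castSucc) k ≫ i' k := by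
      have h1 : q' = 𝟙 _ ≫ q' := (Category.id_comp q').symm
      rw [h1, ← sum_sproj_ι (fun k : Fin m => J k.castSucc), Preadditive.sum_comp]
      refine Finset.sum_congr rfl fun k _ => ?_
      rw [Category.assoc, hιq]
    -- step 1: split off the last ideal
    obtain ⟨a, b, hab⟩ := exists_add_of_locally U hU (kernel (cokernel.π q')) (J (Fin.last m))
      hIq (hJ _) (kernel.ι (cokernel.π q')) (i (Fin.last m)) inferInstance (hi _) s (by
        intro x hx
        obtain ⟨W, hW, hxW, t, ht⟩ := hloc x hx
        refine ⟨W, hW, hxW, t (Fin.last m), (e'.app W).hom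
          (∑ k : Fin m, ((Sigma.ι (fun k : Fin m => J k.castSucc) k).app W).hom (t k.castSucc)), ?_⟩
        rw [← ht, Fin.sum_univ_castSucc, add_comm]
        congr 1
        have h1 : ((kernel.ι (cokernel.π q')).app W).hom ((e'.app W).hom
            (∑ k : Fin m, ((Sigma.ι (fun k : Fin m => J k.castSucc) k).app W).hom
              (t k.castSucc))) =
            (q'.app W).hom (∑ k : Fin m, ((Sigma.ι (fun k : Fin m => J k.castSucc) k).app W).hom
              (t k.castSucc)) :=
          congrArg (fun ψ : (∐ fun k : Fin m => J k.castSucc) ⟶ Coh.structureModule X =>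
            (ψ.app W).hom (∑ k : Fin m, ((Sigma.ι (fun k : Fin m => J k.castSucc) k).app W).hom
              (t k.castSucc))) he'
        rw [h1, map_sum]
        refine Finset.sum_congr rfl fun k _ => ?_
        have h2 : (q'.app W).hom (((Sigma.ι (fun k : Fin m => J k.castSucc) k).app W).hom
            (t k.castSucc)) = ((i' k).app W).hom (t k.castSucc) :=
          congrArg (fun ψ : J k.castSucc ⟶ Coh.structureModule X =>
            (ψ.app W).hom (t k.castSucc)) (hιq k)
        rw [h2, hi'eq])
    -- step 2: induction on the remaining ideals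
    obtain ⟨t', ht'⟩ := ih (fun k : Fin m => J k.castSucc) i' (fun k => hJ _) hi'm
      (((kernel.ι (cokernel.π q')).app U).hom b) (by
        intro x hx
        obtain ⟨W, hW, hxW, hWU⟩ : ∃ W : X.Opens, IsAffineOpen W ∧ x ∈ W ∧ W ≤ U := by
          obtain ⟨_, ⟨W, hW, rfl⟩, hxW, hWU⟩ :=
            X.isBasis_affineOpens.exists_subset_of_mem_open hx U.isOpen
          exact ⟨W, hW, hxW, hWU⟩
        refine ⟨W, hWU, hxW, ?_⟩
        obtain ⟨t₀, ht₀⟩ := Groth.Agent.H12.QCohEpi.app_surjective_of_epi e' hW
          (mres (kernel (cokernel.π q')) hWU b)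
        refine ⟨fun k => ((sproj (fun k : Fin m => J k.castSucc) k).app W).hom t₀, ?_⟩
        have h1 : mres (Coh.structureModule X) hWU (((kernel.ι (cokernel.π q')).app U).hom b) =
            ((kernel.ι (cokernel.π q')).app W).hom (mres (kernel (cokernel.π q')) hWU b) :=
          Groth.Agent.H12.QCohExt.app_mres (kernel.ι (cokernel.π q')) hWU b
        have ht₀' : (e'.app W).hom t₀ = mres (kernel (cokernel.π q')) hWU b := ht₀
        rw [h1, ← ht₀']
        have h2 : ((kernel.ι (cokernel.π q')).app W).hom ((e'.app W).hom t₀) = (q'.app W).hom t₀ :=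
          congrArg (fun ψ : (∐ fun k : Fin m => J k.castSucc) ⟶ Coh.structureModule X =>
            (ψ.app W).hom t₀) he'
        rw [h2]
        have h3 := congrArg (evalHom (N := Coh.structureModule X) W t₀) hdec
        rw [map_sum] at h3
        exact h3.symm)
    refine ⟨Fin.lastCases a t', ?_⟩
    rw [Fin.sum_univ_castSucc]
    simp only [Fin.lastCases_last, Fin.lastCases_castSucc]
    rw [← hab, add_comm]
    congr 1
    rw [← ht']
    exact Finset.sum_congr rfl fun k _ => by rw [hi'eq]


set_option backward.isDefEq.respectTransparency false in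
/-- a quasi-compact open over which sections are right exact on quasi-coherent ideals is affine. -/
theorem isAffineOpen_of_sectionsExactOnIdeals (U : X.Opens) (hc : IsCompact (U : Set X))
    (hU : SectionsExactOnIdeals U) : IsAffineOpen U := by
  obtain ⟨m, Wk, hle, hcov⟩ := exists_finite_affine_cover U hc
  let K : Fin m → X.IdealSheafData := fun k => Scheme.IdealSheafData.vanishingIdeal
    (⟨((Wk k).1 : Set X)ᶜ, (Wk k).1.isOpen.isClosed_compl⟩ : Closeds X)
  let J : Fin m → X.Modules := fun k => ClSub.idealMod (K k)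
  let i : ∀ k, J k ⟶ Coh.structureModule X := fun k => ClSub.idealModι (K k)
  have hqJ : ∀ k, (J k).IsQuasicoherent := fun k => Groth.Agent.H44.isQuasicoherent_idealMod (K k)
  have hmi : ∀ k, Mono (i k) := by
    intro k
    show Mono (ClSub.idealModι (K k))
    unfold ClSub.idealModι
    infer_instance
  obtain ⟨t, ht⟩ := exists_sum_of_locally U hU m J i hqJ hmi (OmegaSh.strSect X U 1) (by
    intro x hx
    obtain ⟨k, hxk⟩ := hcov x hx
    refine ⟨(Wk k).1, hle k, hxk, ?_⟩
    have h1 : (1 : Γ(X, (Wk k).1)) ∈ (K k).ideal (Wk k) := one_mem_vanishingIdeal (Wk k)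
    let g : Γ(J k, (Wk k).1) := OmegaSh.kerLift (ClSub.toSubscheme (K k)) (Wk k).1
      (OmegaSh.strSect X (Wk k).1 1)
      ((Groth.Agent.H44.toSubscheme_app_eq_zero_iff (K k) (Wk k).2 1).2 h1)
    have hg : ((i k).app (Wk k).1).hom g = OmegaSh.strSect X (Wk k).1 1 :=
      OmegaSh.ι_kerLift _ _ _ _
    refine ⟨Pi.single k g, ?_⟩
    rw [Finset.sum_eq_single k]
    · rw [Pi.single_eq_same, hg]
      have : fn (Wk k).1 (mres (Coh.structureModule X) (hle k) (OmegaSh.strSect X U 1)) = 1 := by
        rw [fn_mres]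
        exact map_one _
      exact this.symm
    · intro b _ hb
      rw [Pi.single_eq_of_ne hb, map_zero]
    · intro h
      exact absurd (Finset.mem_univ k) h)
  -- components
  let s : Fin m → Γ(X, U) := fun k => fn U (((i k).app U).hom (t k))
  have hsum : ∑ k, s k = 1 := ht
  have hsle : ∀ k, X.basicOpen (s k) ≤ (Wk k).1 := by
    intro k z hz
    have hzU : z ∈ U := X.basicOpen_le _ hz
    obtain ⟨W', hW', hzW', hW'U⟩ : ∃ W' : X.Opens, IsAffineOpen W' ∧ z ∈ W' ∧ W' ≤ U := by
      obtain ⟨_, ⟨W', hW', rfl⟩, hzW', hW'U⟩ :=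
        X.isBasis_affineOpens.exists_subset_of_mem_open hzU U.isOpen
      exact ⟨W', hW', hzW', hW'U⟩
    have hmem := Groth.Agent.H44.idealModι_app_mem_ideal (K k) hW' (mres (J k) hW'U (t k))
    have heq : OmegaSh.fnSect X W' (((ClSub.idealModι (K k)).app W').hom
        (mres (J k) hW'U (t k))) = X.presheaf.map (homOfLE hW'U).op (s k) := by
      have h3 := Groth.Agent.H12.QCohExt.app_mres (i k) hW'U (t k)
      exact h3.symm
    rw [heq] at hmem
    have := basicOpen_le_of_vanishingIdeal (Wk k).1 W' hW' _ hmem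
    apply this
    rw [Scheme.basicOpen_res]
    exact ⟨hzW', hz⟩
  have haff : ∀ k, IsAffineOpen (X.basicOpen (s k)) := by
    intro k
    have : X.basicOpen (s k) = X.basicOpen (X.presheaf.map (homOfLE (hle k)).op (s k)) := by
      rw [Scheme.basicOpen_res]
      exact (inf_eq_right.mpr (hsle k)).symm
    rw [this]
    exact (Wk k).2.basicOpen _
  refine isAffineOpen_of_isAffineOpen_basicOpen U (Set.range s) ?_ (by
    rintro _ ⟨k, rfl⟩
    exact haff k)
  rw [Ideal.eq_top_iff_one, ← hsum]
  exact Ideal.sum_mem _ fun k _ => Ideal.subset_span ⟨k, rfl⟩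

/-- relative form: a quasi-compact quasi-separated morphism whose direct image is right exact
on short exact sequences of quasi-coherent modules with middle term an ideal is affine. -/
theorem isAffineHom_of_push_epi_on_ideals {X Y : Scheme.{u}} (f : X ⟶ Y) [QuasiCompact f]
    [QuasiSeparated f]
    (h : ∀ (E : ShortComplex X.Modules), E.ShortExact → E.X₁.IsQuasicoherent →
      E.X₂.IsQuasicoherent → E.X₃.IsQuasicoherent →
      ∀ (i : E.X₂ ⟶ Coh.structureModule X), Mono i →
      Epi ((Scheme.Modules.pushforward f).map E.g)) : IsAffineHom f := by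
  refine ⟨fun V hV => ?_⟩
  refine isAffineOpen_of_sectionsExactOnIdeals (f ⁻¹ᵁ V) (f.isCompact_preimage hV.isCompact) ?_
  intro E hE h1 h2 h3 i hi
  have hpe : Epi ((Scheme.Modules.pushforward f).map E.g) := h E hE h1 h2 h3 i hi
  have hq1 : ((Scheme.Modules.pushforward f).obj E.X₂).IsQuasicoherent :=
    Groth.Agent.H8.isQuasicoherent_pushforward_of_qcqs f _
  have hq2 : ((Scheme.Modules.pushforward f).obj E.X₃).IsQuasicoherent :=
    Groth.Agent.H8.isQuasicoherent_pushforward_of_qcqs f _
  exact Groth.Agent.H12.QCohEpi.app_surjective_of_epi ((Scheme.Modules.pushforward f).map E.g) hV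

end Groth.Agent.H12.AffHomCrit2
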