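import Groth.Agent.H12.AffHomCrit2
import Groth.Agent.Lead.Coh.RpushSheafify
import Groth.Agent.Lead.Coh.Leray
import Groth.Agent.Lead.Coh.LocalTriv
import Groth.Agent.H49.SectionsExact
import Groth.Agent.H18.NegTwist
import Groth.Agent.Lead.Coh.H1Surj
/-
helper12: cohomological affineness criteria (on top of the lead's Zariski cohomology library).

Main results (namespace `Groth.Agent.H12.AffHomCrit3`):
* `exists_locally_lift_of_isZero_Rpush` : if `R¹f_*` of the kernel of a short exact sequence of
  abelian sheaves vanishes, sections of the quotient over `f⁻¹ V` lift locally on `V`.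
* `isAffineHom_of_isZero_RpushAb` : `f` qcqs with `R¹f_* J = 0` for all quasi-coherent ideals `J`
  is affine.
* `isAffine_of_subsingleton_HH_one` : the criterion of Serre for quasi-compact schemes.
-/
set_option autoImplicit false
universe u
noncomputable section
namespace Groth.Agent.H12.AffHomCrit3
open CategoryTheory CategoryTheory.Limits Opposite TopologicalSpace AlgebraicGeometry Abelian
open Groth.Agent.Lead.Rpush Groth.Agent.Lead.Cech
open Groth.Agent.Lead.Coh (freeSheaf freeSheafMap homEquivSections homEquivSections_naturality_left)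

/-- sections of a zero sheaf vanish. -/
theorem eq_zero_of_isZero_sheaf {Y : TopCat.{u}} {G : CohTop.Ab Y} (hG : IsZero G) (V : Opens Y)
    (s : G.obj.obj (op V)) : s = 0 := by
  have h1 : 𝟙 G = 0 := (IsZero.iff_id_eq_zero G).1 hG
  have h2 := congrArg (fun φ : G ⟶ G => (φ.hom.app (op V)).hom s) h1
  exact h2

/-- if `R¹f_*` of the kernel of a short exact sequence of abelian sheaves vanishes, sections of the
quotient over `f⁻¹ V` lift locally on `V`. -/
theorem exists_locally_lift_of_isZero_Rpush {X Y : TopCat.{u}} (f : X ⟶ Y)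
    {S : ShortComplex (CohTop.Ab X)} (hS : S.ShortExact)
    (hz : IsZero ((CohTop.Rpush f 1).obj S.X₁)) (V : Opens Y)
    (z : S.X₃.obj.obj (op ((Opens.map f).obj V))) (y : Y) (hy : y ∈ V) :
    ∃ (V' : Opens Y) (hV' : V' ≤ V), y ∈ V' ∧
      ∃ w : S.X₂.obj.obj (op ((Opens.map f).obj V')),
        (S.g.hom.app (op ((Opens.map f).obj V'))).hom w =
          (S.X₃.obj.map (homOfLE (map_le f hV')).op).hom z := by
  let I := injectiveResolution S.X₁
  have hK : IsZero ((K f I).homology 1) :=
    hz.of_iso (I.isoRightDerivedObj (CohTop.push f) 1).symm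
  let x₃ := secEquiv ((Opens.map f).obj V) S.X₃ z
  let ξ : Ext (freeSheaf (Opens.grothendieckTopology X) ((Opens.map f).obj V)) S.X₁ 1 :=
    x₃.comp hS.extClass (zero_add 1)
  have h0 : cmap f I V 1 ξ = 0 := eq_zero_of_isZero_sheaf hK V _
  obtain ⟨V', hV', hy', hres⟩ := exists_res_eq_zero f I V 1 ξ h0 y hy
  refine ⟨V', hV', hy', ?_⟩
  have hres' : Groth.Agent.Lead.Coh.res (homOfLE (map_le f hV')) ξ = 0 := hres
  rw [Groth.Agent.Lead.Coh.res_comp] at hres'
  have hx₃' : Groth.Agent.Lead.Coh.res (homOfLE (map_le f hV')) x₃ =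
      secEquiv ((Opens.map f).obj V') S.X₃ ((S.X₃.obj.map (homOfLE (map_le f hV')).op).hom z) := by
    show (Ext.mk₀ (freeSheafMap _ (homOfLE (map_le f hV')))).comp
      (secEquiv ((Opens.map f).obj V) S.X₃ z) (zero_add 0) = _
    rw [secEquiv_apply, secEquiv_apply, Ext.mk₀_comp_mk₀]
    congr 1
    apply (homEquivSections ((Opens.map f).obj V') S.X₃).injective
    rw [homEquivSections_naturality_left, Equiv.apply_symm_apply, Equiv.apply_symm_apply]
  rw [hx₃'] at hres'
  obtain ⟨x₂, hx₂⟩ := Ext.covariant_sequence_exact₃ _ hS _ rfl hres'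
  obtain ⟨w, rfl⟩ := (secEquiv ((Opens.map f).obj V') S.X₂).surjective x₂
  refine ⟨w, ?_⟩
  apply (secEquiv ((Opens.map f).obj V') S.X₃).injective
  rw [← secEquiv_naturality, hx₂]


/-- EGA II 5.2.2-type criterion: a quasi-compact quasi-separated morphism with `R¹f_* J = 0`
(first higher direct image of the underlying abelian sheaf) for every quasi-coherent ideal `J` is
affine. -/
theorem isAffineHom_of_isZero_RpushAb {X Y : Scheme.{u}} (f : X ⟶ Y) [QuasiCompact f]
    [QuasiSeparated f]
    (h : ∀ (J : X.Modules) (i : J ⟶ Coh.structureModule X), Mono i → J.IsQuasicoherent →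
      IsZero ((Coh.RpushAb f 1).obj (Coh.toAb J))) : IsAffineHom f := by
  refine Groth.Agent.H12.AffHomCrit2.isAffineHom_of_push_epi_on_ideals f ?_
  intro E hE h1 h2 h3 i hi
  have hmf : Mono E.f := hE.mono_f
  have hz := h E.X₁ (E.f ≫ i) (mono_comp _ _) h1
  have hS := Groth.Agent.H49.SectionsExact.shortExact_toSheaf E hE
  refine Groth.Agent.H18.epi_of_locally_mem_range _ ?_
  intro V t y hy
  obtain ⟨V', hV', hy', w, hw⟩ :=
    exists_locally_lift_of_isZero_Rpush f.base hS hz V t y hy
  exact ⟨V', hV', hy', w, hw⟩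


/-- the criterion of Serre: a quasi-compact scheme such that `H¹(X, I) = 0` for all quasi-coherent
ideals `I` is affine. -/
theorem isAffine_of_subsingleton_HH_one (X : Scheme.{u}) [CompactSpace X]
    (h : ∀ (I : X.Modules) (i : I ⟶ Coh.structureModule X), Mono i → I.IsQuasicoherent →
      Subsingleton (Coh.HH X I 1)) : IsAffine X := by
  have h1 : IsAffineOpen (⊤ : X.Opens) := by
    refine Groth.Agent.H12.AffHomCrit2.isAffineOpen_of_sectionsExactOnIdeals ⊤ isCompact_univ ?_
    intro E hE h1 h2 h3 i hi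
    have hmf : Mono E.f := hE.mono_f
    exact Groth.Agent.Lead.Coh.sections_top_surjective_of_subsingleton_HH_one E hE
      (h E.X₁ (E.f ≫ i) (mono_comp _ _) h1)
  have h2 : IsAffine ((⊤ : X.Opens) : Scheme.{u}) := h1
  exact IsAffine.of_isIso X.topIso.inv

end Groth.Agent.H12.AffHomCrit3
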