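import Groth.Agent.H12.ExtCases
import Groth.Agent.H12.QCohEpi
/-!
helper12: finitely many sections of a quasi-coherent module lie in one quasi-coherent submodule of
finite type, as soon as single sections do (sums of submodules).
-/

set_option autoImplicit false
universe u
noncomputable section
namespace Groth.Agent.H12.SubSum
open CategoryTheory CategoryTheory.Limits Opposite TopologicalSpace AlgebraicGeometry
open Groth.Agent.H18 Groth.Agent.H12.QCohAbelian

variable {X : Scheme.{u}}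

theorem isFiniteType_biprod (M N : X.Modules) [M.IsQuasicoherent] [N.IsQuasicoherent]
    (hM : SheafOfModules.IsFiniteType (R := X.ringCatSheaf) M)
    (hN : SheafOfModules.IsFiniteType (R := X.ringCatSheaf) N) :
    SheafOfModules.IsFiniteType (R := X.ringCatSheaf) (M ⊞ N) := by
  have := hM
  have := hN
  have hq : (M ⊞ N).IsQuasicoherent := isQuasicoherent_biprod M N
  refine Groth.Agent.H71.QCoh.isFiniteType_of_finite_sections_cover (M ⊞ N)
    (fun W : X.affineOpens => W.1) (iSup_affineOpens_eq_top X) (fun W => W.2) ?_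
  intro W
  have h1 : Module.Finite Γ(X, W.1) Γ(M, W.1) :=
    Groth.Agent.H44.finite_sections_of_isFiniteType M W.2
  have h2 : Module.Finite Γ(X, W.1) Γ(N, W.1) :=
    Groth.Agent.H44.finite_sections_of_isFiniteType N W.2
  let φ : (Γ(M, W.1) × Γ(N, W.1)) →ₗ[Γ(X, W.1)] Γ(M ⊞ N, W.1) :=
    { toFun := fun ab => ((biprod.inl : M ⟶ M ⊞ N).app W.1).hom ab.1 +
        ((biprod.inr : N ⟶ M ⊞ N).app W.1).hom ab.2
      map_add' := by
        intro a b
        simp only [Prod.fst_add, Prod.snd_add, map_add]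
        abel
      map_smul' := by
        intro r a
        simp only [Prod.smul_fst, Prod.smul_snd, RingHom.id_apply, smul_add]
        rw [Scheme.Modules.Hom.app_smul, Scheme.Modules.Hom.app_smul] }
  refine Module.Finite.of_surjective φ ?_
  intro x
  refine ⟨(((biprod.fst : M ⊞ N ⟶ M).app W.1).hom x, ((biprod.snd : M ⊞ N ⟶ N).app W.1).hom x), ?_⟩
  have htot : (biprod.fst : M ⊞ N ⟶ M) ≫ biprod.inl + biprod.snd ≫ biprod.inr = 𝟙 (M ⊞ N) :=
    biprod.total
  have h3 := congrArg (fun k : M ⊞ N ⟶ M ⊞ N => (k.app W.1).hom x) htot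
  exact h3

/-- all the sections in `T` lie in one quasi-coherent submodule of finite type. -/
def Captured (F : X.Modules) (T : Set (Σ U : X.affineOpens, Γ(F, U.1))) : Prop :=
  ∃ (E : X.Modules) (i : E ⟶ F), Mono i ∧ E.IsQuasicoherent ∧
    SheafOfModules.IsFiniteType (R := X.ringCatSheaf) E ∧
    ∀ a ∈ T, ∃ g : Γ(E, a.1.1), (i.app a.1.1).hom g = a.2

theorem Captured.mono {F : X.Modules} {T T' : Set (Σ U : X.affineOpens, Γ(F, U.1))}
    (h : Captured F T) (hT : T' ⊆ T) : Captured F T' := by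
  obtain ⟨E, i, h1, h2, h3, h4⟩ := h
  exact ⟨E, i, h1, h2, h3, fun a ha => h4 a (hT ha)⟩

theorem Captured.union {F : X.Modules} [F.IsQuasicoherent]
    {T₁ T₂ : Set (Σ U : X.affineOpens, Γ(F, U.1))}
    (h₁ : Captured F T₁) (h₂ : Captured F T₂) : Captured F (T₁ ∪ T₂) := by
  obtain ⟨E₁, i₁, hm₁, hq₁, hf₁, hs₁⟩ := h₁
  obtain ⟨E₂, i₂, hm₂, hq₂, hf₂, hs₂⟩ := h₂
  have hqb : (E₁ ⊞ E₂).IsQuasicoherent := isQuasicoherent_biprod E₁ E₂
  let φ : E₁ ⊞ E₂ ⟶ F := biprod.desc i₁ i₂
  have hqi : (Abelian.image φ).IsQuasicoherent := isQuasicoherent_image φ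
  have hfi : SheafOfModules.IsFiniteType (R := X.ringCatSheaf) (Abelian.image φ) :=
    Groth.Agent.H12.QCohEpi.isFiniteType_of_epi (M := E₁ ⊞ E₂) (N := Abelian.image φ)
      (Abelian.factorThruImage φ) (isFiniteType_biprod E₁ E₂ hf₁ hf₂)
  refine ⟨Abelian.image φ, Abelian.image.ι φ, inferInstance, hqi, hfi, ?_⟩
  rintro a (ha | ha)
  · obtain ⟨g, hg⟩ := hs₁ a ha
    refine ⟨((biprod.inl ≫ Abelian.factorThruImage φ).app a.1.1).hom g, ?_⟩
    have h1 : (biprod.inl ≫ Abelian.factorThruImage φ) ≫ Abelian.image.ι φ = i₁ := by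
      rw [Category.assoc, Abelian.image.fac]
      exact biprod.inl_desc _ _
    have h2 := congrArg (fun k : E₁ ⟶ F => (k.app a.1.1).hom g) h1
    exact h2.trans hg
  · obtain ⟨g, hg⟩ := hs₂ a ha
    refine ⟨((biprod.inr ≫ Abelian.factorThruImage φ).app a.1.1).hom g, ?_⟩
    have h1 : (biprod.inr ≫ Abelian.factorThruImage φ) ≫ Abelian.image.ι φ = i₂ := by
      rw [Category.assoc, Abelian.image.fac]
      exact biprod.inr_desc _ _
    have h2 := congrArg (fun k : E₂ ⟶ F => (k.app a.1.1).hom g) h1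
    exact h2.trans hg

theorem captured_of_finite {F : X.Modules} [F.IsQuasicoherent]
    (hsec : ∀ a : (Σ U : X.affineOpens, Γ(F, U.1)), Captured F {a})
    (T : Set (Σ U : X.affineOpens, Γ(F, U.1))) (hT : T.Finite) : Captured F T := by
  induction T, hT using Set.Finite.induction_on with
  | empty =>
    exact (hsec ⟨⟨⊥, isAffineOpen_bot X⟩, 0⟩).mono (Set.empty_subset _)
  | insert _ _ ih =>
    rw [Set.insert_eq]
    exact (hsec _).union ih

end Groth.Agent.H12.SubSum
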