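import Groth.Agent.H12.ExtCases
import Groth.Agent.H12.SubSum
import Groth.Prelude.Def_RelSpec

/-!
helper12: a quasi-coherent algebra is a quasi-coherent module; a quasi-coherent algebra of finite
type on a quasi-compact scheme is generated by a quasi-coherent submodule of finite type.
-/
set_option autoImplicit false
universe u
noncomputable section
namespace Groth.Agent.H12.AlgGen
open CategoryTheory CategoryTheory.Limits Opposite TopologicalSpace AlgebraicGeometry
open Groth.Agent.H18 Groth.Agent.H12.SubSheaf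

variable {X : Scheme.{u}} (B : RelSpec.QCAlg X)

/-- a section of the underlying module as an element of the ring of sections. -/
abbrev toB (W : X.Opens) (t : Γ(B.toModule, W)) : B.presheaf.obj (op W) := t

/-- an element of the ring of sections as a section of the underlying module. -/
abbrev ofB (W : X.Opens) (t : B.presheaf.obj (op W)) : Γ(B.toModule, W) := t

theorem toB_smul (W : X.Opens) (r : Γ(X, W)) (t : Γ(B.toModule, W)) :
    toB B W (r • t) = (B.str.app (op W)).hom r * toB B W t := rfl

theorem toB_mres {W W' : X.Opens} (h : W' ≤ W) (t : Γ(B.toModule, W)) :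
    toB B W' (mres B.toModule h t) = (B.presheaf.map (homOfLE h).op).hom (toB B W t) := rfl

theorem str_res {W W' : X.Opens} (h : W' ≤ W) (r : Γ(X, W)) :
    (B.presheaf.map (homOfLE h).op).hom ((B.str.app (op W)).hom r) =
      (B.str.app (op W')).hom ((X.presheaf.map (homOfLE h).op).hom r) := by
  have := B.str.naturality (homOfLE h).op
  exact (congrArg (fun k => k.hom r) this).symm

theorem isQuasicoherent_toModule : B.toModule.IsQuasicoherent := by
  refine isQuasicoherent_of_localizes B.toModule (fun W : X.affineOpens => W.1)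
    (iSup_affineOpens_eq_top X) (fun W => W.2) ?_ ?_
  · intro W r y
    let _ := (B.presheaf.map (homOfLE (X.basicOpen_le r)).op).hom.toAlgebra
    have hloc : IsLocalization.Away ((B.str.app (op W.1)).hom r)
        (B.presheaf.obj (op (X.basicOpen r))) := B.isQC W.1 W.2 r
    obtain ⟨n, x, hx⟩ := IsLocalization.Away.surj ((B.str.app (op W.1)).hom r) (toB B _ y)
    refine ⟨n, ofB B W.1 x, ?_⟩
    have h1 : toB B _ ((X.presheaf.map (homOfLE (X.basicOpen_le r)).op r) ^ n • y) =
        (B.str.app (op (X.basicOpen r))).hom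
          ((X.presheaf.map (homOfLE (X.basicOpen_le r)).op r) ^ n) * toB B _ y := rfl
    have h2 : (B.str.app (op (X.basicOpen r))).hom
        ((X.presheaf.map (homOfLE (X.basicOpen_le r)).op r) ^ n) =
        (algebraMap (B.presheaf.obj (op W.1)) (B.presheaf.obj (op (X.basicOpen r))))
          ((B.str.app (op W.1)).hom r) ^ n := by
      rw [map_pow]
      congr 1
      exact (str_res B (X.basicOpen_le r) r).symm
    change toB B _ _ = toB B _ _
    rw [h1, h2, mul_comm]
    exact hx
  · intro W r x hx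
    let _ := (B.presheaf.map (homOfLE (X.basicOpen_le r)).op).hom.toAlgebra
    have hloc : IsLocalization.Away ((B.str.app (op W.1)).hom r)
        (B.presheaf.obj (op (X.basicOpen r))) := B.isQC W.1 W.2 r
    have h0 : algebraMap (B.presheaf.obj (op W.1)) (B.presheaf.obj (op (X.basicOpen r)))
        (toB B W.1 x) = algebraMap (B.presheaf.obj (op W.1))
          (B.presheaf.obj (op (X.basicOpen r))) 0 := by
      rw [map_zero]
      exact hx
    obtain ⟨c, hc⟩ := IsLocalization.exists_of_eq (M := Submonoid.powers ((B.str.app (op W.1)).hom r)) h0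
    obtain ⟨n, hn⟩ := c.2
    refine ⟨n, ?_⟩
    change toB B W.1 (r ^ n • x) = 0
    rw [toB_smul, map_pow]
    have hn' : (B.str.app (op W.1)).hom r ^ n = (c : B.presheaf.obj (op W.1)) := hn
    rw [hn']
    rw [mul_zero] at hc
    exact hc


section Gen

variable (E : X.Modules) (j : E ⟶ B.toModule)

/-- the subring of `B(W)` generated by the functions and the sections of `E`. -/
def genRing (W : X.Opens) : Subring (B.presheaf.obj (op W)) :=
  Subring.closure (Set.range (B.str.app (op W)).hom ∪
    Set.range (fun e : Γ(E, W) => toB B W ((j.app W).hom e)))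

theorem str_mem_genRing (W : X.Opens) (r : Γ(X, W)) :
    (B.str.app (op W)).hom r ∈ genRing B E j W :=
  Subring.subset_closure (Or.inl ⟨r, rfl⟩)

theorem j_mem_genRing (W : X.Opens) (e : Γ(E, W)) :
    toB B W ((j.app W).hom e) ∈ genRing B E j W :=
  Subring.subset_closure (Or.inr ⟨e, rfl⟩)

theorem res_mem_genRing {W W' : X.Opens} (h : W' ≤ W) {t : B.presheaf.obj (op W)}
    (ht : t ∈ genRing B E j W) :
    (B.presheaf.map (homOfLE h).op).hom t ∈ genRing B E j W' := by
  have hle : genRing B E j W ≤ (genRing B E j W').comap (B.presheaf.map (homOfLE h).op).hom := by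
    refine (Subring.closure_le).mpr ?_
    rintro _ (⟨r, rfl⟩ | ⟨e, rfl⟩)
    · show (B.presheaf.map (homOfLE h).op).hom ((B.str.app (op W)).hom r) ∈ genRing B E j W'
      rw [str_res]
      exact str_mem_genRing B E j W' _
    · show (B.presheaf.map (homOfLE h).op).hom (toB B W ((j.app W).hom e)) ∈ genRing B E j W'
      have h1 := Groth.Agent.H12.QCohExt.app_mres j h e
      have h2 : (B.presheaf.map (homOfLE h).op).hom (toB B W ((j.app W).hom e)) =
          toB B W' ((j.app W').hom (mres E h e)) := h1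
      rw [h2]
      exact j_mem_genRing B E j W' _
  exact hle ht

/-- key step: an element of the generated subring over a basic open is, up to a power of the
function, the restriction of an element of the generated subring. -/
theorem exists_pow_mul_eq_res [E.IsQuasicoherent] {U : X.Opens} (hU : IsAffineOpen U)
    (f : Γ(X, U)) {t : B.presheaf.obj (op (X.basicOpen f))}
    (ht : t ∈ genRing B E j (X.basicOpen f)) :
    ∃ (n : ℕ) (a : B.presheaf.obj (op U)), a ∈ genRing B E j U ∧
      (B.presheaf.map (homOfLE (X.basicOpen_le f)).op).hom a =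
        ((B.str.app (op (X.basicOpen f))).hom
          ((X.presheaf.map (homOfLE (X.basicOpen_le f)).op).hom f)) ^ n * t := by
  set ρ := (B.presheaf.map (homOfLE (X.basicOpen_le f)).op).hom with hρ
  set φ := (B.str.app (op (X.basicOpen f))).hom
    ((X.presheaf.map (homOfLE (X.basicOpen_le f)).op).hom f) with hφ
  have hφ' : ρ ((B.str.app (op U)).hom f) = φ := str_res B (X.basicOpen_le f) f
  induction ht using Subring.closure_induction with
  | mem x hx =>
    rcases hx with ⟨r, rfl⟩ | ⟨e, rfl⟩
    · have hloc : IsLocalization.Away f Γ(X, X.basicOpen f) := hU.isLocalization_basicOpen f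
      obtain ⟨n, r', hr'⟩ := IsLocalization.Away.surj f r
      refine ⟨n, (B.str.app (op U)).hom r', str_mem_genRing B E j U r', ?_⟩
      rw [hρ, str_res, hφ, ← map_pow, ← map_mul]
      congr 1
      rw [mul_comm]
      exact hr'.symm
    · obtain ⟨n, e', he'⟩ := exists_pow_smul_eq_res_of_isQuasicoherent E hU f e
      refine ⟨n, toB B U ((j.app U).hom e'), j_mem_genRing B E j U e', ?_⟩
      have h1 := Groth.Agent.H12.QCohExt.app_mres j (X.basicOpen_le f) e'
      have h2 : ρ (toB B U ((j.app U).hom e')) =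
          toB B _ ((j.app (X.basicOpen f)).hom (mres E (X.basicOpen_le f) e')) := h1
      rw [h2]
      have h3 : mres E (X.basicOpen_le f) e' =
          ((X.presheaf.map (homOfLE (X.basicOpen_le f)).op).hom f) ^ n • e := he'.symm
      rw [h3, Scheme.Modules.Hom.app_smul, toB_smul, map_pow]
  | zero => exact ⟨0, 0, Subring.zero_mem _, by rw [map_zero, mul_zero]⟩
  | one => exact ⟨0, 1, Subring.one_mem _, by rw [map_one, pow_zero, mul_one]⟩
  | add x y _ _ hx hy =>
    obtain ⟨n, a, ha, hax⟩ := hx
    obtain ⟨m, b, hb, hby⟩ := hy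
    refine ⟨n + m, (B.str.app (op U)).hom f ^ m * a + (B.str.app (op U)).hom f ^ n * b,
      Subring.add_mem _ (Subring.mul_mem _ (Subring.pow_mem _ (str_mem_genRing B E j U f) m) ha)
        (Subring.mul_mem _ (Subring.pow_mem _ (str_mem_genRing B E j U f) n) hb), ?_⟩
    rw [map_add, map_mul, map_mul, map_pow, map_pow, hφ', hax, hby]
    ring
  | neg x _ hx =>
    obtain ⟨n, a, ha, hax⟩ := hx
    exact ⟨n, -a, Subring.neg_mem _ ha, by rw [map_neg, hax, mul_neg]⟩
  | mul x y _ _ hx hy =>
    obtain ⟨n, a, ha, hax⟩ := hx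
    obtain ⟨m, b, hb, hby⟩ := hy
    refine ⟨n + m, a * b, Subring.mul_mem _ ha hb, ?_⟩
    rw [map_mul, hax, hby]
    ring


theorem mem_genRing_of_cover [E.IsQuasicoherent] {U : X.Opens} (hU : IsAffineOpen U)
    (b : B.presheaf.obj (op U)) (s : Set Γ(X, U)) (hs : Ideal.span s = ⊤)
    (h : ∀ f ∈ s, (B.presheaf.map (homOfLE (X.basicOpen_le f)).op).hom b ∈
      genRing B E j (X.basicOpen f)) :
    b ∈ genRing B E j U := by
  let I : Ideal Γ(X, U) :=
    { carrier := {r | (B.str.app (op U)).hom r * b ∈ genRing B E j U}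
      add_mem' := by
        intro r r' hr hr'
        show (B.str.app (op U)).hom (r + r') * b ∈ genRing B E j U
        rw [map_add, add_mul]
        exact Subring.add_mem _ hr hr'
      zero_mem' := by
        show (B.str.app (op U)).hom 0 * b ∈ genRing B E j U
        rw [map_zero, zero_mul]
        exact Subring.zero_mem _
      smul_mem' := by
        intro c r hr
        show (B.str.app (op U)).hom (c • r) * b ∈ genRing B E j U
        rw [smul_eq_mul, map_mul, mul_assoc]
        exact Subring.mul_mem _ (str_mem_genRing B E j U c) hr }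
  have hrad : Ideal.span s ≤ I.radical := by
    rw [Ideal.span_le]
    intro f hf
    obtain ⟨n, a, ha, hax⟩ := exists_pow_mul_eq_res B E j hU f (h f hf)
    let _ := (B.presheaf.map (homOfLE (X.basicOpen_le f)).op).hom.toAlgebra
    have hloc : IsLocalization.Away ((B.str.app (op U)).hom f)
        (B.presheaf.obj (op (X.basicOpen f))) := B.isQC U hU f
    have h0 : algebraMap (B.presheaf.obj (op U)) (B.presheaf.obj (op (X.basicOpen f))) a =
        algebraMap (B.presheaf.obj (op U)) (B.presheaf.obj (op (X.basicOpen f)))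
          ((B.str.app (op U)).hom f ^ n * b) := by
      refine hax.trans ?_
      change _ = (B.presheaf.map (homOfLE (X.basicOpen_le f)).op).hom
        ((B.str.app (op U)).hom f ^ n * b)
      rw [map_mul, map_pow, str_res]
    obtain ⟨c, hc⟩ := IsLocalization.exists_of_eq
      (M := Submonoid.powers ((B.str.app (op U)).hom f)) h0
    obtain ⟨m, hm⟩ := c.2
    have hm' : (B.str.app (op U)).hom f ^ m = (c : B.presheaf.obj (op U)) := hm
    refine ⟨m + n, ?_⟩
    show (B.str.app (op U)).hom (f ^ (m + n)) * b ∈ genRing B E j U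
    rw [map_pow, pow_add, mul_assoc, hm', ← hc, ← hm']
    exact Subring.mul_mem _ (Subring.pow_mem _ (str_mem_genRing B E j U f) m) ha
  rw [hs, top_le_iff, Ideal.radical_eq_top] at hrad
  have h1 : (1 : Γ(X, U)) ∈ I := by rw [hrad]; trivial
  have h2 : (B.str.app (op U)).hom 1 * b ∈ genRing B E j U := h1
  rwa [map_one, one_mul] at h2

theorem genRing_basicOpen_eq_top {W : X.Opens} (hW : IsAffineOpen W)
    (htop : genRing B E j W = ⊤) (g : Γ(X, W)) : genRing B E j (X.basicOpen g) = ⊤ := by
  rw [eq_top_iff]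
  intro y _
  let _ := (B.presheaf.map (homOfLE (X.basicOpen_le g)).op).hom.toAlgebra
  have hloc : IsLocalization.Away ((B.str.app (op W)).hom g)
      (B.presheaf.obj (op (X.basicOpen g))) := B.isQC W hW g
  obtain ⟨n, c, hc⟩ := IsLocalization.Away.surj ((B.str.app (op W)).hom g) y
  have hc' : y * ((B.presheaf.map (homOfLE (X.basicOpen_le g)).op).hom
      ((B.str.app (op W)).hom g)) ^ n =
      (B.presheaf.map (homOfLE (X.basicOpen_le g)).op).hom c := hc
  rw [str_res] at hc'
  have hcm : (B.presheaf.map (homOfLE (X.basicOpen_le g)).op).hom c ∈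
      genRing B E j (X.basicOpen g) :=
    res_mem_genRing B E j (X.basicOpen_le g) (by rw [htop]; trivial)
  have hu : IsUnit ((X.presheaf.map (homOfLE (X.basicOpen_le g)).op).hom g) :=
    RingedSpace.isUnit_res_basicOpen _ g
  obtain ⟨v, hv⟩ := hu
  have h1 : y = (B.presheaf.map (homOfLE (X.basicOpen_le g)).op).hom c *
      ((B.str.app (op (X.basicOpen g))).hom ((v⁻¹ : (Γ(X, X.basicOpen g))ˣ) : Γ(X, X.basicOpen g))) ^ n := by
    rw [← hc', ← hv, mul_assoc, ← mul_pow, ← map_mul, Units.mul_inv, map_one, one_pow, mul_one]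
  rw [h1]
  exact Subring.mul_mem _ hcm (Subring.pow_mem _ (str_mem_genRing B E j _ _) n)

theorem genRing_eq_top_of_cover [E.IsQuasicoherent] {ι : Type*} (V : ι → X.Opens)
    (hV : ∀ i, IsAffineOpen (V i)) (hcov : ∀ x : X, ∃ i, x ∈ V i)
    (htop : ∀ i, genRing B E j (V i) = ⊤) {U : X.Opens} (hU : IsAffineOpen U) :
    genRing B E j U = ⊤ := by
  rw [eq_top_iff]
  intro b _
  let s : Set Γ(X, U) := {f | (B.presheaf.map (homOfLE (X.basicOpen_le f)).op).hom b ∈
      genRing B E j (X.basicOpen f)}
  refine mem_genRing_of_cover B E j hU b s ?_ (fun f hf => hf)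
  rw [← hU.self_le_iSup_basicOpen_iff]
  intro x hx
  obtain ⟨i, hxi⟩ := hcov x
  obtain ⟨f, g, e, hxf⟩ := exists_basicOpen_le_affine_inter hU (hV i) x ⟨hx, hxi⟩
  have h1 : genRing B E j (X.basicOpen f) = ⊤ := by
    rw [e]
    exact genRing_basicOpen_eq_top B E j (hV i) (htop i) g
  have hf : f ∈ s := by
    show _ ∈ genRing B E j (X.basicOpen f)
    rw [h1]
    trivial
  exact Opens.mem_iSup.mpr ⟨⟨f, hf⟩, hxf⟩

end Gen


open Groth.Agent.H12.SubSum in
/-- a quasi-coherent algebra of finite type on a quasi-compact scheme is generated by a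
quasi-coherent submodule of finite type, provided single sections lie in such submodules. -/
theorem exists_ft_generating_submodule [CompactSpace X]
    (hsec : ∀ a : (Σ U : X.affineOpens, Γ(B.toModule, U.1)), Captured B.toModule {a})
    (hB : ∀ U : X.affineOpens, (B.str.app (op (U : X.Opens))).hom.FiniteType) :
    ∃ (E : X.Modules) (j : E ⟶ B.toModule), Mono j ∧ E.IsQuasicoherent ∧
      SheafOfModules.IsFiniteType (R := X.ringCatSheaf) E ∧
      ∀ U : X.affineOpens, genRing B E j U.1 = ⊤ := by
  have hq : B.toModule.IsQuasicoherent := isQuasicoherent_toModule B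
  obtain ⟨s, hs, hst⟩ := (isCompact_iff_finite_and_eq_biUnion_affineOpens (X := X) (U := ⊤)).mp
    (by simpa using isCompact_univ)
  have hG : ∀ V : X.affineOpens, ∃ G : Finset (B.presheaf.obj (op V.1)),
      Subring.closure (Set.range (B.str.app (op V.1)).hom ∪ (G : Set (B.presheaf.obj (op V.1)))) =
        ⊤ := by
    intro V
    let _ := (B.str.app (op V.1)).hom.toAlgebra
    have hft : Algebra.FiniteType Γ(X, V.1) (B.presheaf.obj (op V.1)) := hB V
    obtain ⟨G, hG⟩ := hft.out
    refine ⟨G, ?_⟩
    have h1 := Algebra.adjoin_eq_ring_closure (R := Γ(X, V.1)) (G : Set (B.presheaf.obj (op V.1)))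
    rw [hG] at h1
    exact h1.symm.trans Algebra.top_toSubring
  choose G hG using hG
  let T : Set (Σ U : X.affineOpens, Γ(B.toModule, U.1)) :=
    ⋃ V ∈ s, (fun b : B.presheaf.obj (op V.1) => (⟨V, ofB B V.1 b⟩ :
      Σ U : X.affineOpens, Γ(B.toModule, U.1))) '' (G V : Set (B.presheaf.obj (op V.1)))
  have hT : T.Finite := hs.biUnion fun V _ => (Finset.finite_toSet _).image _
  obtain ⟨E, j, hm, hqE, hft, hsec'⟩ := captured_of_finite hsec T hT
  refine ⟨E, j, hm, hqE, hft, fun U => ?_⟩
  refine genRing_eq_top_of_cover B E j (fun V : s => V.1.1) (fun V => V.1.2) ?_ ?_ U.2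
  · intro x
    have hx : x ∈ (⊤ : X.Opens) := trivial
    rw [hst] at hx
    obtain ⟨V, hV⟩ := Opens.mem_iSup.mp hx
    obtain ⟨hVs, hxV⟩ := Opens.mem_iSup.mp hV
    exact ⟨⟨V, hVs⟩, hxV⟩
  · rintro ⟨V, hVs⟩
    rw [eq_top_iff, ← hG V]
    refine (Subring.closure_le).mpr ?_
    rintro b (hb | hb)
    · exact Subring.subset_closure (Or.inl hb)
    · have hbT : (⟨V, ofB B V.1 b⟩ : Σ U : X.affineOpens, Γ(B.toModule, U.1)) ∈ T :=
        Set.mem_biUnion hVs ⟨b, hb, rfl⟩
      obtain ⟨g, hg⟩ := hsec' _ hbT
      exact Subring.subset_closure (Or.inr ⟨g, hg⟩)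


open Groth.Agent.H12.SubSum in
theorem captured_singleton_of_ext (F : X.Modules) [F.IsQuasicoherent]
    (hext : ∀ (U : X.Opens) (_ : IsAffineOpen U) (G : (U : Scheme.{u}).Modules)
      (i : G ⟶ F.restrict U.ι) [Mono i]
      [G.IsQuasicoherent] (_ : SheafOfModules.IsFiniteType (R := (U : Scheme.{u}).ringCatSheaf) G),
      ∃ (G' : X.Modules) (i' : G' ⟶ F) (e : G'.restrict U.ι ≅ G), Mono i' ∧ G'.IsQuasicoherent ∧
      SheafOfModules.IsFiniteType (R := X.ringCatSheaf) G' ∧
      e.hom ≫ i = (Scheme.Modules.restrictFunctor U.ι).map i')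
    (a : (Σ U : X.affineOpens, Γ(F, U.1))) : Captured F {a} := by
  obtain ⟨G', i', h1, h2, h3, g, hg⟩ :=
    Groth.Agent.H12.ExtCases.exists_ft_sub_of_section_of_ext F a.1.1 a.1.2 a.2
      (fun G i _ _ hG => hext a.1.1 a.1.2 G i hG)
  refine ⟨G', i', h1, h2, h3, ?_⟩
  rintro a' rfl
  exact ⟨g, hg⟩

end Groth.Agent.H12.AlgGen
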