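import Mathlib
import Groth.Prelude.Def_Coh
import Groth.Agent.H18.QCohLocalize
import Groth.Agent.H18.QCohCriterion
import Groth.Agent.Lead.Coh.AffineOpen
import Groth.Agent.H45.SheafTensor.ToSheaf

/-!
helper12: sections of short exact sequences of `O_X`-modules over affine opens, and
extensions of quasi-coherent modules.
-/

set_option autoImplicit false
universe u

noncomputable section

namespace Groth.Agent.H12.QCohExt

open CategoryTheory CategoryTheory.Limits Opposite TopologicalSpace AlgebraicGeometry Abelian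
open Groth.Agent.Lead.Coh Groth.Agent.H18

variable {X : Scheme.{u}}

variable (X) in
/-- the forgetful functor to abelian sheaves, with source `X.Modules`. -/
abbrev toAbF : X.Modules ⥤ Sheaf (Opens.grothendieckTopology X) AddCommGrpCat.{u} :=
  SheafOfModules.toSheaf.{u} X.ringCatSheaf

instance : (toAbF X).Additive :=
  inferInstanceAs (SheafOfModules.toSheaf.{u} X.ringCatSheaf).Additive

instance : PreservesFiniteLimits (toAbF X) :=
  inferInstanceAs (PreservesFiniteLimits (SheafOfModules.toSheaf.{u} X.ringCatSheaf))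

instance : PreservesFiniteColimits (toAbF X) :=
  Groth.Agent.H45.preservesFiniteColimits_toSheaf (O := X.sheaf)

/-- the underlying short exact sequence of abelian sheaves. -/
theorem toAb_shortExact (S : ShortComplex X.Modules) (hS : S.ShortExact) :
    (S.map (toAbF X)).ShortExact :=
  hS.map_of_exact _

/-- sections over `U` as a functor to abelian groups. -/
abbrev secFunctor (U : X.Opens) : X.Modules ⥤ Ab :=
  Scheme.Modules.toPresheaf X ⋙ (evaluation _ _).obj (op U)

instance (U : X.Opens) : PreservesFiniteLimits (secFunctor (X := X) U) := by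
  have h1 : PreservesFiniteLimits ((evaluation (Opens X)ᵒᵖ AddCommGrpCat.{u}).obj (op U)) :=
    ⟨fun J _ _ => inferInstance⟩
  have h2 : PreservesFiniteLimits (Scheme.Modules.toPresheaf X) := inferInstance
  exact comp_preservesFiniteLimits _ _

instance (U : X.Opens) : (secFunctor (X := X) U).PreservesZeroMorphisms where
  map_zero _ _ := rfl

theorem app_injective (S : ShortComplex X.Modules) (hS : S.ShortExact) (U : X.Opens) :
    Function.Injective (S.f.app U) := by
  have : Mono S.f := hS.mono_f
  have h : Mono ((secFunctor U).map S.f) := inferInstance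
  exact (AddCommGrpCat.mono_iff_injective _).mp h

theorem app_exact (S : ShortComplex X.Modules) (hS : S.ShortExact) (U : X.Opens)
    (y : Γ(S.X₂, U)) (hy : S.g.app U y = 0) : ∃ x : Γ(S.X₁, U), S.f.app U x = y := by
  have h : (S.map (secFunctor U)).Exact :=
    hS.exact.map_of_mono_of_preservesKernel (secFunctor U) hS.mono_f inferInstance
  rw [ShortComplex.ab_exact_iff] at h
  exact h y hy

/-- sections are right exact over an open with vanishing first cohomology of the kernel. -/
theorem app_surjective_of_hVanish (S : ShortComplex X.Modules) (hS : S.ShortExact) (U : X.Opens)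
    (hv : HVanish (T := X) (Coh.toAb S.X₁) 1 U) : Function.Surjective (S.g.app U) := by
  intro x
  have hS' := toAb_shortExact S hS
  let S' := S.map (toAbF X)
  let x' : S'.X₃.obj.obj (op U) := x
  let g : freeSheaf (Opens.grothendieckTopology X) U ⟶ S'.X₃ :=
    (homEquivSections U S'.X₃).symm x'
  obtain ⟨x₂, hx₂⟩ := Ext.covariant_sequence_exact₃ _ hS' (Ext.mk₀ g) (zero_add 1) (hv _)
  obtain ⟨g₂, rfl⟩ := (Ext.mk₀_bijective _ _).2 x₂
  rw [Ext.mk₀_comp_mk₀] at hx₂
  have hg : g₂ ≫ S'.g = g := (Ext.mk₀_bijective _ _).1 hx₂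
  refine ⟨homEquivSections U S'.X₂ g₂, ?_⟩
  have := homEquivSections_naturality_right U S'.g g₂
  rw [hg] at this
  have hx : homEquivSections U S'.X₃ g = x' := Equiv.apply_symm_apply _ _
  rw [hx] at this
  exact this.symm

theorem app_surjective_of_isAffineOpen (S : ShortComplex X.Modules) (hS : S.ShortExact)
    [S.X₁.IsQuasicoherent] {U : X.Opens} (hU : IsAffineOpen U) :
    Function.Surjective (S.g.app U) :=
  app_surjective_of_hVanish S hS U (hVanish_of_isAffineOpen X S.X₁ hU 0)

theorem app_mres {M N : X.Modules} (φ : M ⟶ N) {W W' : X.Opens} (h : W' ≤ W) (x : Γ(M, W)) :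
    mres N h (φ.app W x) = φ.app W' (mres M h x) := by
  have := φ.mapPresheaf.naturality (homOfLE h).op
  exact (congrArg (fun k => k.hom x) this).symm

theorem app_zero_apply (S : ShortComplex X.Modules) (U : X.Opens) (x : Γ(S.X₁, U)) :
    S.g.app U (S.f.app U x) = 0 := by
  have : S.f.app U ≫ S.g.app U = 0 := by
    rw [← Scheme.Modules.Hom.comp_app, S.zero]
    rfl
  exact congrArg (fun k => k.hom x) this

/-- an extension of quasi-coherent modules is quasi-coherent. -/
theorem isQuasicoherent_of_shortExact (S : ShortComplex X.Modules) (hS : S.ShortExact)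
    [S.X₁.IsQuasicoherent] [S.X₃.IsQuasicoherent] : S.X₂.IsQuasicoherent := by
  refine isQuasicoherent_of_localizes S.X₂ (ι := X.affineOpens) (fun U => U.1) ?_ (fun U => U.2)
    ?_ ?_
  · exact X.isBasis_affineOpens.isOpenCover
  · intro U r y
    have hD : X.basicOpen r ≤ U.1 := X.basicOpen_le r
    obtain ⟨n, zbar, hz⟩ := exists_pow_smul_eq_res_of_isQuasicoherent S.X₃ U.2 r
      (S.g.app (X.basicOpen r) y)
    obtain ⟨z, rfl⟩ := app_surjective_of_isAffineOpen S hS U.2 zbar
    set ρ := X.presheaf.map (homOfLE hD).op r with hρ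
    have ht : S.g.app (X.basicOpen r) (ρ ^ n • y - mres S.X₂ hD z) = 0 := by
      rw [map_sub, Scheme.Modules.Hom.app_smul, hz, app_mres, sub_self]
    obtain ⟨v, hv⟩ := app_exact S hS _ _ ht
    obtain ⟨m, w, hw⟩ := exists_pow_smul_eq_res_of_isQuasicoherent S.X₁ U.2 r v
    refine ⟨m + n, S.f.app U.1 w + r ^ m • z, ?_⟩
    have h1 : ρ ^ m • (ρ ^ n • y - mres S.X₂ hD z) = mres S.X₂ hD (S.f.app U.1 w) := by
      rw [← hv, ← Scheme.Modules.Hom.app_smul, hw, app_mres]
    rw [map_add, mres_smul, map_pow, ← h1, smul_sub, pow_add, mul_smul]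
    abel
  · intro U r x hx
    have hD : X.basicOpen r ≤ U.1 := X.basicOpen_le r
    have h0 : mres S.X₃ hD (S.g.app U.1 x) = 0 := by
      rw [app_mres, hx, map_zero]
    obtain ⟨n, hn⟩ := exists_pow_smul_eq_zero_of_isQuasicoherent S.X₃ U.2 r _ h0
    have h1 : S.g.app U.1 (r ^ n • x) = 0 := by
      rw [Scheme.Modules.Hom.app_smul, hn]
    obtain ⟨w, hw⟩ := app_exact S hS _ _ h1
    have h2 : S.f.app (X.basicOpen r) (mres S.X₁ hD w) = 0 := by
      rw [← app_mres, hw, mres_smul, hx, smul_zero]
    have h3 : mres S.X₁ hD w = 0 := by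
      apply app_injective S hS (X.basicOpen r)
      rw [h2, map_zero]
    obtain ⟨m, hm⟩ := exists_pow_smul_eq_zero_of_isQuasicoherent S.X₁ U.2 r _ h3
    refine ⟨m + n, ?_⟩
    rw [pow_add, mul_smul, ← hw, ← Scheme.Modules.Hom.app_smul, hm, map_zero]

end Groth.Agent.H12.QCohExt
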