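import Groth.Agent.H12.StratE
import Groth.Agent.H12.AffHomCrit3
import Groth.Agent.H18.ResProp.Ample
import Groth.Agent.H45.KFlat.Symmetry
import Groth.Agent.H67.ParaExt2
import Groth.Prelude.Def_PicGrp
set_option autoImplicit false
universe u
noncomputable section
namespace Groth.Agent.H12.AmpleAffine
open CategoryTheory CategoryTheory.Limits Opposite TopologicalSpace AlgebraicGeometry
open Groth.Agent.H18 Groth.Agent.H18.STL Groth.Agent.H18.ResProp

variable {X : Scheme.{u}}

/-- the symmetry of `tensorMod` -/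
def tensorModBraid (A B : X.Modules) : CohB1.tensorMod A B ≅ CohB1.tensorMod B A :=
  ((Groth.Agent.H45.tensorBiFlipIso (C := Opens X) (J := Opens.grothendieckTopology X)
    X.sheaf).app A).app B

/-- the left unit isomorphism of `tensorMod` -/
def unitorL (A : X.Modules) : CohB1.tensorMod (Coh.structureModule X) A ≅ A :=
  tensorModBraid _ _ ≪≫ SecTwist.unitorR A

/-- the interchange isomorphism -/
def interchange (A B C D : X.Modules) :
    CohB1.tensorMod (CohB1.tensorMod A B) (CohB1.tensorMod C D) ≅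
      CohB1.tensorMod (CohB1.tensorMod A C) (CohB1.tensorMod B D) :=
  tensorModAssoc A B (CohB1.tensorMod C D) ≪≫
    PicGrp.tensorModIso (Iso.refl A)
      ((tensorModAssoc B C D).symm ≪≫ PicGrp.tensorModIso (tensorModBraid B C) (Iso.refl D) ≪≫
        tensorModAssoc C B D) ≪≫
    (tensorModAssoc A C (CohB1.tensorMod B D)).symm

/-- powers of an inverse pair form an inverse pair -/
theorem nonempty_tensorPow_iso (L L' : X.Modules)
    (e : CohB1.tensorMod L L' ≅ Coh.structureModule X) :
    ∀ n : ℕ, Nonempty (CohB1.tensorMod (CohB1.tensorPow L n) (CohB1.tensorPow L' n) ≅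
      Coh.structureModule X)
  | 0 => ⟨SecTwist.unitorR _⟩
  | n + 1 => by
    obtain ⟨en⟩ := nonempty_tensorPow_iso L L' e n
    exact ⟨interchange _ _ _ _ ≪≫ PicGrp.tensorModIso en e ≪≫ SecTwist.unitorR _⟩

/-- twisting down along a given inverse pair: a quotient `G ↠ M ⊗ N` gives a quotient
`G ⊗ N' ↠ M`. -/
theorem exists_epi_twist_down {G M N N' : X.Modules}
    (e : CohB1.tensorMod N N' ≅ Coh.structureModule X) (p : G ⟶ CohB1.tensorMod M N) [Epi p] :
    ∃ π : CohB1.tensorMod G N' ⟶ M, Epi π := by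
  have h1 : Epi (KoszTw.tensorMap p (𝟙 N')) := epi_tensorMap_left p N'
  have h2 : IsIso (KoszTw.tensorMap (𝟙 M) e.hom) := by
    rw [← KoszTw.tensorBi_obj_map]
    exact (((DCoh.tensorBi (X := X)).obj M).mapIso e).isIso_hom
  exact ⟨KoszTw.tensorMap p (𝟙 N') ≫ (tensorModAssoc M N N').hom ≫
    KoszTw.tensorMap (𝟙 M) e.hom ≫ (SecTwist.unitorR M).hom, inferInstance⟩

/-- a free module tensored with `A` is a coproduct of copies of `A`. -/
def freeTensorIso (ι : Type u) (A : X.Modules) :
    CohB1.tensorMod (SheafOfModules.free ι : X.Modules) A ≅ ∐ (fun _ : ι => A) := by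
  haveI : PreservesColimitsOfSize.{u, u} ((DCoh.tensorBi (X := X)).flip.obj A) :=
    Groth.Agent.H45.preservesColimits_tensorBi_flip_obj (O := X.sheaf) A
  exact PreservesCoproduct.iso ((DCoh.tensorBi (X := X)).flip.obj A)
    (fun _ : ι => Coh.structureModule X) ≪≫ Sigma.mapIso (fun _ => unitorL A)

/-- the second member of an inverse pair with invertible first member is invertible. -/
theorem isInvertible_of_inverse {L L' : X.Modules} (hL : PicF.IsInvertible L)
    (e : CohB1.tensorMod L L' ≅ Coh.structureModule X) : PicF.IsInvertible L' := by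
  obtain ⟨L'', hL'', ⟨e''⟩⟩ := Groth.Agent.H18.STL.exists_inverse hL
  refine Groth.Agent.H67.ParaExt.isInvertible_of_iso ?_ hL''
  exact (unitorL L'').symm ≪≫ PicGrp.tensorModIso e.symm (Iso.refl L'') ≪≫
    PicGrp.tensorModIso (tensorModBraid L L') (Iso.refl L'') ≪≫ tensorModAssoc L' L L'' ≪≫
    PicGrp.tensorModIso (Iso.refl L') e'' ≪≫ SecTwist.unitorR L'

/-- a finite-type quasi-coherent module on a scheme with an ample `L` whose negative powers are
eventually acyclic is a quotient of an acyclic quasi-coherent module. -/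
theorem exists_epi_acyclic [QuasiSeparatedSpace X] {L L' : X.Modules} (hL : CohB1.IsAmple L)
    (e : CohB1.tensorMod L L' ≅ Coh.structureModule X) (n₀ : ℕ)
    (h : ∀ n : ℕ, n₀ ≤ n → ∀ p : ℕ, 0 < p → Subsingleton (Coh.HH X (CohB1.tensorPow L' n) p))
    (G : X.Modules) [G.IsQuasicoherent] [SheafOfModules.IsFiniteType (R := X.ringCatSheaf) G] :
    ∃ (S : X.Modules) (q : S ⟶ G), Epi q ∧ S.IsQuasicoherent ∧
      ∀ p, 0 < p → Subsingleton (Coh.HH X S p) := by
  have hc : CompactSpace X := hL.2.1
  obtain ⟨n₁, hn₁⟩ := exists_forall_epi_free_of_isAmple hL G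
  obtain ⟨ι, p, hp⟩ := hn₁ (max n₀ n₁) (le_max_right _ _)
  obtain ⟨en⟩ := nonempty_tensorPow_iso L L' e (max n₀ n₁)
  obtain ⟨π, hπ⟩ := @exists_epi_twist_down _ _ _ _ _ en p hp
  have hinv : PicF.IsInvertible (CohB1.tensorPow L' (max n₀ n₁)) :=
    isInvertible_tensorPow (isInvertible_of_inverse hL.1 e) _
  have hq : (CohB1.tensorPow L' (max n₀ n₁)).IsQuasicoherent :=
    isQuasicoherent_of_isInvertible hinv
  have hqc : (∐ fun _ : ι => CohB1.tensorPow L' (max n₀ n₁)).IsQuasicoherent :=
    Groth.Agent.H12.StratA.isQuasicoherent_coprod _ (fun _ => hq)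
  refine ⟨_, π, hπ, ?_, ?_⟩
  · exact Groth.Agent.H12.QCohAbelian.isQuasicoherent_of_iso (freeTensorIso ι _).symm
  · intro p hp
    exact Groth.Agent.H12.StratA.subsingleton_HH_of_iso (freeTensorIso ι _).symm p
      (Groth.Agent.H12.QAffAcyclic.subsingleton_HH_sigma _ p
        (fun _ => h _ (le_max_left _ _) p hp))

/-- a scheme with an ample invertible module whose negative powers are eventually acyclic is
affine. -/
theorem isAffine_of_isAmple_of_acyclic (X : Scheme.{u}) (L L' : X.Modules)
    (hL : CohB1.IsAmple L) (e : CohB1.tensorMod L L' ≅ Coh.structureModule X) (n₀ : ℕ)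
    (h : ∀ n : ℕ, n₀ ≤ n → ∀ p : ℕ, 0 < p → Subsingleton (Coh.HH X (CohB1.tensorPow L' n) p)) :
    IsAffine X := by
  have hc : CompactSpace X := hL.2.1
  have hqs : QuasiSeparatedSpace X := quasiSeparatedSpace_of_cover hL.1 hL.2.2
  have key : ∀ (F : X.Modules), F.IsQuasicoherent → True → ∀ p, 0 < p →
      Subsingleton (Coh.HH X F p) := by
    refine Groth.Agent.H12.StratA.subsingleton_HH_of_generated (fun _ => True) 0 ?_
    intro F hF _
    obtain ⟨ι, G, i, hi, hGq, hGf, hepi⟩ :=
      Groth.Agent.H12.StratE.exists_epi_coprod_finiteType F hF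
    have hS : ∀ j, ∃ (S : X.Modules) (q : S ⟶ G j), Epi q ∧ S.IsQuasicoherent ∧
        ∀ p, 0 < p → Subsingleton (Coh.HH X S p) := fun j => by
      have := hGq j
      have := hGf j
      exact exists_epi_acyclic hL e n₀ h (G j)
    choose S q hq hSq hSa using hS
    refine ⟨ι, S, Sigma.desc (fun j => q j ≫ i j), ?_, hSq, trivial, fun j p hp => hSa j p hp⟩
    constructor
    intro Z a b hab
    have : ∀ j, i j ≫ a = i j ≫ b := fun j => by
      have hj := congrArg (fun t => Sigma.ι S j ≫ t) hab
      simp only [← Category.assoc, Sigma.ι_desc] at hj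
      have := hq j
      simpa [cancel_epi] using hj
    have h2 : Sigma.desc i ≫ a = Sigma.desc i ≫ b := by
      apply Sigma.hom_ext
      intro j
      simp only [← Category.assoc, Sigma.ι_desc]
      exact this j
    exact (cancel_epi _).1 h2
  refine Groth.Agent.H12.AffHomCrit3.isAffine_of_subsingleton_HH_one X ?_
  intro I i hi hI
  exact key I hI trivial 1 Nat.one_pos

end Groth.Agent.H12.AmpleAffine
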