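import Groth.Agent.H12.TCx4
import Groth.Agent.H12.FlatExact

set_option autoImplicit false
universe u v

open CategoryTheory CategoryTheory.Limits MonoidalCategory CohIII

namespace Groth.Agent.H12.TCx
section Exactness
variable {A : Type u} [CommRing A] {ι : Type} {c : ComplexShape ι}
  (P : HomologicalComplex (ModuleCat.{u} A) c) (p : ι)

theorem range_d_congr {i i' j : ι} (h : i = i') :
    LinearMap.range (P.d i j).hom = LinearMap.range (P.d i' j).hom := by
  subst h; rfl

theorem range_d₁_next (hrel : c.Rel p (c.next p)) :
    LinearMap.range (d₁ P (c.next p)) = LinearMap.range (d₀ P p) :=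
  range_d_congr P (c.prev_eq' hrel)

theorem range_lW : LinearMap.range (lW P p) = LinearMap.range (d₀ P p) := by
  rw [← lW_comp_πW]
  exact (LinearMap.range_comp_of_range_eq_top _ (Submodule.range_mkQ _)).symm

/-- flatness of the boundaries `B = im d₀` from flatness of `W_next`. -/
theorem flat_range_lW (hrel : c.Rel p (c.next p)) (hn : Module.Flat A (P.X (c.next p)))
    (hW : Module.Flat A (W P (c.next p))) : Module.Flat A (LinearMap.range (lW P p)) := by
  rw [range_lW, ← range_d₁_next P p hrel]
  exact flat_of_exact_left (LinearMap.range (d₁ P (c.next p))).subtype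
    (LinearMap.range (d₁ P (c.next p))).mkQ (Submodule.subtype_injective _)
    (Submodule.mkQ_surjective _) (LinearMap.exact_subtype_mkQ _)

theorem exact_ker_rangeRestrict :
    Function.Exact (LinearMap.ker (lW P p)).subtype (lW P p).rangeRestrict := by
  intro x
  constructor
  · intro hx
    refine ⟨⟨x, ?_⟩, rfl⟩
    rw [LinearMap.mem_ker]
    exact congrArg Subtype.val hx
  · rintro ⟨y, rfl⟩
    apply Subtype.ext
    exact y.2

theorem flat_Hc (hW : Module.Flat A (W P p)) (hB : Module.Flat A (LinearMap.range (lW P p))) :
    Module.Flat A (Hc P p) :=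
  flat_of_exact_left (LinearMap.ker (lW P p)).subtype (lW P p).rangeRestrict
    (Submodule.subtype_injective _) (LinearMap.surjective_rangeRestrict _)
    (exact_ker_rangeRestrict P p)

theorem flat_W_of_flat_Hc (hH : Module.Flat A (Hc P p))
    (hB : Module.Flat A (LinearMap.range (lW P p))) : Module.Flat A (W P p) :=
  flat_of_exact_middle (LinearMap.ker (lW P p)).subtype (lW P p).rangeRestrict
    (Submodule.subtype_injective _) (LinearMap.surjective_rangeRestrict _)
    (exact_ker_rangeRestrict P p)

theorem preservesMono_iff_flat_W (hn : Module.Flat A (P.X (c.next p))) :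
    (TFun P p).PreservesMonomorphisms ↔ Module.Flat A (W P p) :=
  ⟨flat_of_preservesMono P p hn, preservesMono_of_flat P p⟩

theorem preservesEpi_iff_flat_W_next (hP : ∀ i, Module.Flat A (P.X i))
    (hrel : c.Rel p (c.next p)) :
    (TFun P p).PreservesEpimorphisms ↔ Module.Flat A (W P (c.next p)) := by
  rw [preservesEpi_iff_preservesMono P hP p (c.next p) hrel,
    preservesMono_iff_flat_W P (c.next p) (hP _)]

/-- S2410 in general form. -/
theorem exact_iff_epi_and_free [IsNoetherianRing A] [IsLocalRing A]
    (hP : ∀ i, Module.Finite A (P.X i) ∧ Module.Flat A (P.X i)) (hrel : c.Rel p (c.next p)) :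
    ((TFun P p).PreservesMonomorphisms ∧ (TFun P p).PreservesEpimorphisms) ↔
      ((TFun P p).PreservesEpimorphisms ∧ Module.Free A (T P p (ModuleCat.of A A))) := by
  have hfl : ∀ i, Module.Flat A (P.X i) := fun i => (hP i).2
  have hfin : Module.Finite A (P.X p) := (hP p).1
  have hWfin : Module.Finite A (W P p) := inferInstance
  have hHfin : Module.Finite A (Hc P p) := inferInstance
  constructor
  · rintro ⟨hm, he⟩
    refine ⟨he, ?_⟩
    have hW : Module.Flat A (W P p) := (preservesMono_iff_flat_W P p (hfl _)).mp hm
    have hWn : Module.Flat A (W P (c.next p)) := (preservesEpi_iff_flat_W_next P p hfl hrel).mp he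
    have hB := flat_range_lW P p hrel (hfl _) hWn
    have hH := flat_Hc P p hW hB
    have : Module.Free A (Hc P p) := Module.free_of_flat_of_isLocalRing
    exact Module.Free.of_equiv (TAEquiv P p).symm
  · rintro ⟨he, hfree⟩
    refine ⟨?_, he⟩
    have hWn : Module.Flat A (W P (c.next p)) := (preservesEpi_iff_flat_W_next P p hfl hrel).mp he
    have hB := flat_range_lW P p hrel (hfl _) hWn
    have : Module.Free A (Hc P p) := Module.Free.of_equiv (TAEquiv P p)
    have hH : Module.Flat A (Hc P p) := inferInstance
    exact (preservesMono_iff_flat_W P p (hfl _)).mpr (flat_W_of_flat_Hc P p hH hB)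

end Exactness
end Groth.Agent.H12.TCx
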