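import Groth.Agent.H12.Bridge
import Groth.Agent.H12.TCx5

set_option autoImplicit false
universe u

open CategoryTheory TensorProduct CohIII

namespace Groth.Agent.H12.BW

variable {A : Type u} [CommRing A] (B : Type u) [CommRing B] [Algebra A B]

theorem bridge_natural_hom {M N : ModuleCat.{u} A} (d : M ⟶ N) :
    (ModuleCat.extendScalars (algebraMap A B)).map d ≫
        ModuleCat.ofHom (X := ((ModuleCat.extendScalars (algebraMap A B)).obj N)) (Y := B ⊗[A] N)
          (BC.bridge (B := B) N).toLinearMap =
      ModuleCat.ofHom (X := ((ModuleCat.extendScalars (algebraMap A B)).obj M)) (Y := B ⊗[A] M)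
          (BC.bridge (B := B) M).toLinearMap ≫
        ModuleCat.ofHom (d.hom.baseChange B) := by
  apply ModuleCat.ExtendScalars.hom_ext
  intro m
  rfl

theorem bridge_natural {M N : ModuleCat.{u} A} (d : M ⟶ N)
    (t : (ModuleCat.extendScalars (algebraMap A B)).obj M) :
    BC.bridge (B := B) N (((ModuleCat.extendScalars (algebraMap A B)).map d).hom t) =
      (d.hom.baseChange B) (BC.bridge (B := B) M t) :=
  congrArg (fun f => f.hom t) (bridge_natural_hom B d)

theorem map_bridge_range {M N : ModuleCat.{u} A} (d : M ⟶ N) :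
    Submodule.map (BC.bridge (B := B) N).toLinearMap
      (LinearMap.range ((ModuleCat.extendScalars (algebraMap A B)).map d).hom) =
      LinearMap.range (d.hom.baseChange B) := by
  ext y
  constructor
  · rintro ⟨_, ⟨t, rfl⟩, rfl⟩
    exact ⟨BC.bridge (B := B) M t, (bridge_natural B d t).symm⟩
  · rintro ⟨s, rfl⟩
    refine ⟨_, ⟨(BC.bridge (B := B) M).symm s, rfl⟩, ?_⟩
    show BC.bridge (B := B) N _ = _
    rw [bridge_natural, LinearEquiv.apply_symm_apply]

/-- cokernel of a base-changed map is the base change of the cokernel. -/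
noncomputable def quotRangeBaseChangeEquiv {M N : Type u} [AddCommGroup M] [Module A M]
    [AddCommGroup N] [Module A N] (d : M →ₗ[A] N) :
    ((B ⊗[A] N) ⧸ LinearMap.range (d.baseChange B)) ≃ₗ[B] B ⊗[A] (N ⧸ LinearMap.range d) := by
  set π := (LinearMap.range d).mkQ with hπ
  have hex := lTensor_exact B (LinearMap.exact_map_mkQ_range d) (Submodule.mkQ_surjective _)
  have hsurj : Function.Surjective (π.baseChange B) :=
    LinearMap.lTensor_surjective B (Submodule.mkQ_surjective _)
  have hker : LinearMap.ker (π.baseChange B) = LinearMap.range (d.baseChange B) := by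
    ext y
    rw [LinearMap.mem_ker, LinearMap.mem_range]
    exact hex y
  exact (Submodule.quotEquivOfEq _ _ hker.symm).trans
    ((π.baseChange B).quotKerEquivOfSurjective hsurj)

/-- `coker (E d) ≃ B ⊗ coker d`. -/
noncomputable def cokerExtendEquiv {M N : ModuleCat.{u} A} (d : M ⟶ N) :
    (((ModuleCat.extendScalars (algebraMap A B)).obj N) ⧸
        LinearMap.range ((ModuleCat.extendScalars (algebraMap A B)).map d).hom) ≃ₗ[B]
      B ⊗[A] (N ⧸ LinearMap.range d.hom) :=
  (Submodule.Quotient.equiv _ _ (BC.bridge (B := B) N) (map_bridge_range B d)).trans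
    (quotRangeBaseChangeEquiv B d.hom)

end Groth.Agent.H12.BW

namespace Groth.Agent.H12.BW

open TCx

variable {A : Type u} [CommRing A] (B : Type u) [CommRing B] [Algebra A B]
  {ι : Type} {c : ComplexShape ι} (P : HomologicalComplex (ModuleCat.{u} A) c) (p : ι)

/-- `W` of the base-changed complex. -/
noncomputable def WbcEquiv : TCx.W (bcCx (algebraMap A B) P) p ≃ₗ[B] B ⊗[A] (TCx.W P p) :=
  cokerExtendEquiv B (P.d (c.prev p) p)

theorem flat_bcCx_X (hP : ∀ i, Module.Flat A (P.X i)) (i : ι) :
    Module.Flat B ((bcCx (algebraMap A B) P).X i) := by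
  have := hP i
  exact Module.Flat.of_linearEquiv (BC.bridge (B := B) (P.X i))

theorem finite_bcCx_X (hP : ∀ i, Module.Finite A (P.X i)) (i : ι) :
    Module.Finite B ((bcCx (algebraMap A B) P).X i) := by
  have := hP i
  exact Module.Finite.equiv (BC.bridge (B := B) (P.X i)).symm

theorem preservesMono_bcCx_iff (hP : ∀ i, Module.Flat A (P.X i)) :
    (TFun (bcCx (algebraMap A B) P) p).PreservesMonomorphisms ↔
      Module.Flat B (B ⊗[A] (TCx.W P p)) := by
  rw [preservesMono_iff_flat_W _ p (flat_bcCx_X B P hP _)]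
  exact Module.Flat.equiv_iff (WbcEquiv B P p)

theorem preservesEpi_bcCx_iff (hP : ∀ i, Module.Flat A (P.X i)) (hrel : c.Rel p (c.next p)) :
    (TFun (bcCx (algebraMap A B) P) p).PreservesEpimorphisms ↔
      Module.Flat B (B ⊗[A] (TCx.W P (c.next p))) := by
  rw [preservesEpi_iff_flat_W_next _ p (flat_bcCx_X B P hP) hrel]
  exact Module.Flat.equiv_iff (WbcEquiv B P (c.next p))

end Groth.Agent.H12.BW
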