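import Mathlib

/-!
helper12: two lemmas on localized modules.
-/

set_option autoImplicit false

namespace Groth.Agent.H12.LocFG

variable {R : Type*} [CommRing R] (f : R)

/-- if `N_f` is a finite `R_f`-module, there is a finite subset `T` of `N` with
`f^k n ∈ span T` for all `n`. -/
theorem exists_finset_pow_smul_mem_span {R' : Type*} [CommRing R'] [Algebra R R']
    [IsLocalization.Away f R'] {N N' : Type*} [AddCommGroup N] [Module R N] [AddCommGroup N']
    [Module R N'] [Module R' N'] [IsScalarTower R R' N'] (ℓ : N →ₗ[R] N')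
    [IsLocalizedModule (Submonoid.powers f) ℓ] [Module.Finite R' N'] :
    ∃ T : Finset N, ∀ n : N, ∃ k : ℕ, f ^ k • n ∈ Submodule.span R (T : Set N) := by
  classical
  obtain ⟨Y, hY⟩ := (Module.Finite.fg_top : (⊤ : Submodule R' N').FG)
  have hsurj : ∀ y : N', ∃ (n : N) (a : ℕ), f ^ a • y = ℓ n := by
    intro y
    obtain ⟨⟨n, ⟨_, a, rfl⟩⟩, h⟩ := IsLocalizedModule.surj (Submonoid.powers f) ℓ y
    exact ⟨n, a, h⟩
  choose nn aa hna using hsurj
  refine ⟨Y.image nn, ?_⟩
  set P := Submodule.span R ((Y.image nn : Finset N) : Set N) with hP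
  have key : ∀ z ∈ Submodule.span R' (Y : Set N'), ∃ (k : ℕ) (p : N), p ∈ P ∧ f ^ k • z = ℓ p := by
    intro z hz
    induction hz using Submodule.span_induction with
    | mem y hy =>
      refine ⟨aa y, nn y, Submodule.subset_span ?_, hna y⟩
      exact Finset.mem_coe.mpr (Finset.mem_image_of_mem nn hy)
    | zero => exact ⟨0, 0, P.zero_mem, by simp⟩
    | add z1 z2 _ _ h1 h2 =>
      obtain ⟨k1, p1, hp1, e1⟩ := h1
      obtain ⟨k2, p2, hp2, e2⟩ := h2
      refine ⟨k1 + k2, f ^ k2 • p1 + f ^ k1 • p2,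
        P.add_mem (P.smul_mem _ hp1) (P.smul_mem _ hp2), ?_⟩
      rw [smul_add, map_add, map_smul, map_smul, ← e1, ← e2, smul_smul, smul_smul, ← pow_add,
        ← pow_add, add_comm k2 k1]
    | smul c z _ h =>
      obtain ⟨k, p, hp, e⟩ := h
      obtain ⟨⟨r, ⟨_, b, rfl⟩⟩, hc⟩ := IsLocalization.surj (Submonoid.powers f) c
      refine ⟨b + k, r • p, P.smul_mem _ hp, ?_⟩
      have h1 : ∀ w : N', f ^ b • (c • w) = r • w := by
        intro w
        rw [← algebraMap_smul R' (f ^ b) (c • w), smul_smul, mul_comm]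
        simp only at hc
        rw [hc, algebraMap_smul]
      rw [pow_add, mul_smul, smul_comm (f ^ k) c z, h1, map_smul, ← e]
  intro n
  have hn : ℓ n ∈ Submodule.span R' (Y : Set N') := by rw [hY]; trivial
  obtain ⟨k, p, hp, e⟩ := key (ℓ n) hn
  have h0 : ℓ (f ^ k • n - p) = 0 := by rw [map_sub, map_smul, e, sub_self]
  obtain ⟨⟨_, j, rfl⟩, hj⟩ :=
    (IsLocalizedModule.eq_zero_iff (Submonoid.powers f) ℓ).mp h0
  refine ⟨j + k, ?_⟩
  have h2 : f ^ j • (f ^ k • n - p) = 0 := hj
  rw [smul_sub, sub_eq_zero] at h2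
  rw [pow_add, mul_smul, h2]
  exact P.smul_mem _ hp

/-- a map between localizations induced by an injective map which is "surjective up to powers
of `f`" is bijective. -/
theorem bijective_of_localized {M N M' N' : Type*} [AddCommGroup M] [Module R M]
    [AddCommGroup N] [Module R N] [AddCommGroup M'] [Module R M'] [AddCommGroup N'] [Module R N']
    (ℓM : M →ₗ[R] M') (ℓN : N →ₗ[R] N') [IsLocalizedModule (Submonoid.powers f) ℓM]
    [IsLocalizedModule (Submonoid.powers f) ℓN] (g : M →ₗ[R] N) (ψ : M' →+ N')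
    (hψ : ∀ (r : R) (x : M'), ψ (r • x) = r • ψ x)
    (hcomm : ∀ m, ψ (ℓM m) = ℓN (g m)) (hinj : Function.Injective g)
    (hsurj : ∀ n : N, ∃ k : ℕ, ∃ m : M, g m = f ^ k • n) : Function.Bijective ψ := by
  have hregM : ∀ (k : ℕ) (x y : M'), f ^ k • x = f ^ k • y → x = y := by
    intro k x y h
    have hu := IsLocalizedModule.map_units ℓM (⟨f ^ k, k, rfl⟩ : Submonoid.powers f)
    rw [Module.End.isUnit_iff] at hu
    exact hu.injective h
  have hregN : ∀ (k : ℕ) (x y : N'), f ^ k • x = f ^ k • y → x = y := by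
    intro k x y h
    have hu := IsLocalizedModule.map_units ℓN (⟨f ^ k, k, rfl⟩ : Submonoid.powers f)
    rw [Module.End.isUnit_iff] at hu
    exact hu.injective h
  have hdivM : ∀ (k : ℕ) (x : M'), ∃ y : M', f ^ k • y = x := by
    intro k x
    have hu := IsLocalizedModule.map_units ℓM (⟨f ^ k, k, rfl⟩ : Submonoid.powers f)
    rw [Module.End.isUnit_iff] at hu
    exact hu.surjective x
  constructor
  · rw [injective_iff_map_eq_zero]
    intro x hx
    obtain ⟨⟨m, ⟨_, a, rfl⟩⟩, h⟩ := IsLocalizedModule.surj (Submonoid.powers f) ℓM x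
    have h' : f ^ a • x = ℓM m := h
    have h1 : ℓN (g m) = 0 := by
      rw [← hcomm, ← h', hψ, hx, smul_zero]
    obtain ⟨⟨_, b, rfl⟩, hb⟩ := (IsLocalizedModule.eq_zero_iff (Submonoid.powers f) ℓN).mp h1
    have hb' : f ^ b • g m = 0 := hb
    have h2 : f ^ b • m = 0 := by
      apply hinj
      rw [map_smul, hb', map_zero]
    have h3 : f ^ (b + a) • x = f ^ (b + a) • (0 : M') := by
      rw [pow_add, mul_smul, h', ← map_smul, h2, map_zero, smul_zero]
    exact hregM _ _ _ h3
  · intro y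
    obtain ⟨⟨n, ⟨_, a, rfl⟩⟩, h⟩ := IsLocalizedModule.surj (Submonoid.powers f) ℓN y
    have h' : f ^ a • y = ℓN n := h
    obtain ⟨k, m, hm⟩ := hsurj n
    obtain ⟨x, hx⟩ := hdivM (k + a) (ℓM m)
    refine ⟨x, ?_⟩
    apply hregN (k + a)
    rw [← hψ, hx, hcomm, hm, map_smul, ← h', smul_smul, ← pow_add]

end Groth.Agent.H12.LocFG
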