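import Mathlib
import Groth.Prelude.Def_Coh
import Groth.Agent.H8.QcqsPush

/-!
helper12: quasi-coherent modules on quasi-compact opens of affine schemes are restrictions of
`M~`.
-/

set_option autoImplicit false
universe u

noncomputable section

namespace Groth.Agent.H12.QCohOpen

open CategoryTheory CategoryTheory.Limits Opposite TopologicalSpace AlgebraicGeometry

theorem quasiCompact_ι_of_isCompact {X : Scheme.{u}} [QuasiSeparatedSpace X] (V : X.Opens)
    (hV : IsCompact (V : Set X)) : QuasiCompact V.ι := by
  constructor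
  intro U hU hUc
  have h1 : IsCompact ((V : Set X) ∩ U) :=
    QuasiSeparatedSpace.inter_isCompact _ _ V.isOpen hV hU hUc
  have h2 : V.ι ⁻¹' U = V.ι ⁻¹' ((V : Set X) ∩ U) := by
    ext x
    simp only [Set.mem_preimage, Set.mem_inter_iff]
    constructor
    · intro hx
      exact ⟨x.2, hx⟩
    · intro hx
      exact hx.2
  rw [h2]
  refine V.ι.isOpenEmbedding.isInducing.isCompact_preimage' h1 ?_
  rw [Scheme.Opens.range_ι]
  exact Set.inter_subset_left

/-- a quasi-coherent module on a quasi-compact open `V` of `Spec R` is the restriction of the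
sheaf associated to an `R`-module. -/
theorem exists_iso_restrict_tilde (R : CommRingCat.{u}) (V : (Spec R).Opens)
    (hV : IsCompact (V : Set (Spec R))) (F : (V : Scheme.{u}).Modules) [F.IsQuasicoherent] :
    ∃ N : ModuleCat.{u} R, Nonempty (F ≅ (tilde N).restrict V.ι) := by
  have hqc : QuasiCompact V.ι := quasiCompact_ι_of_isCompact V hV
  let G : (Spec R).Modules := (Scheme.Modules.pushforward V.ι).obj F
  have hG : G.IsQuasicoherent := Groth.Agent.H8.isQuasicoherent_pushforward_of_qcqs V.ι F
  have hiso : IsIso G.fromTildeΓ := inferInstance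
  refine ⟨(modulesSpecToSheaf.obj G).presheaf.obj (op ⊤), ⟨?_⟩⟩
  exact ((Scheme.Modules.restrictFunctorAdjCounitIso V.ι).app F).symm ≪≫
    (Scheme.Modules.restrictFunctor V.ι).mapIso (asIso G.fromTildeΓ).symm

end Groth.Agent.H12.QCohOpen
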