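import Groth.Agent.H12.QCohIso
import Groth.Agent.H12.LocFG
import Groth.Agent.H12.QCohOpen
import Groth.Agent.H8.QcqsPush
import Groth.Agent.H8.QCohStalk
import Groth.Agent.H44.AffineModules
import Groth.Agent.H44.FiniteSections
import Groth.Agent.H71.QCoh.PushFT
import Groth.Agent.S9826

/-!
helper12: coherent modules on an open subscheme of a Noetherian affine scheme are restrictions
of sheaves associated to finite modules.
-/

set_option autoImplicit false
universe u

noncomputable section

namespace Groth.Agent.H12.CohOpen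

open CategoryTheory CategoryTheory.Limits Opposite TopologicalSpace AlgebraicGeometry

/-- finiteness of sections transports along isomorphisms. -/
theorem finite_sections_of_iso {X : Scheme.{u}} {F G : X.Modules} (e : F ≅ G) (W : X.Opens)
    (h : Module.Finite Γ(X, W) Γ(G, W)) : Module.Finite Γ(X, W) Γ(F, W) := by
  let φ : Γ(G, W) →ₗ[Γ(X, W)] Γ(F, W) :=
    { toFun := fun x => (e.inv.app W).hom x
      map_add' := fun x y => map_add _ x y
      map_smul' := fun r x => Scheme.Modules.Hom.app_smul e.inv r x }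
  refine Module.Finite.of_surjective φ ?_
  intro y
  refine ⟨(e.hom.app W).hom y, ?_⟩
  change (e.inv.app W).hom ((e.hom.app W).hom y) = y
  rw [← ConcreteCategory.comp_apply, ← Scheme.Modules.Hom.comp_app, e.hom_inv_id]
  rfl

/-- finiteness of sections of a restriction along an open immersion. -/
theorem finite_sections_restrict {X Y : Scheme.{u}} (f : X ⟶ Y) [IsOpenImmersion f]
    (M : Y.Modules) (W : X.Opens) (h : Module.Finite Γ(Y, f ''ᵁ W) Γ(M, f ''ᵁ W)) :
    Module.Finite Γ(X, W) Γ(M.restrict f, W) := by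
  let σ : Γ(Y, f ''ᵁ W) →+* Γ(X, W) := (f.appIso W).hom.hom
  let φ : Γ(M, f ''ᵁ W) →ₛₗ[σ] Γ(M.restrict f, W) :=
    { toFun := fun x => x
      map_add' := fun x y => rfl
      map_smul' := fun r x => by
        change r • x = ((f.appIso W).inv ((f.appIso W).hom r)) • x
        congr 1
        exact (congrArg (fun φ => φ.hom r) (f.appIso W).hom_inv_id).symm }
  exact Module.Finite.of_surjective φ (fun y => ⟨y, rfl⟩)

theorem isFiniteType_restrict {X Y : Scheme.{u}} (f : X ⟶ Y) [IsOpenImmersion f]
    (M : Y.Modules) [M.IsQuasicoherent]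
    (hM : SheafOfModules.IsFiniteType (R := Y.ringCatSheaf) M) :
    SheafOfModules.IsFiniteType (R := X.ringCatSheaf) (M.restrict f) := by
  have := hM
  refine Groth.Agent.H71.QCoh.isFiniteType_of_finite_sections_cover (M.restrict f)
    (fun W : X.affineOpens => W.1) (iSup_affineOpens_eq_top X) (fun W => W.2) ?_
  intro W
  exact finite_sections_restrict f M W.1
    (Groth.Agent.H44.finite_sections_of_isFiniteType M (W.2.image_of_isOpenImmersion f))

theorem isFiniteType_of_iso {X : Scheme.{u}} {F G : X.Modules} (e : F ≅ G) [G.IsQuasicoherent]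
    (hG : SheafOfModules.IsFiniteType (R := X.ringCatSheaf) G) :
    SheafOfModules.IsFiniteType (R := X.ringCatSheaf) F := by
  have := hG
  have : F.IsQuasicoherent := Groth.Agent.H12.QCohAbelian.isQuasicoherent_of_iso e.symm
  refine Groth.Agent.H71.QCoh.isFiniteType_of_finite_sections_cover F
    (fun W : X.affineOpens => W.1) (iSup_affineOpens_eq_top X) (fun W => W.2) ?_
  intro W
  exact finite_sections_of_iso e W.1 (Groth.Agent.H44.finite_sections_of_isFiniteType G W.2)

open Groth.Agent.H44

variable {R : CommRingCat.{u}}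

/-- the comparison map from the sheaf associated to a module mapping to the global sections. -/
def subTildeHom (P : (Spec R).Modules) {M : ModuleCat.{u} R} (i : M ⟶ gammaSpec P) :
    tilde M ⟶ P :=
  tilde.map i ≫ P.fromTildeΓ

set_option backward.isDefEq.respectTransparency false in
theorem toOpen_subTildeHom (P : (Spec R).Modules) {M : ModuleCat.{u} R} (i : M ⟶ gammaSpec P)
    (U : (Spec R).Opens) :
    tilde.toOpen M U ≫ (modulesSpecToSheaf.map (subTildeHom P i)).1.app (op U) =
      i ≫ (modulesSpecToSheaf.obj P).1.map (homOfLE le_top).op := by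
  have h1 := tilde.toOpen_map_app i U
  have h2 := Scheme.Modules.toOpen_fromTildeΓ_app P U
  have h3 : (modulesSpecToSheaf.map (subTildeHom P i)).1.app (op U) =
      (modulesSpecToSheaf.map (tilde.map i)).1.app (op U) ≫
        (modulesSpecToSheaf.map P.fromTildeΓ).1.app (op U) := by
    rw [subTildeHom, Functor.map_comp]
    rfl
  rw [h3, ← Category.assoc, h1, Category.assoc, h2]

set_option backward.isDefEq.respectTransparency false in
theorem subTildeHom_app_bijective (P : (Spec R).Modules) [P.IsQuasicoherent]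
    {M : ModuleCat.{u} R} (i : M ⟶ gammaSpec P) (hi : Function.Injective i) (f : R)
    (hM : ∀ n : gammaSpec P, ∃ k : ℕ, ∃ m : M, i m = f ^ k • n) :
    Function.Bijective ((subTildeHom P i).app (PrimeSpectrum.basicOpen f)) := by
  let U : (Spec R).Opens := PrimeSpectrum.basicOpen f
  have hloc := Groth.Agent.H8.isLocalizedModule_of_isQuasicoherent_Spec P f
  have hlocM : IsLocalizedModule (Submonoid.powers f)
      (tilde.toOpen M (PrimeSpectrum.basicOpen f)).hom := inferInstance
  let Ψ := ((modulesSpecToSheaf.map (subTildeHom P i)).1.app (op U)).hom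
  have key : Function.Bijective Ψ.toAddMonoidHom := by
    refine Groth.Agent.H12.LocFG.bijective_of_localized f
      (tilde.toOpen M (PrimeSpectrum.basicOpen f)).hom
      ((modulesSpecToSheaf.obj P).obj.map (Opens.leTop U).op).hom i.hom Ψ.toAddMonoidHom
      (fun r x => Ψ.map_smul r x) ?_ hi hM
    · intro m
      exact congrArg (fun φ => φ.hom m) (toOpen_subTildeHom P i U)
  exact key

set_option backward.isDefEq.respectTransparency false in
theorem exists_finset (P : (Spec R).Modules) [P.IsQuasicoherent] (f : R)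
    (hfin : Module.Finite Γ(Spec R, PrimeSpectrum.basicOpen f) Γ(P, PrimeSpectrum.basicOpen f)) :
    ∃ T : Finset (gammaSpec P), ∀ n : gammaSpec P, ∃ k : ℕ,
      f ^ k • n ∈ Submodule.span R (T : Set (gammaSpec P)) := by
  have hloc := Groth.Agent.H8.isLocalizedModule_of_isQuasicoherent_Spec P f
  let U : (Spec R).Opens := PrimeSpectrum.basicOpen f
  let N' := ((modulesSpecToSheaf.obj P).obj.obj (op U))
  let i1 : Module Γ(Spec R, U) N' := (inferInstance : Module Γ(Spec R, U) Γ(P, U))
  have i2 : IsScalarTower R Γ(Spec R, U) N' :=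
    (inferInstance : IsScalarTower R Γ(Spec R, U) Γ(P, U))
  have i3 : Module.Finite Γ(Spec R, U) N' := hfin
  exact Groth.Agent.H12.LocFG.exists_finset_pow_smul_mem_span f
    (R' := Γ(Spec R, U)) (N' := N')
    ((modulesSpecToSheaf.obj P).obj.map (Opens.leTop U).op).hom

theorem finite_sections_push (V : (Spec R).Opens) (F : (V : Scheme.{u}).Modules)
    [F.IsQuasicoherent] [SheafOfModules.IsFiniteType (R := (V : Scheme.{u}).ringCatSheaf) F]
    (U : (Spec R).Opens) (hU : IsAffineOpen U) (hUV : U ≤ V) :
    Module.Finite Γ(Spec R, U) Γ((Scheme.Modules.pushforward V.ι).obj F, U) := by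
  have hle : U ≤ V.ι.opensRange := by rw [Scheme.Opens.opensRange_ι]; exact hUV
  have hiso : IsIso (V.ι.app U) := Scheme.Hom.isIso_app V.ι U hle
  have hfin : (V.ι.app U).hom.Finite :=
    RingHom.Finite.of_surjective _ (ConcreteCategory.bijective_of_isIso (V.ι.app U)).2
  exact (Groth.Agent.H71.QCoh.finite_sections_pushforward_iff V.ι F U hfin).mpr
    (Groth.Agent.H44.finite_sections_of_isFiniteType F (hU.preimage_of_isOpenImmersion V.ι hle))

theorem exists_finite_tilde_restrict [IsNoetherianRing R] (V : (Spec R).Opens)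
    (F : (V : Scheme.{u}).Modules) [F.IsQuasicoherent]
    [SheafOfModules.IsFiniteType (R := (V : Scheme.{u}).ringCatSheaf) F] :
    ∃ M : ModuleCat.{u} R, Module.Finite R M ∧ Nonempty (F ≅ (tilde M).restrict V.ι) := by
  classical
  have hNoeth : NoetherianSpace (Spec R) := inferInstance
  have hVc : IsCompact (V : Set (Spec R)) := NoetherianSpace.isCompact _
  obtain ⟨t, ht⟩ := PrimeSpectrum.isCompact_isOpen_iff.mp ⟨hVc, V.isOpen⟩
  have hqc : QuasiCompact V.ι := Groth.Agent.H12.QCohOpen.quasiCompact_ι_of_isCompact V hVc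
  let P : (Spec R).Modules := (Scheme.Modules.pushforward V.ι).obj F
  have hP : P.IsQuasicoherent := Groth.Agent.H8.isQuasicoherent_pushforward_of_qcqs V.ι F
  have hle : ∀ f ∈ t, (PrimeSpectrum.basicOpen f : (Spec R).Opens) ≤ V := by
    intro f hf x hx
    have : x ∈ (PrimeSpectrum.zeroLocus (t : Set R))ᶜ := by
      intro hx'
      exact hx (hx' hf)
    rw [ht] at this
    exact this
  have hcov : ∀ x : Spec R, x ∈ V → ∃ f ∈ t, x ∈ (PrimeSpectrum.basicOpen f : (Spec R).Opens) := by
    intro x hx
    have hx' : x ∈ (PrimeSpectrum.zeroLocus (t : Set R))ᶜ := by rw [ht]; exact hx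
    have hx'' : ¬ ((t : Set R) ⊆ x.asIdeal) := fun h => hx' ((PrimeSpectrum.mem_zeroLocus x _).mpr h)
    rw [Set.not_subset] at hx''
    obtain ⟨f, hft, hfx⟩ := hx''
    exact ⟨f, hft, hfx⟩
  have hT : ∀ f : t, ∃ T : Finset (gammaSpec P), ∀ n : gammaSpec P, ∃ k : ℕ,
      f.1 ^ k • n ∈ Submodule.span R (T : Set (gammaSpec P)) := by
    intro f
    exact exists_finset P f.1 (finite_sections_push V F _
      (IsAffineOpen.Spec_basicOpen f.1) (hle f.1 f.2))
  choose T hTk using hT
  let S : Finset (gammaSpec P) := (Finset.univ : Finset t).biUnion T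
  let M₀ : Submodule R (gammaSpec P) := Submodule.span R (S : Set (gammaSpec P))
  let M : ModuleCat.{u} R := ModuleCat.of R M₀
  let i : M ⟶ gammaSpec P :=
    ModuleCat.ofHom (X := ↥M₀) (Y := (gammaSpec P : Type u)) M₀.subtype
  have hMfin0 : Module.Finite R ↥M₀ := (Module.Finite.iff_fg (N := M₀)).mpr ⟨S, rfl⟩
  have hMfin : Module.Finite R M := hMfin0
  have hi : Function.Injective i := fun a b h => Subtype.ext h
  have hMf : ∀ f : t, ∀ n : gammaSpec P, ∃ k : ℕ, ∃ m : M, i m = f.1 ^ k • n := by
    intro f n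
    obtain ⟨k, hk⟩ := hTk f n
    have hk' : f.1 ^ k • n ∈ M₀ :=
      Submodule.span_mono (by
        intro y hy
        exact Finset.mem_coe.mpr (Finset.mem_biUnion.mpr ⟨f, Finset.mem_univ _, hy⟩)) hk
    exact ⟨k, ⟨_, hk'⟩, rfl⟩
  let ψ := subTildeHom P i
  let φ := (Scheme.Modules.restrictFunctor V.ι).map ψ
  have hiso : IsIso φ := by
    have h1 : ((Scheme.Modules.restrictFunctor V.ι).obj (tilde M)).IsQuasicoherent := inferInstance
    have h2 : ((Scheme.Modules.restrictFunctor V.ι).obj P).IsQuasicoherent := inferInstance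
    refine Groth.Agent.H12.QCohIso.isIso_of_bijective_on_cover φ
      (fun f : t => V.ι ⁻¹ᵁ (PrimeSpectrum.basicOpen f.1)) ?_ ?_ ?_
    · intro x
      obtain ⟨f, hf, hx⟩ := hcov x.1 x.2
      exact ⟨⟨f, hf⟩, hx⟩
    · intro f
      exact (IsAffineOpen.Spec_basicOpen f.1).preimage_of_isOpenImmersion V.ι
        (by rw [Scheme.Opens.opensRange_ι]; exact hle f.1 f.2)
    · intro f
      have himg : V.ι ''ᵁ (V.ι ⁻¹ᵁ (PrimeSpectrum.basicOpen f.1)) = PrimeSpectrum.basicOpen f.1 := by
        rw [Scheme.Hom.image_preimage_eq_opensRange_inf, Scheme.Opens.opensRange_ι]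
        exact inf_eq_right.mpr (hle f.1 f.2)
      have aux : ∀ U' : (Spec R).Opens, U' = PrimeSpectrum.basicOpen f.1 →
          Function.Bijective (ψ.app U') := by
        intro U' h
        subst h
        exact subTildeHom_app_bijective P i hi f.1 (hMf f)
      exact aux _ himg
  exact ⟨M, hMfin, ⟨((Scheme.Modules.restrictFunctorAdjCounitIso V.ι).app F).symm ≪≫
    (asIso φ).symm⟩⟩

end Groth.Agent.H12.CohOpen
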