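import Mathlib.RingTheory.Length
import Mathlib.Algebra.Homology.ShortComplex.ModuleCat
import Mathlib.Algebra.Homology.ShortComplex.HomologicalComplex

set_option autoImplicit false
universe u v

namespace Groth.Agent.H12

open CategoryTheory

variable {R : Type u} [Ring R]

/-- length of the middle term of a short complex of modules. -/
theorem length_X₂ (S : ShortComplex (ModuleCat.{v} R)) :
    Module.length R S.X₂ = Module.length R S.homology +
      Module.length R (LinearMap.range S.f.hom) + Module.length R (LinearMap.range S.g.hom) := by
  have h1 : Module.length R S.X₂ = Module.length R (LinearMap.ker S.g.hom) +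
      Module.length R (LinearMap.range S.g.hom) :=
    Module.length_eq_add_of_exact (LinearMap.ker S.g.hom).subtype S.g.hom.rangeRestrict
      (Submodule.subtype_injective _) (LinearMap.surjective_rangeRestrict _) (by
        intro x
        constructor
        · intro hx
          refine ⟨⟨x, ?_⟩, rfl⟩
          have := congrArg Subtype.val hx
          simpa using this
        · rintro ⟨y, rfl⟩
          apply Subtype.ext
          simp)
  have h2 : Module.length R (LinearMap.ker S.g.hom) =
      Module.length R (LinearMap.range S.moduleCatToCycles) +
      Module.length R (LinearMap.ker S.g.hom ⧸ LinearMap.range S.moduleCatToCycles) :=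
    Module.length_eq_add_of_exact (LinearMap.range S.moduleCatToCycles).subtype
      (LinearMap.range S.moduleCatToCycles).mkQ (Submodule.subtype_injective _)
      (Submodule.mkQ_surjective _) (LinearMap.exact_subtype_mkQ _)
  have h3 : Module.length R (LinearMap.range S.moduleCatToCycles) =
      Module.length R (LinearMap.range S.f.hom) := by
    have e1 := Submodule.equivMapOfInjective (LinearMap.ker S.g.hom).subtype
      (Submodule.subtype_injective _) (LinearMap.range S.moduleCatToCycles)
    have e2 : Submodule.map (LinearMap.ker S.g.hom).subtype (LinearMap.range S.moduleCatToCycles) =
        LinearMap.range S.f.hom := by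
      rw [← LinearMap.range_comp]
      congr 1
    rw [e1.length_eq, e2]
  have h4 : Module.length R S.homology =
      Module.length R (LinearMap.ker S.g.hom ⧸ LinearMap.range S.moduleCatToCycles) :=
    S.moduleCatHomologyIso.toLinearEquiv.length_eq
  rw [h1, h2, h3, h4]
  ac_rfl

end Groth.Agent.H12
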