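import Mathlib

set_option autoImplicit false
universe u

open TensorProduct Topology

namespace Groth.Agent.H12

variable {A : Type u} [CommRing A]

/-- the fibre dimension of a module at a point of the spectrum. -/
noncomputable def fibDim (N : Type u) [AddCommGroup N] [Module A N] (x : PrimeSpectrum A) : ℕ :=
  Module.finrank x.asIdeal.ResidueField (x.asIdeal.ResidueField ⊗[A] N)

/-- the images `1 ⊗ n` span `K ⊗ N` over `K`. -/
theorem span_one_tmul_eq_top (K : Type u) [Field K] [Algebra A K] (N : Type u) [AddCommGroup N]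
    [Module A N] :
    Submodule.span K (Set.range fun n : N => (1 : K) ⊗ₜ[A] n) = ⊤ := by
  rw [eq_top_iff]
  have key : ∀ t : K ⊗[A] N, t ∈ Submodule.span K (Set.range fun n : N => (1 : K) ⊗ₜ[A] n) := by
    intro t
    induction t using TensorProduct.induction_on with
    | zero => exact Submodule.zero_mem _
    | tmul s n =>
      have : s ⊗ₜ[A] n = s • ((1 : K) ⊗ₜ[A] n) := by
        rw [TensorProduct.smul_tmul', smul_eq_mul, mul_one]
      rw [this]
      exact Submodule.smul_mem _ _ (Submodule.subset_span ⟨n, rfl⟩)
    | add x y hx hy => exact Submodule.add_mem _ hx hy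
  exact fun t _ => key t

/-- if `K ⊗ (N / N')` vanishes, then `K ⊗ N` is spanned by the images of generators of `N'`. -/
theorem span_one_tmul_eq_top_of_subsingleton (K : Type u) [Field K] [Algebra A K] (N : Type u)
    [AddCommGroup N] [Module A N] {ι : Type*} (v : ι → N)
    (h : Subsingleton (K ⊗[A] (N ⧸ Submodule.span A (Set.range v)))) :
    Submodule.span K (Set.range fun i : ι => (1 : K) ⊗ₜ[A] v i) = ⊤ := by
  set N' := Submodule.span A (Set.range v) with hN'
  rw [eq_top_iff, ← span_one_tmul_eq_top (A := A) K N, Submodule.span_le]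
  rintro _ ⟨n, rfl⟩
  -- 1 ⊗ n lies in the image of K ⊗ N'
  have hex := lTensor_exact K (LinearMap.exact_subtype_mkQ N') (Submodule.mkQ_surjective N')
  have h0 : (N'.mkQ).lTensor K ((1 : K) ⊗ₜ[A] n) = 0 := Subsingleton.elim _ _
  obtain ⟨y, hy⟩ := (hex _).mp h0
  show (1 : K) ⊗ₜ[A] n ∈ Submodule.span K (Set.range fun i : ι => (1 : K) ⊗ₜ[A] v i)
  rw [← hy]
  -- the image of K ⊗ N' is in the span
  have key : ∀ y : K ⊗[A] N', (N'.subtype).lTensor K y ∈
      Submodule.span K (Set.range fun i : ι => (1 : K) ⊗ₜ[A] v i) := by
    intro y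
    induction y using TensorProduct.induction_on with
    | zero => rw [map_zero]; exact Submodule.zero_mem _
    | tmul s m =>
      rw [LinearMap.lTensor_tmul]
      obtain ⟨m, hm⟩ := m
      show s ⊗ₜ[A] m ∈ _
      induction hm using Submodule.span_induction with
      | mem x hx =>
        obtain ⟨i, rfl⟩ := hx
        have : s ⊗ₜ[A] v i = s • ((1 : K) ⊗ₜ[A] v i) := by
          rw [TensorProduct.smul_tmul', smul_eq_mul, mul_one]
        rw [this]
        exact Submodule.smul_mem _ _ (Submodule.subset_span ⟨i, rfl⟩)
      | zero => rw [TensorProduct.tmul_zero]; exact Submodule.zero_mem _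
      | add x y _ _ hx hy => rw [TensorProduct.tmul_add]; exact Submodule.add_mem _ hx hy
      | smul a x _ hx =>
        have : s ⊗ₜ[A] (a • x) = (algebraMap A K a) • (s ⊗ₜ[A] x) := by
          rw [TensorProduct.tmul_smul, algebraMap_smul]
        rw [this]
        exact Submodule.smul_mem _ _ hx
    | add x y hx hy => rw [map_add]; exact Submodule.add_mem _ hx hy
  exact key y

end Groth.Agent.H12

namespace Groth.Agent.H12

variable {A : Type u} [CommRing A]

/-- upper semicontinuity of the fibre dimension of a finite module, in "eventually ≤" form. -/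
theorem eventually_fibDim_le (N : Type u) [AddCommGroup N] [Module A N] [Module.Finite A N]
    (x₀ : PrimeSpectrum A) : ∀ᶠ x in 𝓝 x₀, fibDim N x ≤ fibDim N x₀ := by
  classical
  set K₀ := x₀.asIdeal.ResidueField with hK₀
  -- choose a basis of the fibre among the images of elements of `N`
  obtain ⟨b, hbS, hbspan, hbli⟩ := exists_linearIndependent K₀
    (Set.range fun n : N => (1 : K₀) ⊗ₜ[A] n)
  rw [span_one_tmul_eq_top] at hbspan
  let bas : Module.Basis b K₀ (K₀ ⊗[A] N) := Module.Basis.mk hbli (by
    rw [Subtype.range_coe]; exact hbspan.ge)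
  haveI : Finite b := Module.Finite.finite_basis bas
  haveI : Fintype b := Fintype.ofFinite b
  have hcard : Module.finrank K₀ (K₀ ⊗[A] N) = Fintype.card b :=
    Module.finrank_eq_card_basis bas
  choose v hv using fun i : b => hbS i.2
  set N' := Submodule.span A (Set.range v) with hN'
  -- the quotient vanishes in the fibre at x₀
  have hsub : Subsingleton (K₀ ⊗[A] (N ⧸ N')) := by
    refine ⟨fun s t => ?_⟩
    have hz : ∀ s : K₀ ⊗[A] (N ⧸ N'), s = 0 := by
      intro s
      obtain ⟨w, rfl⟩ := LinearMap.lTensor_surjective K₀ (Submodule.mkQ_surjective N') s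
      have hw : w ∈ Submodule.span K₀ (b : Set (K₀ ⊗[A] N)) := by rw [hbspan]; trivial
      have hlin : ∀ w ∈ Submodule.span K₀ (b : Set (K₀ ⊗[A] N)),
          (N'.mkQ).baseChange K₀ w = 0 := by
        intro w hw
        induction hw using Submodule.span_induction with
        | mem x hx =>
          have : x = (1 : K₀) ⊗ₜ[A] v ⟨x, hx⟩ := (hv ⟨x, hx⟩).symm
          rw [this, LinearMap.baseChange_tmul]
          have : N'.mkQ (v ⟨x, hx⟩) = 0 := by
            rw [Submodule.mkQ_apply, Submodule.Quotient.mk_eq_zero]
            exact Submodule.subset_span ⟨_, rfl⟩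
          rw [this, TensorProduct.tmul_zero]
        | zero => exact map_zero _
        | add x y _ _ hx hy => rw [map_add, hx, hy, add_zero]
        | smul a x _ hx => rw [map_smul, hx, smul_zero]
      exact hlin w hw
    rw [hz s, hz t]
  have hx₀ : x₀ ∉ Module.support A (N ⧸ N') := by
    rw [Module.mem_support_iff_nontrivial_residueField_tensorProduct, not_nontrivial_iff_subsingleton]
    exact hsub
  have hopen : IsOpen (Module.support A (N ⧸ N'))ᶜ := (Module.isClosed_support).isOpen_compl
  filter_upwards [hopen.mem_nhds hx₀] with x hx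
  have hsubx : Subsingleton (x.asIdeal.ResidueField ⊗[A] (N ⧸ N')) := by
    rw [← not_nontrivial_iff_subsingleton, ← Module.mem_support_iff_nontrivial_residueField_tensorProduct]
    exact hx
  have hspan := span_one_tmul_eq_top_of_subsingleton x.asIdeal.ResidueField N v hsubx
  show Module.finrank x.asIdeal.ResidueField (x.asIdeal.ResidueField ⊗[A] N) ≤
    Module.finrank K₀ (K₀ ⊗[A] N)
  rw [hcard]
  exact finrank_le_of_span_eq_top hspan

end Groth.Agent.H12

namespace Groth.Agent.H12

variable {A : Type u} [CommRing A]

/-- a uniform bound for the fibre dimension of a finite module. -/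
theorem exists_fibDim_le (N : Type u) [AddCommGroup N] [Module A N] [Module.Finite A N] :
    ∃ r : ℕ, ∀ x : PrimeSpectrum A, fibDim N x ≤ r := by
  obtain ⟨r, v, hv⟩ := Module.Finite.exists_fin (R := A) (M := N)
  refine ⟨r, fun x => ?_⟩
  have hsub : Subsingleton (x.asIdeal.ResidueField ⊗[A] (N ⧸ Submodule.span A (Set.range v))) := by
    rw [hv]
    infer_instance
  have hspan := span_one_tmul_eq_top_of_subsingleton x.asIdeal.ResidueField N v hsub
  have := finrank_le_of_span_eq_top hspan
  simpa [fibDim] using this

end Groth.Agent.H12
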