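import Groth.Prelude.Def_ega3
import Mathlib

set_option autoImplicit false
universe u v

open CategoryTheory CategoryTheory.Limits MonoidalCategory CohIII

namespace Groth.Agent.H12.TCx

section SC
variable {R : Type u} [Ring R] (S : ShortComplex (ModuleCat.{v} R))

/-- the class of a cycle in the homology of a short complex of modules. -/
noncomputable def toH : LinearMap.ker S.g.hom →ₗ[R] S.homology :=
  (S.moduleCatLeftHomologyData.π ≫ S.moduleCatHomologyIso.inv).hom

theorem toH_surjective : Function.Surjective (toH S) := by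
  have : Epi (S.moduleCatLeftHomologyData.π ≫ S.moduleCatHomologyIso.inv) := inferInstance
  exact (ModuleCat.epi_iff_surjective _).mp this

theorem toH_eq_zero_iff (z : LinearMap.ker S.g.hom) :
    toH S z = 0 ↔ z.1 ∈ LinearMap.range S.f.hom := by
  have hinj : Function.Injective S.moduleCatHomologyIso.inv.hom :=
    (ModuleCat.mono_iff_injective _).mp inferInstance
  have h1 : toH S z = S.moduleCatHomologyIso.inv.hom (S.moduleCatLeftHomologyData.π.hom z) := rfl
  rw [h1, ← map_zero S.moduleCatHomologyIso.inv.hom, hinj.eq_iff]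
  show (LinearMap.range S.moduleCatToCycles).mkQ z = 0 ↔ _
  rw [Submodule.mkQ_apply, Submodule.Quotient.mk_eq_zero]
  constructor
  · rintro ⟨x, rfl⟩
    exact ⟨x, rfl⟩
  · rintro ⟨x, hx⟩
    exact ⟨x, Subtype.ext hx⟩

end SC

end Groth.Agent.H12.TCx

namespace Groth.Agent.H12.TCx
section SC2
variable {R : Type u} [Ring R] {S₁ S₂ : ShortComplex (ModuleCat.{v} R)} (φ : S₁ ⟶ S₂)

theorem map_mem_ker (z : LinearMap.ker S₁.g.hom) : φ.τ₂.hom z.1 ∈ LinearMap.ker S₂.g.hom := by
  rw [LinearMap.mem_ker]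
  have h1 : S₂.g.hom (φ.τ₂.hom z.1) = (φ.τ₂ ≫ S₂.g).hom z.1 := rfl
  rw [h1, φ.comm₂₃]
  show φ.τ₃.hom (S₁.g.hom z.1) = 0
  rw [LinearMap.mem_ker.mp z.2, map_zero]

theorem homologyMap_toH (z : LinearMap.ker S₁.g.hom) :
    (ShortComplex.homologyMap φ).hom (toH S₁ z) = toH S₂ ⟨φ.τ₂.hom z.1, map_mem_ker φ z⟩ := by
  let γ := ShortComplex.leftHomologyMapData φ S₁.moduleCatLeftHomologyData
    S₂.moduleCatLeftHomologyData
  have e := γ.homologyMap_eq
  have hK : γ.φK.hom z = ⟨φ.τ₂.hom z.1, map_mem_ker φ z⟩ := by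
    apply Subtype.ext
    have := congrArg (fun f => f.hom z) γ.commi
    exact this
  have hπ : γ.φH.hom (S₁.moduleCatLeftHomologyData.π.hom z) =
      S₂.moduleCatLeftHomologyData.π.hom (γ.φK.hom z) := by
    have := congrArg (fun f => f.hom z) γ.commπ
    exact this
  have h1 : toH S₁ z = S₁.moduleCatHomologyIso.inv.hom (S₁.moduleCatLeftHomologyData.π.hom z) := rfl
  rw [h1, e]
  show S₂.moduleCatHomologyIso.inv.hom (γ.φH.hom (S₁.moduleCatHomologyIso.hom.hom
    (S₁.moduleCatHomologyIso.inv.hom (S₁.moduleCatLeftHomologyData.π.hom z)))) = _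
  have h2 : S₁.moduleCatHomologyIso.hom.hom
    (S₁.moduleCatHomologyIso.inv.hom (S₁.moduleCatLeftHomologyData.π.hom z)) =
      S₁.moduleCatLeftHomologyData.π.hom z := by
    have := congrArg (fun f => f.hom (S₁.moduleCatLeftHomologyData.π.hom z))
      S₁.moduleCatHomologyIso.inv_hom_id
    exact this
  rw [h2, hπ, hK]
  rfl

end SC2
end Groth.Agent.H12.TCx

namespace Groth.Agent.H12.TCx
section Cx
variable {A : Type u} [CommRing A] {ι : Type} {c : ComplexShape ι}
  (P : HomologicalComplex (ModuleCat.{u} A) c) (p : ι)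

/-- incoming differential -/
noncomputable abbrev d₁ : P.X (c.prev p) →ₗ[A] P.X p := (P.d (c.prev p) p).hom
/-- outgoing differential -/
noncomputable abbrev d₀ : P.X p →ₗ[A] P.X (c.next p) := (P.d p (c.next p)).hom

theorem sc_f_hom (M : ModuleCat.{u} A) :
    ((tensorObj P M).sc p).f.hom = (d₁ P p).rTensor M := rfl

theorem sc_g_hom (M : ModuleCat.{u} A) :
    ((tensorObj P M).sc p).g.hom = (d₀ P p).rTensor M := rfl

/-- class of a cycle of `P ⊗ M`. -/
noncomputable def cls (M : ModuleCat.{u} A) :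
    LinearMap.ker ((d₀ P p).rTensor M) →ₗ[A] T P p M :=
  toH ((tensorObj P M).sc p)

theorem cls_surjective (M : ModuleCat.{u} A) : Function.Surjective (cls P p M) :=
  toH_surjective _

theorem cls_eq_zero_iff (M : ModuleCat.{u} A) (z : LinearMap.ker ((d₀ P p).rTensor M)) :
    cls P p M z = 0 ↔ z.1 ∈ LinearMap.range ((d₁ P p).rTensor M) :=
  toH_eq_zero_iff ((tensorObj P M).sc p) z

theorem lTensor_mem_ker {M N : ModuleCat.{u} A} (g : M ⟶ N)
    (z : LinearMap.ker ((d₀ P p).rTensor M)) :
    g.hom.lTensor (P.X p) z.1 ∈ LinearMap.ker ((d₀ P p).rTensor N) :=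
  map_mem_ker ((HomologicalComplex.shortComplexFunctor _ c p).map (tensorMap P g)) z

theorem TFun_map_cls {M N : ModuleCat.{u} A} (g : M ⟶ N)
    (z : LinearMap.ker ((d₀ P p).rTensor M)) :
    ((TFun P p).map g).hom (cls P p M z) =
      cls P p N ⟨g.hom.lTensor (P.X p) z.1, lTensor_mem_ker P p g z⟩ :=
  homologyMap_toH ((HomologicalComplex.shortComplexFunctor _ c p).map (tensorMap P g)) z

end Cx
end Groth.Agent.H12.TCx

namespace Groth.Agent.H12.TCx
section Mono
variable {A : Type u} [CommRing A] {ι : Type} {c : ComplexShape ι}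
  (P : HomologicalComplex (ModuleCat.{u} A) c) (p : ι)

/-- the cokernel of the incoming differential, concretely. -/
abbrev W : Type u := P.X p ⧸ LinearMap.range (d₁ P p)

/-- the projection onto `W`. -/
noncomputable abbrev πW : P.X p →ₗ[A] W P p := (LinearMap.range (d₁ P p)).mkQ

theorem d₀_comp_d₁ : (d₀ P p) ∘ₗ (d₁ P p) = 0 := by
  have := (P.sc p).zero
  exact congrArg ModuleCat.Hom.hom this

theorem ker_πW_rTensor (M : Type u) [AddCommGroup M] [Module A M] :
    LinearMap.ker ((πW P p).rTensor M) = LinearMap.range ((d₁ P p).rTensor M) := by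
  have h := rTensor_exact M (LinearMap.exact_map_mkQ_range (d₁ P p)) (Submodule.mkQ_surjective _)
  exact h.linearMap_ker_eq

theorem preservesMono_of_flat (hW : Module.Flat A (W P p)) :
    (TFun P p).PreservesMonomorphisms := by
  refine ⟨fun {M N} g hg => ?_⟩
  rw [ModuleCat.mono_iff_injective] at hg ⊢
  rw [injective_iff_map_eq_zero]
  intro t ht
  obtain ⟨z, rfl⟩ := cls_surjective P p M t
  rw [TFun_map_cls] at ht
  have ht := (cls_eq_zero_iff P p N _).mp ht
  refine (cls_eq_zero_iff P p M z).mpr ?_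
  rw [← ker_πW_rTensor, LinearMap.mem_ker]
  rw [← ker_πW_rTensor, LinearMap.mem_ker] at ht
  have h1 : g.hom.lTensor (W P p) ((πW P p).rTensor M z.1) = 0 := by
    rw [← LinearMap.comp_apply, LinearMap.lTensor_comp_rTensor, ← LinearMap.rTensor_comp_lTensor]
    exact ht
  have hinj := Module.Flat.lTensor_preserves_injective_linearMap (M := W P p) g.hom hg
  exact (map_eq_zero_iff _ hinj).mp h1

theorem flat_of_preservesMono (hn : Module.Flat A (P.X (c.next p)))
    (h : (TFun P p).PreservesMonomorphisms) : Module.Flat A (W P p) := by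
  rw [Module.Flat.iff_lTensor_preserves_injective_linearMap]
  intro N N' _ _ _ _ j hj
  rw [injective_iff_map_eq_zero]
  intro x hx
  obtain ⟨z, rfl⟩ := LinearMap.rTensor_surjective N (Submodule.mkQ_surjective (LinearMap.range (d₁ P p))) x
  -- the image of z in P ⊗ N' is a boundary
  have h1 : (πW P p).rTensor N' (j.lTensor (P.X p) z) = 0 := by
    rw [← LinearMap.comp_apply, LinearMap.rTensor_comp_lTensor, ← LinearMap.lTensor_comp_rTensor]
    exact hx
  have h2 : j.lTensor (P.X p) z ∈ LinearMap.range ((d₁ P p).rTensor N') := by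
    rw [← ker_πW_rTensor]; exact h1
  -- z is a cycle
  have h3 : z ∈ LinearMap.ker ((d₀ P p).rTensor N) := by
    rw [LinearMap.mem_ker]
    have hinj := Module.Flat.lTensor_preserves_injective_linearMap (M := P.X (c.next p)) j hj
    apply hinj
    rw [map_zero, ← LinearMap.comp_apply, LinearMap.lTensor_comp_rTensor,
      ← LinearMap.rTensor_comp_lTensor, LinearMap.comp_apply]
    obtain ⟨y, hy⟩ := h2
    rw [← hy, ← LinearMap.comp_apply, ← LinearMap.rTensor_comp, d₀_comp_d₁]
    simp
  -- apply the hypothesis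
  have hmono : Mono (ModuleCat.ofHom j) := (ModuleCat.mono_iff_injective _).mpr hj
  have hm := h.preserves (ModuleCat.ofHom j)
  rw [ModuleCat.mono_iff_injective] at hm
  have h4 : ((TFun P p).map (ModuleCat.ofHom j)).hom (cls P p (ModuleCat.of A N) ⟨z, h3⟩) = 0 := by
    rw [TFun_map_cls]
    exact (cls_eq_zero_iff P p (ModuleCat.of A N') _).mpr h2
  have h5 : cls P p (ModuleCat.of A N) ⟨z, h3⟩ = 0 := (map_eq_zero_iff _ hm).mp h4
  have h6 := (cls_eq_zero_iff P p (ModuleCat.of A N) _).mp h5
  rw [← ker_πW_rTensor] at h6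
  exact h6

end Mono
end Groth.Agent.H12.TCx

namespace Groth.Agent.H12.TCx
section Mono2
variable {A : Type u} [CommRing A] {ι : Type} {c : ComplexShape ι}
  (P : HomologicalComplex (ModuleCat.{u} A) c) (p : ι)

/-- the abstract opcycles are the concrete cokernel. -/
noncomputable def opcyclesEquiv : (P.opcycles p) ≃ₗ[A] W P p :=
  (P.sc p).moduleCatOpcyclesIso.toLinearEquiv

theorem flat_opcycles_iff : Module.Flat A (P.opcycles p) ↔ Module.Flat A (W P p) :=
  Module.Flat.equiv_iff (opcyclesEquiv P p)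

theorem preservesMono_iff (hn : Module.Flat A (P.X (c.next p))) :
    (TFun P p).PreservesMonomorphisms ↔ Module.Flat A (P.opcycles p) := by
  rw [flat_opcycles_iff]
  exact ⟨flat_of_preservesMono P p hn, preservesMono_of_flat P p⟩

end Mono2
end Groth.Agent.H12.TCx
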