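import Groth.Agent.H12.Bridge
import Groth.Agent.H12.FiberRank
import Groth.Agent.H12.EulerLen
import Groth.Agent.H12.TCx

set_option autoImplicit false
universe u

open CategoryTheory TensorProduct CohIII

namespace Groth.Agent.H12.DRank

variable {A : Type u} [CommRing A] (K : Type u) [Field K] [Algebra A K]

theorem bridge_natural_hom {M N : ModuleCat.{u} A} (d : M ⟶ N) :
    (ModuleCat.extendScalars (algebraMap A K)).map d ≫
        ModuleCat.ofHom (X := ((ModuleCat.extendScalars (algebraMap A K)).obj N)) (Y := K ⊗[A] N)
          (BC.bridge (B := K) N).toLinearMap =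
      ModuleCat.ofHom (X := ((ModuleCat.extendScalars (algebraMap A K)).obj M)) (Y := K ⊗[A] M)
          (BC.bridge (B := K) M).toLinearMap ≫
        ModuleCat.ofHom (d.hom.baseChange K) := by
  apply ModuleCat.ExtendScalars.hom_ext
  intro m
  rfl

theorem bridge_natural {M N : ModuleCat.{u} A} (d : M ⟶ N)
    (t : (ModuleCat.extendScalars (algebraMap A K)).obj M) :
    BC.bridge (B := K) N (((ModuleCat.extendScalars (algebraMap A K)).map d).hom t) =
      (d.hom.baseChange K) (BC.bridge (B := K) M t) :=
  congrArg (fun f => f.hom t) (bridge_natural_hom K d)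

theorem map_bridge_range {M N : ModuleCat.{u} A} (d : M ⟶ N) :
    Submodule.map (BC.bridge (B := K) N).toLinearMap
      (LinearMap.range ((ModuleCat.extendScalars (algebraMap A K)).map d).hom) =
      LinearMap.range (d.hom.baseChange K) := by
  ext y
  constructor
  · rintro ⟨_, ⟨t, rfl⟩, rfl⟩
    exact ⟨BC.bridge (B := K) M t, (bridge_natural K d t).symm⟩
  · rintro ⟨s, rfl⟩
    refine ⟨_, ⟨(BC.bridge (B := K) M).symm s, rfl⟩, ?_⟩
    show BC.bridge (B := K) N _ = _
    rw [bridge_natural, LinearEquiv.apply_symm_apply]

theorem finrank_range_baseChange {M N : Type u} [AddCommGroup M] [Module A M] [AddCommGroup N]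
    [Module A N] [Module.Finite A N] (d : M →ₗ[A] N) :
    Module.finrank K (LinearMap.range (d.baseChange K)) +
      Module.finrank K (K ⊗[A] (N ⧸ LinearMap.range d)) = Module.finrank K (K ⊗[A] N) := by
  set π := (LinearMap.range d).mkQ with hπ
  have hex := lTensor_exact K (LinearMap.exact_map_mkQ_range d) (Submodule.mkQ_surjective _)
  have hsurj : Function.Surjective (π.baseChange K) :=
    LinearMap.lTensor_surjective K (Submodule.mkQ_surjective _)
  have hker : LinearMap.ker (π.baseChange K) = LinearMap.range (d.baseChange K) := by
    ext y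
    rw [LinearMap.mem_ker, LinearMap.mem_range]
    exact hex y
  have h1 := LinearMap.finrank_range_add_finrank_ker (π.baseChange K)
  rw [hker, LinearMap.range_eq_top.mpr hsurj, finrank_top] at h1
  omega

end Groth.Agent.H12.DRank

namespace Groth.Agent.H12.DRank

open TCx

variable {A : Type u} [CommRing A] (K : Type u) [Field K] [Algebra A K]
  {ι : Type} {c : ComplexShape ι} (P : HomologicalComplex (ModuleCat.{u} A) c) (p : ι)

theorem finrank_range_map {M N : ModuleCat.{u} A} [Module.Finite A N] (d : M ⟶ N) :
    Module.finrank K (LinearMap.range ((ModuleCat.extendScalars (algebraMap A K)).map d).hom) +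
      Module.finrank K (K ⊗[A] (N ⧸ LinearMap.range d.hom)) = Module.finrank K (K ⊗[A] N) := by
  rw [← finrank_range_baseChange K d.hom, ← map_bridge_range K d]
  congr 1
  exact (Submodule.equivMapOfInjective (BC.bridge (B := K) N).toLinearMap
    (BC.bridge (B := K) N).injective _).finrank_eq

theorem finite_extendScalars (N : ModuleCat.{u} A) [Module.Finite A N] :
    Module.Finite K ((ModuleCat.extendScalars (algebraMap A K)).obj N) :=
  Module.Finite.equiv (BC.bridge (B := K) N).symm

theorem finrank_extendScalars (N : ModuleCat.{u} A) :
    Module.finrank K ((ModuleCat.extendScalars (algebraMap A K)).obj N) =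
      Module.finrank K (K ⊗[A] N) :=
  (BC.bridge (B := K) N).finrank_eq

/-- the dimension formula for the homology of the base-changed complex. -/
theorem finrank_homology_add (hfin : ∀ i, Module.Finite A (P.X i)) :
    Module.finrank K ((bcCx (algebraMap A K) P).homology p) +
        Module.finrank K (K ⊗[A] P.X (c.next p)) =
      Module.finrank K (K ⊗[A] (W P p)) +
        Module.finrank K (K ⊗[A] (P.X (c.next p) ⧸ LinearMap.range (d₀ P p))) := by
  have := hfin p
  have := hfin (c.next p)
  have := hfin (c.prev p)
  set S := (bcCx (algebraMap A K) P).sc p with hS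
  have hX₂ : Module.Finite K S.X₂ := finite_extendScalars K (P.X p)
  have hlen := Groth.Agent.H12.length_X₂ S
  have hH : Module.Finite K S.homology := by
    have : Module.Finite K S.moduleCatLeftHomologyData.H := by
      show Module.Finite K (LinearMap.ker S.g.hom ⧸ LinearMap.range S.moduleCatToCycles)
      infer_instance
    exact Module.Finite.equiv S.moduleCatHomologyIso.toLinearEquiv.symm
  rw [Module.length_eq_finrank, Module.length_eq_finrank, Module.length_eq_finrank,
    Module.length_eq_finrank] at hlen
  have hlen' : Module.finrank K S.X₂ = Module.finrank K S.homology +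
      Module.finrank K (LinearMap.range S.f.hom) + Module.finrank K (LinearMap.range S.g.hom) := by
    exact_mod_cast hlen
  have h1 : Module.finrank K (LinearMap.range S.f.hom) +
      Module.finrank K (K ⊗[A] (W P p)) = Module.finrank K (K ⊗[A] P.X p) :=
    finrank_range_map K (P.d (c.prev p) p)
  have h2 : Module.finrank K (LinearMap.range S.g.hom) +
      Module.finrank K (K ⊗[A] (P.X (c.next p) ⧸ LinearMap.range (d₀ P p))) =
      Module.finrank K (K ⊗[A] P.X (c.next p)) :=
    finrank_range_map K (P.d p (c.next p))
  have h3 : Module.finrank K S.X₂ = Module.finrank K (K ⊗[A] P.X p) :=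
    finrank_extendScalars K (P.X p)
  have h4 : Module.finrank K ((bcCx (algebraMap A K) P).homology p) =
      Module.finrank K S.homology := rfl
  omega

end Groth.Agent.H12.DRank
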