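import Groth.Agent.H12.RankDVR
import Groth.Agent.H12.DRankLC

set_option autoImplicit false
universe u

noncomputable section

namespace Groth.Agent.H12.DRankFP

open CategoryTheory TensorProduct CohIII Groth.Agent.H12.TCx

variable {A : Type u} [CommRing A]

/-- If `T_p` is right exact (i.e. `W_{p-1}` flat) and `H_p(P)` is finite, then
`dim H_p(P ⊗ k(x)) = dim (k(x) ⊗ H_p(P))`. -/
theorem dRank_eq_fibDim_homology (P : ChainComplex (ModuleCat.{u} A) ℤ)
    (hP : ∀ i, Module.Flat A (P.X i)) (p : ℤ)
    (hW : Module.Flat A (W P ((ComplexShape.down ℤ).next p)))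
    [Module.Finite A (P.homology p)] (x : PrimeSpectrum A) :
    dRank P p x = fibDim (P.homology p) x := by
  have hrel : (ComplexShape.down ℤ).Rel p ((ComplexShape.down ℤ).next p) := by
    rw [ChainComplex.next]; simp
  have hBd : Module.Flat A (LinearMap.range (lW P p)) := flat_range_lW P p hrel (hP _) hW
  set κ := x.asIdeal.ResidueField with hκ
  have hinj : Function.Injective ((LinearMap.range (lW P p)).subtype.baseChange κ) := by
    have h := subtype_rTensor_injective_of_flat P p hrel hW κ
    rw [← LinearMap.lTensor_inj_iff_rTensor_inj] at h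
    exact h
  have hK3 : Subsingleton (RankDVR.X₃ κ P p) := by
    have hbot : RankDVR.X₃ κ P p = ⊥ := LinearMap.ker_eq_bot.mpr hinj
    rw [hbot]
    infer_instance
  have hK3fin : Module.Finite κ (RankDVR.X₃ κ P p) := inferInstance
  have hK := RankDVR.finrank_homology_bcCx κ P p hBd
  have hK0 : Module.finrank κ (RankDVR.X₃ κ P p) = 0 := Module.finrank_zero_of_subsingleton
  show Module.finrank κ ((bcCx (algebraMap A κ) P).homology p) = Module.finrank κ (κ ⊗[A] (P.homology p))
  rw [hK, hK0, add_zero]

/-- S4485 in library form. -/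
theorem isLocallyConstant_dRank_of_exact_of_fp (P : ChainComplex (ModuleCat.{u} A) ℤ)
    (hP : ∀ i, Module.Flat A (P.X i)) (p : ℤ)
    (hex : (TFun P p).PreservesMonomorphisms ∧ (TFun P p).PreservesEpimorphisms)
    (hfp : Module.FinitePresentation A (T P p (ModuleCat.of A A))) :
    IsLocallyConstant (dRank P p) := by
  have hrel : (ComplexShape.down ℤ).Rel p ((ComplexShape.down ℤ).next p) := by
    rw [ChainComplex.next]; simp
  obtain ⟨h1, h2⟩ := hex
  rw [preservesMono_iff_flat_W P p (hP _)] at h1
  rw [preservesEpi_iff_flat_W_next P p hP hrel] at h2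
  have hBd : Module.Flat A (LinearMap.range (lW P p)) := flat_range_lW P p hrel (hP _) h2
  have hHc : Module.Flat A (Hc P p) := flat_Hc P p h1 hBd
  have e : T P p (ModuleCat.of A A) ≃ₗ[A] P.homology p :=
    (TAEquiv P p).trans (UCT.homologyEquivHc P p).symm
  have : Module.FinitePresentation A (P.homology p) := Module.FinitePresentation.of_equiv e
  have : Module.Finite A (P.homology p) := inferInstance
  have : Module.Flat A (P.homology p) := Module.Flat.of_linearEquiv (UCT.homologyEquivHc P p)
  have h : dRank P p = fibDim (A := A) (P.homology p) := by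
    funext x
    exact dRank_eq_fibDim_homology P hP p h2 x
  rw [h]
  exact DRankLC.isLocallyConstant_fibDim _

end Groth.Agent.H12.DRankFP
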