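import Groth.Agent.H12.DRankFP

set_option autoImplicit false
universe u

noncomputable section

namespace Groth.Agent.H12.DRankLocal

open CategoryTheory CategoryTheory.Limits TensorProduct CohIII Groth.Agent.H12.TCx

variable {A : Type u} [CommRing A]

theorem flat_of_subsingleton' (N : Type u) [AddCommGroup N] [Module A N] [Subsingleton N] :
    Module.Flat A N := inferInstance

theorem hrel (p : ℤ) : (ComplexShape.down ℤ).Rel p ((ComplexShape.down ℤ).next p) := by
  rw [ChainComplex.next]; simp

theorem next_eq (p : ℤ) : (ComplexShape.down ℤ).next p = p - 1 := by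
  rw [ChainComplex.next]

/-- `W_q` is flat when `P_q = 0`. -/
theorem flat_W_of_isZero (P : ChainComplex (ModuleCat.{u} A) ℤ) (q : ℤ) (h : IsZero (P.X q)) :
    Module.Flat A (W P q) := by
  have : Subsingleton (P.X q) := ModuleCat.subsingleton_of_isZero h
  have : Subsingleton (W P q) := inferInstance
  exact flat_of_subsingleton' _

section Local

variable [IsLocalRing A] (P : ChainComplex (ModuleCat.{u} A) ℤ) (hP : ∀ i, Module.Flat A (P.X i))

include hP in
/-- exactness gives constancy of the ranks. -/
theorem dRank_eq_closedPoint_of_exact (q : ℤ)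
    (hfp : Module.FinitePresentation A (T P q (ModuleCat.of A A)))
    (hex : (TFun P q).PreservesMonomorphisms ∧ (TFun P q).PreservesEpimorphisms)
    (x : PrimeSpectrum A) : dRank P q x = dRank P q (IsLocalRing.closedPoint A) := by
  obtain ⟨h1, h2⟩ := hex
  rw [preservesMono_iff_flat_W P q (hP _)] at h1
  rw [preservesEpi_iff_flat_W_next P q hP (hrel q)] at h2
  have hBd : Module.Flat A (LinearMap.range (lW P q)) := flat_range_lW P q (hrel q) (hP _) h2
  have hHc : Module.Flat A (Hc P q) := flat_Hc P q h1 hBd
  have e : T P q (ModuleCat.of A A) ≃ₗ[A] P.homology q :=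
    (TAEquiv P q).trans (UCT.homologyEquivHc P q).symm
  have : Module.FinitePresentation A (P.homology q) := Module.FinitePresentation.of_equiv e
  have : Module.Finite A (P.homology q) := inferInstance
  have : Module.Flat A (P.homology q) := Module.Flat.of_linearEquiv (UCT.homologyEquivHc P q)
  rw [DRankFP.dRank_eq_fibDim_homology P hP q h2, DRankFP.dRank_eq_fibDim_homology P hP q h2]
  exact DRankMin.fibDim_eq_of_le _
    ((PrimeSpectrum.le_iff_specializes _ _).mpr (IsLocalRing.specializes_closedPoint x))

include hP in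
/-- one inductive step: if `T_{q-1}` is left exact and the ranks of `T_q` agree at minimal primes
and the closed point, then `T_q` is exact. -/
theorem exact_of_dRank_eq_step [IsReduced A] (q : ℤ)
    (hfp : Module.FinitePresentation A (T P q (ModuleCat.of A A)))
    (hprev : Module.Flat A (W P ((ComplexShape.down ℤ).next q)))
    (heq : ∀ x : PrimeSpectrum A, x.asIdeal ∈ minimalPrimes A →
      dRank P q x = dRank P q (IsLocalRing.closedPoint A)) :
    (TFun P q).PreservesMonomorphisms ∧ (TFun P q).PreservesEpimorphisms := by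
  have hBd : Module.Flat A (LinearMap.range (lW P q)) := flat_range_lW P q (hrel q) (hP _) hprev
  have e : T P q (ModuleCat.of A A) ≃ₗ[A] P.homology q :=
    (TAEquiv P q).trans (UCT.homologyEquivHc P q).symm
  have : Module.FinitePresentation A (P.homology q) := Module.FinitePresentation.of_equiv e
  have : Module.Finite A (P.homology q) := inferInstance
  have hfree : Module.Free A (P.homology q) := by
    apply free_of_fibDim_eq_minimal
    intro x hx
    rw [← DRankFP.dRank_eq_fibDim_homology P hP q hprev, ← DRankFP.dRank_eq_fibDim_homology P hP q hprev]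
    exact heq x hx
  have hHc : Module.Flat A (Hc P q) := Module.Flat.of_linearEquiv (UCT.homologyEquivHc P q).symm
  have hW : Module.Flat A (W P q) := flat_W_of_flat_Hc P q hHc hBd
  exact ⟨(preservesMono_iff_flat_W P q (hP _)).mpr hW,
    (preservesEpi_iff_flat_W_next P q hP (hrel q)).mpr hprev⟩

include hP in
theorem exact_of_dRank_eq [IsReduced A] (i₀ : ℤ) (hb : ∀ i < i₀, IsZero (P.X i))
    (hfp : ∀ n : ℤ, Module.FinitePresentation A (T P n (ModuleCat.of A A))) (p : ℤ)
    (heq : ∀ x : PrimeSpectrum A, x.asIdeal ∈ minimalPrimes A →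
      ∀ q ≤ p, dRank P q x = dRank P q (IsLocalRing.closedPoint A)) :
    ∀ q ≤ p, (TFun P q).PreservesMonomorphisms ∧ (TFun P q).PreservesEpimorphisms := by
  -- the induction on `q = i₀ - 1 + n`
  have key : ∀ n : ℕ, i₀ - 1 + n ≤ p → Module.Flat A (W P (i₀ - 1 + n)) ∧
      Module.Flat A (W P ((ComplexShape.down ℤ).next (i₀ - 1 + n))) := by
    intro n
    induction n with
    | zero =>
      intro _
      refine ⟨flat_W_of_isZero P _ (hb _ (by push_cast; omega)),
        flat_W_of_isZero P _ (hb _ ?_)⟩
      rw [next_eq]; push_cast; omega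
    | succ n ih =>
      intro hle
      have hnext : (ComplexShape.down ℤ).next (i₀ - 1 + ((n + 1 : ℕ) : ℤ)) = i₀ - 1 + (n : ℤ) := by
        rw [next_eq]; push_cast; ring
      have hprev : Module.Flat A (W P ((ComplexShape.down ℤ).next (i₀ - 1 + ((n + 1 : ℕ) : ℤ)))) := by
        rw [hnext]
        exact (ih (by push_cast at hle; omega)).1
      have := exact_of_dRank_eq_step P hP (i₀ - 1 + ((n + 1 : ℕ) : ℤ)) (hfp _) hprev
        (fun x hx => heq x hx _ hle)
      exact ⟨(preservesMono_iff_flat_W P _ (hP _)).mp this.1, hprev⟩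
  intro q hq
  by_cases hlt : q < i₀
  · have h1 : Module.Flat A (W P q) := flat_W_of_isZero P _ (hb _ hlt)
    have h2 : Module.Flat A (W P ((ComplexShape.down ℤ).next q)) := by
      rw [next_eq]
      exact flat_W_of_isZero P _ (hb _ (by omega))
    exact ⟨(preservesMono_iff_flat_W P q (hP _)).mpr h1,
      (preservesEpi_iff_flat_W_next P q hP (hrel q)).mpr h2⟩
  · obtain ⟨n, hn⟩ : ∃ n : ℕ, q = i₀ - 1 + n := ⟨(q - i₀ + 1).toNat, by omega⟩
    subst hn
    obtain ⟨h1, h2⟩ := key n hq
    exact ⟨(preservesMono_iff_flat_W P _ (hP _)).mpr h1,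
      (preservesEpi_iff_flat_W_next P _ hP (hrel _)).mpr h2⟩

end Local

end Groth.Agent.H12.DRankLocal
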