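import Groth.Agent.H12.TCx5

set_option autoImplicit false
universe u v

open CategoryTheory CategoryTheory.Limits MonoidalCategory CohIII

namespace Groth.Agent.H12.TCx
section Nat
variable {A : Type u} [CommRing A] {ι : Type} {c : ComplexShape ι}
  (P : HomologicalComplex (ModuleCat.{u} A) c) (p : ι)

/-- the map `ker (lW ⊗ M) → ker (lW ⊗ N)` induced by `g : M → N`. -/
noncomputable def kerMap {M N : Type u} [AddCommGroup M] [Module A M] [AddCommGroup N] [Module A N]
    (g : M →ₗ[A] N) :
    LinearMap.ker ((lW P p).rTensor M) →ₗ[A] LinearMap.ker ((lW P p).rTensor N) :=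
  ((g.lTensor (W P p)) ∘ₗ (LinearMap.ker ((lW P p).rTensor M)).subtype).codRestrict _ (by
    intro x
    rw [LinearMap.mem_ker, LinearMap.comp_apply, ← LinearMap.comp_apply,
      LinearMap.rTensor_comp_lTensor, ← LinearMap.lTensor_comp_rTensor, LinearMap.comp_apply]
    have := x.2
    rw [LinearMap.mem_ker] at this
    simp only [Submodule.subtype_apply]
    rw [this, map_zero])

theorem TEquivKer_natural {M N : ModuleCat.{u} A} (g : M ⟶ N) (t : T P p M) :
    TEquivKer P p N (((TFun P p).map g).hom t) = kerMap P p g.hom (TEquivKer P p M t) := by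
  obtain ⟨z, rfl⟩ := cls_surjective P p M t
  rw [TFun_map_cls, TEquivKer_cls, TEquivKer_cls]
  apply Subtype.ext
  show (πW P p).rTensor N (g.hom.lTensor (P.X p) z.1) = g.hom.lTensor (W P p) ((πW P p).rTensor M z.1)
  rw [← LinearMap.comp_apply, ← LinearMap.comp_apply, LinearMap.rTensor_comp_lTensor,
    LinearMap.lTensor_comp_rTensor]

theorem TFun_map_surjective_iff {M N : ModuleCat.{u} A} (g : M ⟶ N) :
    Function.Surjective ((TFun P p).map g).hom ↔ Function.Surjective (kerMap P p g.hom) := by
  constructor
  · intro h x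
    obtain ⟨t, ht⟩ := h ((TEquivKer P p N).symm x)
    refine ⟨TEquivKer P p M t, ?_⟩
    rw [← TEquivKer_natural, ht, LinearEquiv.apply_symm_apply]
  · intro h t
    obtain ⟨x, hx⟩ := h (TEquivKer P p N t)
    refine ⟨(TEquivKer P p M).symm x, ?_⟩
    apply (TEquivKer P p N).injective
    rw [TEquivKer_natural, LinearEquiv.apply_symm_apply, hx]

end Nat
end Groth.Agent.H12.TCx

namespace Groth.Agent.H12.TCx
section Surj
variable {A : Type u} [CommRing A] {ι : Type} {c : ComplexShape ι}
  (P : HomologicalComplex (ModuleCat.{u} A) c) (p : ι)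

theorem lW_eq_subtype_comp :
    lW P p = (LinearMap.range (lW P p)).subtype ∘ₗ (lW P p).rangeRestrict := rfl

/-- key computation: surjectivity of `ker (lW ⊗ A) → ker (lW ⊗ k)` is injectivity of `B ⊗ k → P_n ⊗ k`. -/
theorem kerMap_surjective_iff {k : Type u} [AddCommGroup k] [Module A k] (g : A →ₗ[A] k)
    (hg : Function.Surjective g) :
    Function.Surjective (kerMap P p g) ↔
      Function.Injective ((LinearMap.range (lW P p)).subtype.rTensor k) := by
  set σ := (lW P p).rangeRestrict with hσ
  set i := (LinearMap.range (lW P p)).subtype with hi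
  have hσs : Function.Surjective σ := LinearMap.surjective_rangeRestrict _
  have hex := exact_ker_rangeRestrict P p
  have hcomp : ∀ (X : Type u) [AddCommGroup X] [Module A X],
      (lW P p).rTensor X = (i.rTensor X) ∘ₗ (σ.rTensor X) := by
    intro X _ _
    rw [← LinearMap.rTensor_comp]
    rfl
  constructor
  · intro hs
    rw [injective_iff_map_eq_zero]
    intro b hb
    obtain ⟨x, rfl⟩ := LinearMap.rTensor_surjective k hσs b
    have hx : x ∈ LinearMap.ker ((lW P p).rTensor k) := by
      rw [LinearMap.mem_ker, hcomp, LinearMap.comp_apply]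
      exact hb
    obtain ⟨x', hx'⟩ := hs ⟨x, hx⟩
    have hx'' : g.lTensor (W P p) x'.1 = x := congrArg Subtype.val hx'
    -- σ ⊗ A kills x'
    have hiA : Function.Injective (i.rTensor A) :=
      Module.Flat.rTensor_preserves_injective_linearMap i (Submodule.subtype_injective _)
    have h1 : σ.rTensor A x'.1 = 0 := by
      apply hiA
      rw [map_zero, ← LinearMap.comp_apply, ← hcomp]
      exact x'.2
    rw [← hx'', ← LinearMap.comp_apply, LinearMap.rTensor_comp_lTensor,
      ← LinearMap.lTensor_comp_rTensor, LinearMap.comp_apply, h1, map_zero]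
  · intro hinj
    rintro ⟨x, hx⟩
    have h1 : σ.rTensor k x = 0 := by
      apply hinj
      rw [map_zero, ← LinearMap.comp_apply, ← hcomp]
      exact hx
    obtain ⟨y, rfl⟩ := (rTensor_exact k hex hσs x).mp h1
    obtain ⟨y', rfl⟩ := LinearMap.lTensor_surjective (Hc P p) hg y
    have hmem : (LinearMap.ker (lW P p)).subtype.rTensor A y' ∈
        LinearMap.ker ((lW P p).rTensor A) := by
      rw [LinearMap.mem_ker, ← LinearMap.comp_apply, ← LinearMap.rTensor_comp]
      have : (lW P p) ∘ₗ (LinearMap.ker (lW P p)).subtype = 0 := by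
        ext z; exact z.2
      rw [this, LinearMap.rTensor_zero, LinearMap.zero_apply]
    refine ⟨⟨_, hmem⟩, ?_⟩
    apply Subtype.ext
    show g.lTensor (W P p) ((LinearMap.ker (lW P p)).subtype.rTensor A y') =
      (LinearMap.ker (lW P p)).subtype.rTensor k (g.lTensor (Hc P p) y')
    rw [← LinearMap.comp_apply, ← LinearMap.comp_apply, LinearMap.lTensor_comp_rTensor,
      LinearMap.rTensor_comp_lTensor]

end Surj
end Groth.Agent.H12.TCx

namespace Groth.Agent.H12.TCx
section Local
variable {A : Type u} [CommRing A] {ι : Type} {c : ComplexShape ι}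
  (P : HomologicalComplex (ModuleCat.{u} A) c) (p : ι)

theorem subtype_rTensor_inj_congr {M : Type u} [AddCommGroup M] [Module A M]
    {S S' : Submodule A M} (h : S = S') (k : Type u) [AddCommGroup k] [Module A k] :
    Function.Injective (S.subtype.rTensor k) ↔ Function.Injective (S'.subtype.rTensor k) := by
  subst h; rfl

theorem range_lW_eq (hrel : c.Rel p (c.next p)) :
    LinearMap.range (lW P p) = LinearMap.range (d₁ P (c.next p)) :=
  (range_lW P p).trans (range_d₁_next P p hrel).symm

theorem subtype_rTensor_injective_iff_flat [IsNoetherianRing A] [IsLocalRing A]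
    (hrel : c.Rel p (c.next p)) [Module.Finite A (P.X (c.next p))]
    [Module.Free A (P.X (c.next p))] :
    Function.Injective
        ((LinearMap.range (lW P p)).subtype.rTensor (IsLocalRing.ResidueField A)) ↔
      Module.Flat A (W P (c.next p)) := by
  rw [subtype_rTensor_inj_congr (range_lW_eq P p hrel)]
  set S := LinearMap.range (d₁ P (c.next p)) with hS
  constructor
  · intro h
    have hfin : Module.Finite A S := inferInstance
    have hfree : Module.Free A (P.X (c.next p) ⧸ S) :=
      Module.free_of_lTensor_residueField_injective S.subtype S.mkQ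
        (Submodule.mkQ_surjective _) (LinearMap.exact_subtype_mkQ S)
        ((LinearMap.lTensor_inj_iff_rTensor_inj _ _).mpr h)
    show Module.Flat A (P.X (c.next p) ⧸ S)
    infer_instance
  · intro h
    have h' : Module.Flat A (P.X (c.next p) ⧸ S) := h
    rw [← LinearMap.lTensor_inj_iff_rTensor_inj]
    exact LinearMap.lTensor_injective_of_exact_of_flat S.mkQ (Submodule.mkQ_surjective _)
      S.subtype (Submodule.subtype_injective _) (LinearMap.exact_subtype_mkQ S) _

/-- (KL) over a Noetherian local ring: `T_p` preserves epimorphisms iff `T_p(A) → T_p(k)` is onto. -/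
theorem preservesEpi_iff_surjective_residue [IsNoetherianRing A] [IsLocalRing A]
    (hP : ∀ i, Module.Finite A (P.X i) ∧ Module.Flat A (P.X i)) (hrel : c.Rel p (c.next p)) :
    (TFun P p).PreservesEpimorphisms ↔
      Function.Surjective ((TFun P p).map
        (ModuleCat.ofHom (Algebra.linearMap A (IsLocalRing.ResidueField A)))).hom := by
  have hfl : ∀ i, Module.Flat A (P.X i) := fun i => (hP i).2
  haveI : Module.Finite A (P.X (c.next p)) := (hP _).1
  haveI : Module.Flat A (P.X (c.next p)) := (hP _).2
  haveI : Module.Free A (P.X (c.next p)) := Module.free_of_flat_of_isLocalRing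
  rw [preservesEpi_iff_flat_W_next P p hfl hrel, ← subtype_rTensor_injective_iff_flat P p hrel,
    TFun_map_surjective_iff]
  exact (kerMap_surjective_iff P p (Algebra.linearMap A (IsLocalRing.ResidueField A))
    IsLocalRing.residue_surjective).symm

end Local
end Groth.Agent.H12.TCx
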