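import Groth.Agent.H12.TSub
import Groth.Agent.H8.QcqsPush

/-!
helper12: the affine extension lemma (EGA I 9.4.7, affine case) for families of submodules.
-/

set_option autoImplicit false
universe u

noncomputable section

namespace Groth.Agent.H12.SubSheaf

open CategoryTheory CategoryTheory.Limits Opposite TopologicalSpace AlgebraicGeometry
open Groth.Agent.H18

variable {X : Scheme.{u}} {F : X.Modules}

/-- `K` is locally (over affine opens inside `Y`) generated by finitely many sections. -/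
def SubFam.IsCohOn (K : SubFam F) (Y : X.Opens) : Prop :=
  ∀ y ∈ Y, ∃ (W' : X.Opens) (T : Finset Γ(F, W')), IsAffineOpen W' ∧ y ∈ W' ∧ W' ≤ Y ∧
    ∀ W'' : X.Opens, W'' ≤ W' → K.carrier W'' = (gen W' (T : Set Γ(F, W'))).carrier W''

theorem SubFam.IsCohOn.congr {K K' : SubFam F} {Y : X.Opens} (h : K.IsCohOn Y)
    (hKK' : ∀ W : X.Opens, W ≤ Y → K.carrier W = K'.carrier W) : K'.IsCohOn Y := by
  intro y hy
  obtain ⟨W', T, hW', hyW', hW'Y, hT⟩ := h y hy
  exact ⟨W', T, hW', hyW', hW'Y, fun W'' hW'' => (hKK' W'' (hW''.trans hW'Y)).symm.trans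
    (hT W'' hW'')⟩

theorem SubFam.IsCohOn.mono_left {K : SubFam F} {Y' : X.Opens}
    (h : ∀ y ∈ Y', ∃ Y : X.Opens, y ∈ Y ∧ Y ≤ Y' ∧ K.IsCohOn Y) : K.IsCohOn Y' := by
  intro y hy
  obtain ⟨Y, hyY, hYY', hK⟩ := h y hy
  obtain ⟨W', T, hW', hyW', hW'Y, hT⟩ := hK y hyY
  exact ⟨W', T, hW', hyW', hW'Y.trans hYY', hT⟩

/-- `gen V T` for a finite `T` over an affine `V` is coherent on `V`. -/
theorem isCohOn_gen {V : X.Opens} (hV : IsAffineOpen V) (T : Finset Γ(F, V)) :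
    (gen V (T : Set Γ(F, V))).IsCohOn V :=
  fun _ hy => ⟨V, T, hV, hy, le_rfl, fun _ _ => rfl⟩

/-- coherence on `Y` passes to smaller opens. -/
theorem SubFam.IsCohOn.mono [F.IsQuasicoherent] {K : SubFam F} {Y Y' : X.Opens} (h : K.IsCohOn Y)
    (hY' : Y' ≤ Y) : K.IsCohOn Y' := by
  classical
  intro y hy
  obtain ⟨W', T, hW', hyW', hW'Y, hT⟩ := h y (hY' hy)
  obtain ⟨g, hgW', hyg⟩ := hW'.exists_basicOpen_le (V := Y' ⊓ W') ⟨y, ⟨hy, hyW'⟩⟩ hyW'
  refine ⟨X.basicOpen g, T.image (fun s => mres F (X.basicOpen_le g) s), hW'.basicOpen g, hyg,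
    hgW'.trans inf_le_left, ?_⟩
  intro W'' hW''
  rw [hT W'' (hW''.trans (X.basicOpen_le g)),
    gen_eq_gen_of_le hW' (T : Set Γ(F, W')) (hW'.basicOpen g) (X.basicOpen_le g) hW'',
    Finset.coe_image]

section Affine

variable [F.IsQuasicoherent] {V : X.Opens} (hV : IsAffineOpen V)

include hV

/-- shrinking to basic opens of an affine open `V`. -/
theorem SubFam.IsCohOn.exists_basicOpen {K : SubFam F} {Y : X.Opens} (h : K.IsCohOn Y)
    (hYV : Y ≤ V) {y : X} (hy : y ∈ Y) :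
    ∃ (g : Γ(X, V)) (T : Finset Γ(F, X.basicOpen g)), y ∈ X.basicOpen g ∧ X.basicOpen g ≤ Y ∧
      ∀ W'' : X.Opens, W'' ≤ X.basicOpen g →
        K.carrier W'' = (gen (X.basicOpen g) (T : Set Γ(F, X.basicOpen g))).carrier W'' := by
  classical
  obtain ⟨W', T, hW', hyW', hW'Y, hT⟩ := h y hy
  obtain ⟨g, hgW', hyg⟩ := hV.exists_basicOpen_le (V := W') ⟨y, hyW'⟩ (hYV hy)
  refine ⟨g, T.image (fun s => mres F hgW' s), hyg, hgW'.trans hW'Y, ?_⟩
  intro W'' hW''
  rw [hT W'' (hW''.trans hgW'), gen_eq_gen_of_le hW' (T : Set Γ(F, W')) (hV.basicOpen g) hgW' hW'',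
    Finset.coe_image]

/-- the key extension step: a section of `K` over a basic open `D(g) ≤ Y` extends, after
multiplication by a power of `g`, to a section of `F` over `V` whose restriction to `Y` lies in
`K`. -/
theorem exists_extension_section {K : SubFam F} (hK : K.IsLocal) {Y : X.Opens} (hYV : Y ≤ V)
    (hYc : IsCompact (Y : Set X)) {ι : Type*} (t : Finset ι) (g : ι → Γ(X, V))
    (T : ∀ i, Finset Γ(F, X.basicOpen (g i)))
    (hgY : ∀ i ∈ t, X.basicOpen (g i) ≤ Y)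
    (hcov : ∀ x ∈ Y, ∃ i ∈ t, x ∈ X.basicOpen (g i))
    (hT : ∀ i ∈ t, ∀ W'' : X.Opens, W'' ≤ X.basicOpen (g i) →
      K.carrier W'' = (gen (X.basicOpen (g i)) (T i : Set Γ(F, X.basicOpen (g i)))).carrier W'')
    (g₀ : Γ(X, V)) (hg₀ : X.basicOpen g₀ ≤ Y) (τ : Γ(F, X.basicOpen g₀))
    (hτ : τ ∈ K.carrier (X.basicOpen g₀)) :
    ∃ (k : ℕ) (s : Γ(F, V)), mres F (X.basicOpen_le g₀) s =
        (X.presheaf.map (homOfLE (X.basicOpen_le g₀)).op g₀) ^ k • τ ∧
      mres F hYV s ∈ K.carrier Y := by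
  classical
  have hYqs : IsQuasiSeparated (Y : Set X) := hV.isQuasiSeparated.of_subset hYV
  obtain ⟨gY, hgY'⟩ : ∃ gY : Γ(X, Y), gY = X.presheaf.map (homOfLE hYV).op g₀ := ⟨_, rfl⟩
  have hD'eq : X.basicOpen gY = Y ⊓ X.basicOpen g₀ := by
    rw [hgY']; exact Scheme.basicOpen_res _ _ _
  have hD'D : X.basicOpen gY ≤ X.basicOpen g₀ := by rw [hD'eq]; exact inf_le_right
  have hDD' : X.basicOpen g₀ ≤ X.basicOpen gY := by rw [hD'eq]; exact le_inf hg₀ le_rfl
  have hD'Y : X.basicOpen gY ≤ Y := X.basicOpen_le gY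
  obtain ⟨rg, hrg⟩ : ∃ rg : Γ(X, X.basicOpen g₀),
    rg = X.presheaf.map (homOfLE (X.basicOpen_le g₀)).op g₀ := ⟨_, rfl⟩
  obtain ⟨rgY, hrgY⟩ : ∃ rgY : Γ(X, X.basicOpen gY),
    rgY = X.presheaf.map (homOfLE hD'Y).op gY := ⟨_, rfl⟩
  have hgY_D : X.presheaf.map (homOfLE hg₀).op gY = rg := by
    rw [hgY', hrg, Groth.Agent.H8.rres_rres]
  have hrgY_D : X.presheaf.map (homOfLE hDD').op rgY = rg := by
    rw [hrgY, Groth.Agent.H8.rres_rres]
    exact hgY_D
  -- step 1: a section of `F` over `Y`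
  obtain ⟨n, s₁, hs₁⟩ := Groth.Agent.H8.exists_res_eq_pow_smul_of_qcqs F hYc hYqs gY
    (mres F hD'D τ)
  have hs₁' : mres F hD'Y s₁ = rgY ^ n • mres F hD'D τ := by rw [hrgY]; exact hs₁
  -- step 2: on each member of the cover, a power of `g₀` moves `s₁` into `K`
  have hN : ∀ i (hi : i ∈ t), ∃ N : ℕ,
      (X.presheaf.map (homOfLE (hgY i hi)).op gY) ^ N • mres F (hgY i hi) s₁ ∈
        K.carrier (X.basicOpen (g i)) := by
    intro i hi
    have hVi : IsAffineOpen (X.basicOpen (g i)) := hV.basicOpen (g i)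
    obtain ⟨gi, hgi⟩ : ∃ gi : Γ(X, X.basicOpen (g i)),
      gi = X.presheaf.map (homOfLE (hgY i hi)).op gY := ⟨_, rfl⟩
    rw [← hgi]
    have hEle : X.basicOpen gi ≤ X.basicOpen (g i) := X.basicOpen_le gi
    have hED' : X.basicOpen gi ≤ X.basicOpen gY := by
      rw [hgi]; exact Groth.Agent.H8.basicOpen_res_le (hgY i hi) gY
    have hKE : K.carrier (X.basicOpen gi) =
        resSpan F hEle (T i : Set Γ(F, X.basicOpen (g i))) := by
      rw [hT i hi _ hEle, gen_carrier_eq_resSpan hVi _ (hVi.basicOpen gi) hEle]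
    have hTK : ∀ τ' ∈ T i, τ' ∈ K.carrier (X.basicOpen (g i)) := by
      intro τ' hτ'
      rw [hT i hi _ le_rfl]
      have := mres_mem_gen (X.basicOpen (g i)) (T i : Set Γ(F, X.basicOpen (g i))) le_rfl
        (Finset.mem_coe.mpr hτ')
      rwa [mres_self] at this
    have hmem : mres F hEle (mres F (hgY i hi) s₁) ∈ K.carrier (X.basicOpen gi) := by
      have h1 : mres F hEle (mres F (hgY i hi) s₁) = mres F hED' (mres F hD'Y s₁) := by
        rw [mres_mres, mres_mres]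
      rw [h1, hs₁', mres_smul, mres_mres]
      exact Submodule.smul_mem _ _ (K.res (hED'.trans hD'D) hτ)
    rw [hKE] at hmem
    obtain ⟨N, hN⟩ := exists_pow_smul_mem_span F hVi gi (T i : Set Γ(F, X.basicOpen (g i)))
      (mres F (hgY i hi) s₁) hmem
    refine ⟨N, ?_⟩
    exact (Submodule.span_le.mpr (fun τ' hτ' => hTK τ' (Finset.mem_coe.mp hτ'))) hN
  choose N hN using hN
  let N' : ι → ℕ := fun i => if hi : i ∈ t then N i hi else 0
  obtain ⟨p, hp⟩ : ∃ p : ℕ, p = t.sup N' := ⟨_, rfl⟩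
  obtain ⟨s', hs'⟩ : ∃ s' : Γ(F, Y), s' = gY ^ p • s₁ := ⟨_, rfl⟩
  have hs'K : s' ∈ K.carrier Y := by
    apply hK
    intro x hx
    obtain ⟨i, hi, hxi⟩ := hcov x hx
    refine ⟨X.basicOpen (g i), hgY i hi, hxi, ?_⟩
    have hle : N i hi ≤ p := by
      have : N' i ≤ t.sup N' := Finset.le_sup hi
      rw [hp]
      simpa [N', hi] using this
    obtain ⟨q, hq⟩ := Nat.exists_eq_add_of_le hle
    rw [hs', mres_smul, map_pow, hq, add_comm, pow_add, mul_smul]
    exact Submodule.smul_mem _ _ (hN i hi)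
  have hs'D : mres F hg₀ s' = rg ^ (p + n) • τ := by
    have h3 : mres F hg₀ s' = mres F hDD' (mres F hD'Y s') := by rw [mres_mres]
    rw [h3, hs', mres_smul, hs₁', map_pow, ← hrgY, smul_smul, ← pow_add, mres_smul, mres_mres,
      mres_self, map_pow, hrgY_D]
  -- step 3: extend to `V`
  obtain ⟨a, s₀, hs₀⟩ := exists_pow_smul_eq_res_of_isQuasicoherent F hV g₀ (mres F hg₀ s')
  have hs₀' : rg ^ a • mres F hg₀ s' = mres F (X.basicOpen_le g₀) s₀ := by rw [hrg]; exact hs₀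
  -- step 4: correct the restriction to `Y`
  obtain ⟨d, hd⟩ : ∃ d : Γ(F, Y), d = mres F hYV s₀ - gY ^ a • s' := ⟨_, rfl⟩
  have hd0 : F.presheaf.map (homOfLE (X.basicOpen_le gY)).op d = 0 := by
    change mres F hD'Y d = 0
    have h1 : mres F hD'Y (mres F hYV s₀) = rgY ^ a • mres F hD'Y s' := by
      have h1' : mres F hD'Y (mres F hYV s₀) = mres F hD'D (mres F (X.basicOpen_le g₀) s₀) := by
        rw [mres_mres, mres_mres]
      rw [h1', ← hs₀', mres_smul, mres_mres, map_pow]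
      congr 2
      rw [← hgY_D, hrgY, Groth.Agent.H8.rres_rres]
    have h2 : mres F hD'Y (gY ^ a • s') = rgY ^ a • mres F hD'Y s' := by
      rw [mres_smul, map_pow, ← hrgY]
    rw [hd, map_sub, h1, h2, sub_self]
  obtain ⟨b, hb⟩ := Groth.Agent.H8.exists_pow_smul_eq_zero_of_isCompact F hYc gY d hd0
  refine ⟨a + b + (p + n), g₀ ^ b • s₀, ?_, ?_⟩
  · rw [mres_smul, map_pow, ← hrg, ← hs₀', hs'D, smul_smul, smul_smul, ← pow_add, ← pow_add]
    congr 2
    omega
  · have h4 : mres F hYV (g₀ ^ b • s₀) = gY ^ (a + b) • s' := by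
      rw [mres_smul, map_pow, ← hgY']
      have h5 : mres F hYV s₀ = d + gY ^ a • s' := by rw [hd]; abel
      rw [h5, smul_add, hb, zero_add, smul_smul, ← pow_add, add_comm]
    rw [h4]
    exact Submodule.smul_mem _ _ hs'K

/-- **affine extension lemma**: a local family which is coherent on a quasi-compact open `Y` of
an affine open `V` agrees on `Y` with the family generated by finitely many sections over `V`
(whose restrictions to `Y` lie in the family). -/
theorem exists_fg_extension {K : SubFam F} (hK : K.IsLocal) {Y : X.Opens} (hYV : Y ≤ V)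
    (hYc : IsCompact (Y : Set X)) (hcoh : K.IsCohOn Y) :
    ∃ T₀ : Finset Γ(F, V), (∀ m ∈ T₀, mres F hYV m ∈ K.carrier Y) ∧
      ∀ W : X.Opens, W ≤ Y → (gen V (T₀ : Set Γ(F, V))).carrier W = K.carrier W := by
  classical
  choose g T hyg hgY hT using fun y : Y => hcoh.exists_basicOpen hV hYV y.2
  obtain ⟨t, ht⟩ := hYc.elim_finite_subcover (fun y : Y => ((X.basicOpen (g y) : X.Opens) : Set X))
    (fun y => (X.basicOpen (g y)).isOpen) (by
      intro x hx
      exact Set.mem_iUnion.mpr ⟨⟨x, hx⟩, hyg ⟨x, hx⟩⟩)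
  have hcov : ∀ x ∈ Y, ∃ y ∈ t, x ∈ X.basicOpen (g y) := by
    intro x hx
    have := ht hx
    simp only [Set.mem_iUnion] at this
    obtain ⟨y, hy, hxy⟩ := this
    exact ⟨y, hy, hxy⟩
  have hTK : ∀ y : Y, ∀ τ ∈ T y, τ ∈ K.carrier (X.basicOpen (g y)) := by
    intro y τ hτ
    rw [hT y _ le_rfl]
    have := mres_mem_gen (X.basicOpen (g y)) (T y : Set Γ(F, X.basicOpen (g y))) le_rfl
      (Finset.mem_coe.mpr hτ)
    rwa [mres_self] at this
  have hE : ∀ y : Y, ∀ τ : Γ(F, X.basicOpen (g y)), τ ∈ T y →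
      ∃ (k : ℕ) (s : Γ(F, V)), mres F (X.basicOpen_le (g y)) s =
        (X.presheaf.map (homOfLE (X.basicOpen_le (g y))).op (g y)) ^ k • τ ∧
        mres F hYV s ∈ K.carrier Y := by
    intro y τ hτ
    exact exists_extension_section hV hK hYV hYc t g T (fun i _ => hgY i) hcov
      (fun i _ => hT i) (g y) (hgY y) τ (hTK y τ hτ)
  choose! k s hs hsK using hE
  refine ⟨t.biUnion (fun y => (T y).image (s y)), ?_, ?_⟩
  · intro m hm
    obtain ⟨y, -, hm⟩ := Finset.mem_biUnion.mp hm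
    obtain ⟨τ, hτ, rfl⟩ := Finset.mem_image.mp hm
    exact hsK y τ hτ
  · intro W hW
    have hT₀ : ∀ m ∈ ((t.biUnion (fun y => (T y).image (s y)) : Finset Γ(F, V)) : Set Γ(F, V)),
        mres F hYV m ∈ K.carrier Y := by
      intro m hm
      obtain ⟨y, -, hm⟩ := Finset.mem_biUnion.mp (Finset.mem_coe.mp hm)
      obtain ⟨τ, hτ, rfl⟩ := Finset.mem_image.mp hm
      exact hsK y τ hτ
    apply le_antisymm
    · exact gen_le_of_isLocal hV _ hK hYV hT₀ hW
    · intro t' ht'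
      apply isLocal_gen hV
      intro x hx
      obtain ⟨y, hy, hxy⟩ := hcov x (hW hx)
      refine ⟨W ⊓ X.basicOpen (g y), inf_le_left, ⟨hx, hxy⟩, ?_⟩
      have h1 : mres F (inf_le_left : W ⊓ X.basicOpen (g y) ≤ W) t' ∈
          K.carrier (W ⊓ X.basicOpen (g y)) := K.res _ ht'
      rw [hT y _ inf_le_right] at h1
      refine gen_le_of_isLocal (hV.basicOpen (g y)) _ (isLocal_gen hV _) le_rfl ?_ inf_le_right h1
      intro τ hτ
      rw [mres_self]
      have hτ' : τ ∈ T y := Finset.mem_coe.mp hτ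
      have hmem : s y τ ∈ ((t.biUnion (fun y => (T y).image (s y)) : Finset Γ(F, V)) :
          Set Γ(F, V)) :=
        Finset.mem_coe.mpr (Finset.mem_biUnion.mpr ⟨y, hy, Finset.mem_image_of_mem _ hτ'⟩)
      have h2 := mres_mem_gen V _ (X.basicOpen_le (g y)) hmem
      rw [hs y τ hτ'] at h2
      have hu : IsUnit (X.presheaf.map (homOfLE (X.basicOpen_le (g y))).op (g y)) :=
        RingedSpace.isUnit_res_basicOpen _ (g y)
      obtain ⟨v, hv⟩ := hu.pow (k y τ)
      rw [← hv] at h2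
      have h3 := Submodule.smul_mem _ (↑v⁻¹ : Γ(X, X.basicOpen (g y))) h2
      rwa [smul_smul, Units.inv_mul, one_smul] at h3

end Affine

end Groth.Agent.H12.SubSheaf
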