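import Groth.Agent.H12.ExtMain
import Groth.Agent.H12.QCohOpen

/-!
helper12: the two classical cases of the extension of quasi-coherent submodules of finite type
(locally Noetherian underlying space; quasi-compact quasi-separated scheme), and consequences.
-/

set_option autoImplicit false
universe u v
noncomputable section
namespace Groth.Agent.H12.ExtCases
open CategoryTheory CategoryTheory.Limits Opposite TopologicalSpace AlgebraicGeometry
open Groth.Agent.H18 Groth.Agent.H12.SubSheaf Groth.Agent.H12.QCohAbelian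

/-- in a locally Noetherian space every subset of a quasi-compact set is quasi-compact. -/
theorem isCompact_of_subset_of_locallyNoetherian {X : Type*} [TopologicalSpace X]
    (hX : ∀ x : X, ∃ U : Opens X, x ∈ U ∧ NoetherianSpace (U : Set X))
    {W : Set X} (hW : IsCompact W) {S : Set X} (hS : S ⊆ W) : IsCompact S := by
  choose U hxU hU using hX
  obtain ⟨t, ht⟩ := hW.elim_finite_subcover (fun x => (U x : Set X)) (fun x => (U x).isOpen)
    (fun x _ => Set.mem_iUnion.mpr ⟨x, hxU x⟩)
  have hSeq : S = ⋃ x ∈ t, S ∩ (U x : Set X) := by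
    ext y
    simp only [Set.mem_iUnion, Set.mem_inter_iff, exists_and_left, exists_prop]
    constructor
    · intro hy
      have := ht (hS hy)
      simp only [Set.mem_iUnion, exists_prop] at this
      exact ⟨hy, this⟩
    · exact fun h => h.1
  rw [hSeq]
  refine t.finite_toSet.isCompact_biUnion ?_
  intro x _
  have := hU x
  have hc : IsCompact ((Subtype.val : ((U x : Set X) : Type _) → X) ⁻¹' S) :=
    NoetherianSpace.isCompact _
  have := hc.image continuous_subtype_val
  rw [Subtype.image_preimage_coe] at this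
  rw [Set.inter_comm]
  exact this

variable {X : Scheme.{u}}

/-- on a scheme with locally Noetherian underlying space every open immersion is quasi-compact. -/
theorem quasiCompact_ι_of_locallyNoetherian
    (hX : ∀ x : X, ∃ U : X.Opens, x ∈ U ∧ NoetherianSpace (U : Set X)) (U : X.Opens) :
    QuasiCompact U.ι := by
  constructor
  intro W hW hWc
  have h1 : IsCompact ((U : Set X) ∩ W) :=
    isCompact_of_subset_of_locallyNoetherian hX hWc Set.inter_subset_right
  have h2 : U.ι ⁻¹' W = U.ι ⁻¹' ((U : Set X) ∩ W) := by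
    ext x
    simp only [Set.mem_preimage, Set.mem_inter_iff]
    constructor
    · intro hx
      exact ⟨x.2, hx⟩
    · intro hx
      exact hx.2
  rw [h2]
  refine U.ι.isOpenEmbedding.isInducing.isCompact_preimage' h1 ?_
  rw [Scheme.Opens.range_ι]
  exact Set.inter_subset_left

/-- EGA I 9.4.7 a): locally Noetherian underlying space. -/
theorem exists_ft_extension_of_locallyNoetherian
    (hX : ∀ x : X, ∃ U : X.Opens, x ∈ U ∧ NoetherianSpace (U : Set X)) (U : X.Opens)
    (F : X.Modules) [F.IsQuasicoherent]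
    (G : (U : Scheme.{u}).Modules) (i : G ⟶ F.restrict U.ι) [Mono i] [G.IsQuasicoherent]
    (hG : SheafOfModules.IsFiniteType (R := (U : Scheme.{u}).ringCatSheaf) G) :
    ∃ (G' : X.Modules) (i' : G' ⟶ F) (e : G'.restrict U.ι ≅ G), Mono i' ∧ G'.IsQuasicoherent ∧
      SheafOfModules.IsFiniteType (R := X.ringCatSheaf) G' ∧
      e.hom ≫ i = (Scheme.Modules.restrictFunctor U.ι).map i' := by
  have := quasiCompact_ι_of_locallyNoetherian hX U
  obtain ⟨_, hwf⟩ := exists_wellFoundedLT X.affineOpens
  refine Groth.Agent.H12.ExtMain.exists_ft_extension (L := X.affineOpens)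
    (fun W => (W : X.Opens)) (fun W => W.2) ?_ ?_ U F G i hG
  · exact iSup_affineOpens_eq_top X
  · intro l
    exact isCompact_of_subset_of_locallyNoetherian hX l.2.isCompact Set.inter_subset_left

/-- EGA I 9.4.7 b): quasi-compact quasi-separated scheme, quasi-compact open. -/
theorem exists_ft_extension_of_qcqs [CompactSpace X] [QuasiSeparatedSpace X]
    (U : X.Opens) (hU : IsCompact (U : Set X))
    (F : X.Modules) [F.IsQuasicoherent]
    (G : (U : Scheme.{u}).Modules) (i : G ⟶ F.restrict U.ι) [Mono i] [G.IsQuasicoherent]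
    (hG : SheafOfModules.IsFiniteType (R := (U : Scheme.{u}).ringCatSheaf) G) :
    ∃ (G' : X.Modules) (i' : G' ⟶ F) (e : G'.restrict U.ι ≅ G), Mono i' ∧ G'.IsQuasicoherent ∧
      SheafOfModules.IsFiniteType (R := X.ringCatSheaf) G' ∧
      e.hom ≫ i = (Scheme.Modules.restrictFunctor U.ι).map i' := by
  have := Groth.Agent.H12.QCohOpen.quasiCompact_ι_of_isCompact U hU
  obtain ⟨s, hs, hst⟩ := (isCompact_iff_finite_and_eq_biUnion_affineOpens (X := X) (U := ⊤)).mp
    (by simpa using isCompact_univ)
  have : Finite s := hs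
  obtain ⟨n, ⟨e⟩⟩ := Finite.exists_equiv_fin s
  refine Groth.Agent.H12.ExtMain.exists_ft_extension (L := Fin n)
    (fun k => ((e.symm k : s) : X.affineOpens).1) (fun k => ((e.symm k : s) : X.affineOpens).2)
    ?_ ?_ U F G i hG
  · rw [eq_top_iff, hst]
    refine iSup₂_le fun W hW => ?_
    refine le_trans ?_ (le_iSup _ (e ⟨W, hW⟩))
    rw [Equiv.symm_apply_apply]
  · intro l
    rw [Set.inter_iUnion₂]
    refine (Set.toFinite (Set.Iio l)).isCompact_biUnion ?_
    intro m _
    exact IsCompact.inter_of_isOpen ((e.symm l : s) : X.affineOpens).2.isCompact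
      ((e.symm m : s) : X.affineOpens).2.isCompact (Opens.isOpen _) (Opens.isOpen _)

end Groth.Agent.H12.ExtCases

namespace Groth.Agent.H12.ExtCases
open CategoryTheory CategoryTheory.Limits Opposite TopologicalSpace AlgebraicGeometry
open Groth.Agent.H18 Groth.Agent.H12.SubSheaf Groth.Agent.H12.QCohAbelian

variable {X : Scheme.{u}}

/-- realization on the whole scheme from the extension principle. -/
theorem exists_ft_restrict_iso_of_ext (U : X.Opens) [QuasiCompact U.ι]
    (G : (U : Scheme.{u}).Modules) [G.IsQuasicoherent]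
    (hext : ∀ (F : X.Modules) [F.IsQuasicoherent] (i : G ⟶ F.restrict U.ι) [Mono i],
      ∃ (G' : X.Modules) (i' : G' ⟶ F) (e : G'.restrict U.ι ≅ G), Mono i' ∧ G'.IsQuasicoherent ∧
      SheafOfModules.IsFiniteType (R := X.ringCatSheaf) G' ∧
      e.hom ≫ i = (Scheme.Modules.restrictFunctor U.ι).map i') :
    ∃ G' : X.Modules, G'.IsQuasicoherent ∧ SheafOfModules.IsFiniteType (R := X.ringCatSheaf) G' ∧
      Nonempty (G'.restrict U.ι ≅ G) := by
  let R := Scheme.Modules.restrictFunctor U.ι
  let P := Scheme.Modules.pushforward U.ι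
  let adj : R ⊣ P := Scheme.Modules.restrictAdjunction U.ι
  have h1 : (P.obj G).IsQuasicoherent := Groth.Agent.H8.isQuasicoherent_pushforward_of_qcqs U.ι G
  have hcG : IsIso (adj.counit.app G) := inferInstance
  let i : G ⟶ (P.obj G).restrict U.ι := inv (adj.counit.app G)
  have hi : Mono i := inferInstance
  obtain ⟨G', i', e, -, hq, hft, -⟩ := hext (P.obj G) i
  exact ⟨G', hq, hft, ⟨e⟩⟩

set_option backward.isDefEq.respectTransparency false in
/-- a section over an affine open lies in a quasi-coherent submodule of finite type, from the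
extension principle. -/
theorem exists_ft_sub_of_section_of_ext (F : X.Modules) [F.IsQuasicoherent] (U : X.Opens)
    (hU : IsAffineOpen U) (s : Γ(F, U))
    (hext : ∀ (G : (U : Scheme.{u}).Modules) (i : G ⟶ F.restrict U.ι) [Mono i]
      [G.IsQuasicoherent] (_ : SheafOfModules.IsFiniteType (R := (U : Scheme.{u}).ringCatSheaf) G),
      ∃ (G' : X.Modules) (i' : G' ⟶ F) (e : G'.restrict U.ι ≅ G), Mono i' ∧ G'.IsQuasicoherent ∧
      SheafOfModules.IsFiniteType (R := X.ringCatSheaf) G' ∧
      e.hom ≫ i = (Scheme.Modules.restrictFunctor U.ι).map i') :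
    ∃ (G' : X.Modules) (i' : G' ⟶ F), Mono i' ∧ G'.IsQuasicoherent ∧
      SheafOfModules.IsFiniteType (R := X.ringCatSheaf) G' ∧
      ∃ g : Γ(G', U), (i'.app U).hom g = s := by
  have hUa : IsAffine (U : Scheme.{u}) := hU
  have hF' : (F.restrict U.ι).IsQuasicoherent :=
    Scheme.Modules.isQuasicoherent_restrictFunctor U.ι F
  have hle : U.ι ''ᵁ ⊤ ≤ U := by
    rintro _ ⟨x, -, rfl⟩
    exact x.2
  have hle' : U ≤ U.ι ''ᵁ ⊤ := by
    intro x hx
    exact ⟨⟨x, hx⟩, trivial, rfl⟩
  let s' : Γ(F.restrict U.ι, (⊤ : (U : Scheme.{u}).Opens)) := mres F hle s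
  have htop : IsAffineOpen (⊤ : (U : Scheme.{u}).Opens) := isAffineOpen_top _
  let T : Unit → Finset Γ(F.restrict U.ι, (⊤ : (U : Scheme.{u}).Opens)) := fun _ => {s'}
  let K : SubFam (F.restrict U.ι) := gen ⊤ (T () : Set Γ(F.restrict U.ι, ⊤))
  have hK : K.IsLocal := isLocal_gen htop _
  have hcov : ⨆ _ : Unit, (⊤ : (U : Scheme.{u}).Opens) = ⊤ := by simp
  have hq : (K.toModules hK).IsQuasicoherent :=
    isQuasicoherent_toModules (F.restrict U.ι) (fun _ : Unit => ⊤) (fun _ => htop) hcov K T hK
      (fun _ _ _ => rfl)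
  have hft : SheafOfModules.IsFiniteType (R := (U : Scheme.{u}).ringCatSheaf) (K.toModules hK) :=
    isFiniteType_toModules (F.restrict U.ι) (fun _ : Unit => ⊤) (fun _ => htop) hcov K T hK
      (fun _ _ _ => rfl)
  obtain ⟨G', i', e, hm, hq', hft', hcomp⟩ := hext (K.toModules hK) (K.ι hK) hft
  refine ⟨G', i', hm, hq', hft', ?_⟩
  have hs' : s' ∈ K.carrier ⊤ := by
    have := mres_mem_gen (F := F.restrict U.ι) ⊤ (T () : Set Γ(F.restrict U.ι, ⊤)) le_rfl
      (m := s') (by simp [T])
    rwa [mres_self] at this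
  obtain ⟨x, hx⟩ := K.exists_ι_app_eq hK ⊤ s' hs'
  let y : Γ(G'.restrict U.ι, (⊤ : (U : Scheme.{u}).Opens)) := (e.inv.app ⊤).hom x
  have hy : (((Scheme.Modules.restrictFunctor U.ι).map i').app ⊤).hom y = s' := by
    rw [← hcomp]
    have h1 : ((e.hom ≫ K.ι hK).app ⊤).hom y = ((K.ι hK).app ⊤).hom ((e.hom.app ⊤).hom y) := rfl
    rw [h1]
    have h2 : (e.hom.app ⊤).hom y = x := by
      change ((e.inv ≫ e.hom).app ⊤).hom x = x
      rw [Iso.inv_hom_id]
      rfl
    rw [h2, hx]
  refine ⟨mres G' hle' y, ?_⟩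
  have h3 := Groth.Agent.H12.QCohExt.app_mres i' hle' y
  refine h3.symm.trans ?_
  have h4 : (i'.app (U.ι ''ᵁ ⊤)).hom y = s' := hy
  rw [h4]
  change mres F hle' (mres F hle s) = s
  rw [mres_mres, mres_self]

end Groth.Agent.H12.ExtCases
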