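import Mathlib
import Groth.Prelude.Def_Coh

/-!
helper12: restriction of `O`-modules along an open immersion preserves finite limits.
-/

set_option autoImplicit false
universe u

noncomputable section

namespace Groth.Agent.H12.RestrictLim

open CategoryTheory CategoryTheory.Limits Opposite TopologicalSpace AlgebraicGeometry

variable {X Y : Scheme.{u}} (f : X ⟶ Y) [IsOpenImmersion f]

/-- restriction followed by the forgetful functor to abelian presheaves is precomposition with
`f.opensFunctor`. -/
def restrictCompToPresheaf :
    Scheme.Modules.restrictFunctor f ⋙ Scheme.Modules.toPresheaf X ≅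
      Scheme.Modules.toPresheaf Y ⋙ (Functor.whiskeringLeft _ _ Ab).obj f.opensFunctor.op :=
  NatIso.ofComponents (fun M => Iso.refl _) (fun φ => by
    ext U x
    rfl)

theorem preservesLimitsOfShape_toPresheaf (J : Type) [SmallCategory J] [FinCategory J] :
    PreservesLimitsOfShape J (Scheme.Modules.toPresheaf X) := by
  have h0 : PreservesFiniteLimits (Scheme.Modules.toPresheaf X) := inferInstance
  exact h0.preservesFiniteLimits J

theorem reflectsLimitsOfShape_toPresheaf (J : Type) [SmallCategory J] [FinCategory J] :
    ReflectsLimitsOfShape J (Scheme.Modules.toPresheaf X) := by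
  have := preservesLimitsOfShape_toPresheaf (X := X) J
  exact reflectsLimitsOfShape_of_reflectsIsomorphisms

instance preservesFiniteLimits_restrictFunctor :
    PreservesFiniteLimits (Scheme.Modules.restrictFunctor f) := by
  constructor
  intro J _ _
  have h0 := preservesLimitsOfShape_toPresheaf (X := Y) J
  have hr := reflectsLimitsOfShape_toPresheaf (X := X) J
  have hl : HasLimitsOfShape J Ab.{u} := inferInstance
  have hw : PreservesLimitsOfShape J
      ((Functor.whiskeringLeft (Opens X)ᵒᵖ (Opens Y)ᵒᵖ Ab.{u}).obj f.opensFunctor.op) :=
    CategoryTheory.whiskeringLeft_preservesLimitsOfShape J _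
  have h1 : PreservesLimitsOfShape J
      (Scheme.Modules.toPresheaf Y ⋙ (Functor.whiskeringLeft _ _ Ab).obj f.opensFunctor.op) :=
    comp_preservesLimitsOfShape _ _
  have h2 : PreservesLimitsOfShape J
      (Scheme.Modules.restrictFunctor f ⋙ Scheme.Modules.toPresheaf X) :=
    preservesLimitsOfShape_of_natIso (restrictCompToPresheaf f).symm
  exact preservesLimitsOfShape_of_reflects_of_preserves _ (Scheme.Modules.toPresheaf X)

end Groth.Agent.H12.RestrictLim
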