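import Groth.Agent.H12.QCohAbelian
import Groth.Agent.H12.RestrictLim
import Groth.Agent.H8.QcqsPush

/-!
helper12: canonical extension of quasi-coherent modules from a retrocompact open.
-/

set_option autoImplicit false
universe u

noncomputable section

namespace Groth.Agent.H12.QCohExtend

open CategoryTheory CategoryTheory.Limits Opposite TopologicalSpace AlgebraicGeometry
open Groth.Agent.H12.QCohAbelian

/-- canonical extension: a quasi-coherent `G` on a retrocompact open `U` with a map to `F|U`,
`F` quasi-coherent on `X`, extends to a quasi-coherent `H` on `X` with a map to `F`. -/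
theorem exists_qcoh_extension {X : Scheme.{u}} (U : X.Opens) [QuasiCompact U.ι]
    (F : X.Modules) [F.IsQuasicoherent] (G : (U : Scheme.{u}).Modules) [G.IsQuasicoherent]
    (φ : G ⟶ F.restrict U.ι) :
    ∃ (H : X.Modules) (ψ : H ⟶ F) (e : H.restrict U.ι ≅ G), H.IsQuasicoherent ∧
      e.hom ≫ φ = (Scheme.Modules.restrictFunctor U.ι).map ψ := by
  let R := Scheme.Modules.restrictFunctor U.ι
  let P := Scheme.Modules.pushforward U.ι
  let adj : R ⊣ P := Scheme.Modules.restrictAdjunction U.ι
  let a : P.obj G ⟶ P.obj (R.obj F) := P.map φ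
  let b : F ⟶ P.obj (R.obj F) := adj.unit.app F
  have h1 : (P.obj G).IsQuasicoherent := Groth.Agent.H8.isQuasicoherent_pushforward_of_qcqs U.ι G
  have h2 : (R.obj F).IsQuasicoherent := Scheme.Modules.isQuasicoherent_restrictFunctor U.ι F
  have h3 : (P.obj (R.obj F)).IsQuasicoherent :=
    Groth.Agent.H8.isQuasicoherent_pushforward_of_qcqs U.ι (R.obj F)
  have hH : (pullback a b).IsQuasicoherent := isQuasicoherent_pullback a b
  have hpb : IsPullback (R.map (pullback.fst a b)) (R.map (pullback.snd a b)) (R.map a) (R.map b) :=
    (IsPullback.of_hasPullback a b).map R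
  have htri : R.map b ≫ adj.counit.app (R.obj F) = 𝟙 _ := adj.left_triangle_components F
  have hc : IsIso (adj.counit.app (R.obj F)) := inferInstance
  have hRb : IsIso (R.map b) := by
    have : R.map b = inv (adj.counit.app (R.obj F)) := by
      rw [← cancel_mono (adj.counit.app (R.obj F)), htri, IsIso.inv_hom_id]
    rw [this]
    infer_instance
  have hfst : IsIso (R.map (pullback.fst a b)) := hpb.isIso_fst_of_isIso
  have hcG : IsIso (adj.counit.app G) := inferInstance
  refine ⟨pullback a b, pullback.snd a b,
    asIso (R.map (pullback.fst a b)) ≪≫ asIso (adj.counit.app G), hH, ?_⟩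
  show (R.map (pullback.fst a b) ≫ adj.counit.app G) ≫ φ = R.map (pullback.snd a b)
  have hnat : adj.counit.app G ≫ φ = R.map a ≫ adj.counit.app (R.obj F) :=
    (adj.counit.naturality φ).symm
  rw [Category.assoc, hnat, ← Category.assoc, ← R.map_comp, pullback.condition, R.map_comp,
    Category.assoc, htri, Category.comp_id]

end Groth.Agent.H12.QCohExtend
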