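import Groth.Agent.H12.ExtSheaf
import Groth.Agent.H12.QCohExtend

/-!
helper12: extension of quasi-coherent submodules of finite type from a retrocompact open to the
whole scheme, along a well-ordered affine cover.
-/

set_option autoImplicit false
universe u v
noncomputable section
namespace Groth.Agent.H12.ExtMain
open CategoryTheory CategoryTheory.Limits Opposite TopologicalSpace AlgebraicGeometry
open Groth.Agent.H18 Groth.Agent.H12.SubSheaf Groth.Agent.H12.QCohAbelian

/-- a morphism of modules which is bijective on all sections is an isomorphism. -/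
theorem isIso_of_bijective_app {X : Scheme.{u}} {M N : X.Modules} (φ : M ⟶ N)
    (h : ∀ W : X.Opens, Function.Bijective (φ.app W)) : IsIso φ := by
  rw [Scheme.Modules.Hom.isIso_iff_isIso_app]
  intro W
  exact (ConcreteCategory.isIso_iff_bijective (φ.app W)).mpr (h W)

/-- canonical extension with a monomorphism. -/
theorem exists_qcoh_extension_mono {X : Scheme.{u}} (U : X.Opens) [QuasiCompact U.ι]
    (F : X.Modules) [F.IsQuasicoherent] (G : (U : Scheme.{u}).Modules) [G.IsQuasicoherent]
    (φ : G ⟶ F.restrict U.ι) [Mono φ] :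
    ∃ (H : X.Modules) (ψ : H ⟶ F) (e : H.restrict U.ι ≅ G), H.IsQuasicoherent ∧ Mono ψ ∧
      e.hom ≫ φ = (Scheme.Modules.restrictFunctor U.ι).map ψ := by
  let R := Scheme.Modules.restrictFunctor U.ι
  let P := Scheme.Modules.pushforward U.ι
  let adj : R ⊣ P := Scheme.Modules.restrictAdjunction U.ι
  let a : P.obj G ⟶ P.obj (R.obj F) := P.map φ
  let b : F ⟶ P.obj (R.obj F) := adj.unit.app F
  have hPr : P.IsRightAdjoint := adj.isRightAdjoint
  have ha : Mono a := inferInstanceAs (Mono (P.map φ))
  have h1 : (P.obj G).IsQuasicoherent := Groth.Agent.H8.isQuasicoherent_pushforward_of_qcqs U.ι G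
  have h2 : (R.obj F).IsQuasicoherent := Scheme.Modules.isQuasicoherent_restrictFunctor U.ι F
  have h3 : (P.obj (R.obj F)).IsQuasicoherent :=
    Groth.Agent.H8.isQuasicoherent_pushforward_of_qcqs U.ι (R.obj F)
  have hH : (pullback a b).IsQuasicoherent := isQuasicoherent_pullback a b
  have hpb : IsPullback (R.map (pullback.fst a b)) (R.map (pullback.snd a b)) (R.map a) (R.map b) :=
    (IsPullback.of_hasPullback a b).map R
  have htri : R.map b ≫ adj.counit.app (R.obj F) = 𝟙 _ := adj.left_triangle_components F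
  have hc : IsIso (adj.counit.app (R.obj F)) := inferInstance
  have hRb : IsIso (R.map b) := by
    have : R.map b = inv (adj.counit.app (R.obj F)) := by
      rw [← cancel_mono (adj.counit.app (R.obj F)), htri, IsIso.inv_hom_id]
    rw [this]
    infer_instance
  have hfst : IsIso (R.map (pullback.fst a b)) := hpb.isIso_fst_of_isIso
  have hcG : IsIso (adj.counit.app G) := inferInstance
  refine ⟨pullback a b, pullback.snd a b,
    asIso (R.map (pullback.fst a b)) ≪≫ asIso (adj.counit.app G), hH, inferInstance, ?_⟩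
  show (R.map (pullback.fst a b) ≫ adj.counit.app G) ≫ φ = R.map (pullback.snd a b)
  have hnat : adj.counit.app G ≫ φ = R.map a ≫ adj.counit.app (R.obj F) :=
    (adj.counit.naturality φ).symm
  rw [Category.assoc, hnat, ← Category.assoc, ← R.map_comp, pullback.condition, R.map_comp,
    Category.assoc, htri, Category.comp_id]

section Special

variable {X : Scheme.{u}} {L : Type v} [LinearOrder L] [WellFoundedLT L]
  (V : L → X.Opens) (hV : ∀ l, IsAffineOpen (V l)) (hcov : ⨆ l, V l = ⊤)
  (hW : ∀ l, IsCompact ((V l : Set X) ∩ ⋃ m ∈ Set.Iio l, (V m : Set X)))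
  (U : X.Opens) [QuasiCompact U.ι]

include hV hW in
omit [WellFoundedLT L] in
theorem isCompact_Ylt (l : L) : IsCompact (Ylt V U l : Set X) := by
  have h1 : IsCompact ((V l : Set X) ∩ (U : Set X)) := by
    have hc : IsCompact (U.ι ⁻¹' (V l : Set X)) :=
      QuasiCompact.isCompact_preimage (f := U.ι) _ (V l).isOpen (hV l).isCompact
    have := hc.image U.ι.continuous
    rw [Set.image_preimage_eq_inter_range, Scheme.Opens.range_ι] at this
    exact this
  have h2 := hW l
  have heq : (Ylt V U l : Set X) =
      ((V l : Set X) ∩ (U : Set X)) ∪ ((V l : Set X) ∩ ⋃ m ∈ Set.Iio l, (V m : Set X)) := by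
    ext x
    simp only [Ylt, Opens.coe_inf, Opens.coe_sup, Opens.coe_iSup, Set.mem_inter_iff,
      Set.mem_union, Set.mem_iUnion, SetLike.mem_coe, Set.mem_Iio, Subtype.exists, exists_prop]
    tauto
  rw [heq]
  exact h1.union h2

include hV hcov hW in
/-- special case: if `F|U` is itself of finite type, there is a quasi-coherent submodule of finite
type of `F` agreeing with `F` on `U`. -/
theorem exists_ft_subsheaf_of_restrict_ft (F : X.Modules) [F.IsQuasicoherent]
    (hft : SheafOfModules.IsFiniteType (R := (U : Scheme.{u}).ringCatSheaf) (F.restrict U.ι)) :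
    ∃ (G' : X.Modules) (i' : G' ⟶ F), Mono i' ∧ G'.IsQuasicoherent ∧
      SheafOfModules.IsFiniteType (R := X.ringCatSheaf) G' ∧
      IsIso ((Scheme.Modules.restrictFunctor U.ι).map i') := by
  have hU := isCohOn_top_of_isFiniteType_restrict F U hft
  obtain ⟨N, T, hN, hNV, hNU⟩ := exists_coherent_family (F := F) (V := V) (U := U) hV hU
    (isCompact_Ylt V hV hW U)
  have hq : (N.toModules hN).IsQuasicoherent := isQuasicoherent_toModules F V hV hcov N T hN hNV
  refine ⟨N.toModules hN, N.ι hN, inferInstance, hq,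
    isFiniteType_toModules F V hV hcov N T hN hNV, ?_⟩
  exact isIso_of_bijective_app _ (bijective_restrict_ι_app F N hN U hNU)

include hV hcov hW in
/-- EGA I 9.4.7 in the form with a well-ordered affine cover. -/
theorem exists_ft_extension (F : X.Modules) [F.IsQuasicoherent]
    (G : (U : Scheme.{u}).Modules) (i : G ⟶ F.restrict U.ι) [Mono i] [G.IsQuasicoherent]
    (hG : SheafOfModules.IsFiniteType (R := (U : Scheme.{u}).ringCatSheaf) G) :
    ∃ (G' : X.Modules) (i' : G' ⟶ F) (e : G'.restrict U.ι ≅ G), Mono i' ∧ G'.IsQuasicoherent ∧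
      SheafOfModules.IsFiniteType (R := X.ringCatSheaf) G' ∧
      e.hom ≫ i = (Scheme.Modules.restrictFunctor U.ι).map i' := by
  obtain ⟨F', j, e₀, hF', hj, hcomp⟩ := exists_qcoh_extension_mono U F G i
  have hft : SheafOfModules.IsFiniteType (R := (U : Scheme.{u}).ringCatSheaf)
      (F'.restrict U.ι) := Groth.Agent.H12.CohOpen.isFiniteType_of_iso e₀ hG
  obtain ⟨G', i', hi', hq, hfin, hiso⟩ :=
    exists_ft_subsheaf_of_restrict_ft V hV hcov hW U F' hft
  refine ⟨G', i' ≫ j, asIso ((Scheme.Modules.restrictFunctor U.ι).map i') ≪≫ e₀,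
    mono_comp i' j, hq, hfin, ?_⟩
  show ((Scheme.Modules.restrictFunctor U.ι).map i' ≫ e₀.hom) ≫ i = _
  rw [Category.assoc, hcomp, ← Functor.map_comp]

end Special

end Groth.Agent.H12.ExtMain
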