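import Groth.Agent.H12.ExtAffine

/-!
helper12: transfinite construction of a coherent subfamily agreeing with a module which is
coherent on an open `U` (EGA I 9.4.7, family level).
-/

set_option autoImplicit false
universe u v

noncomputable section

namespace Groth.Agent.H12.SubSheaf

open CategoryTheory CategoryTheory.Limits Opposite TopologicalSpace AlgebraicGeometry
open Groth.Agent.H18

variable {X : Scheme.{u}} {F : X.Modules} {L : Type v} [LinearOrder L]
  (V : L → X.Opens) (U : X.Opens)

/-- the intersection of the families generated over the earlier members of the cover. -/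
def Nlt (T : ∀ l, Finset Γ(F, V l)) (l : L) : SubFam F :=
  SubFam.iInf fun m : {m : L // m < l} => gen (V m.1) (T m.1 : Set Γ(F, V m.1))

/-- the part of `V l` covered by `U` and the earlier members. -/
def Ylt (l : L) : X.Opens := V l ⊓ (U ⊔ ⨆ m : {m : L // m < l}, V m.1)

theorem Ylt_le (l : L) : Ylt V U l ≤ V l := inf_le_left

theorem mem_Nlt_iff (T : ∀ l, Finset Γ(F, V l)) (l : L) (W : X.Opens) (t : Γ(F, W)) :
    t ∈ (Nlt V T l).carrier W ↔
      ∀ m : L, m < l → t ∈ (gen (V m) (T m : Set Γ(F, V m))).carrier W := by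
  rw [Nlt, SubFam.mem_iInf]
  exact ⟨fun h m hm => h ⟨m, hm⟩, fun h m => h m.1 m.2⟩

theorem Nlt_congr (T T' : ∀ l, Finset Γ(F, V l)) (l : L) (h : ∀ m, m < l → T m = T' m) :
    Nlt V T l = Nlt V T' l := by
  apply SubFam.ext
  intro W
  ext t
  rw [mem_Nlt_iff, mem_Nlt_iff]
  constructor
  · intro ht m hm
    rw [← h m hm]
    exact ht m hm
  · intro ht m hm
    rw [h m hm]
    exact ht m hm

/-- the property required of the generators chosen at stage `l`. -/
def StageProp (T : ∀ l, Finset Γ(F, V l)) (l : L) (T₀ : Finset Γ(F, V l)) : Prop :=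
  (∀ τ ∈ T₀, mres F (Ylt_le V U l) τ ∈ (Nlt V T l).carrier (Ylt V U l)) ∧
    ∀ W : X.Opens, W ≤ Ylt V U l →
      (gen (V l) (T₀ : Set Γ(F, V l))).carrier W = (Nlt V T l).carrier W

theorem StageProp.congr {T T' : ∀ l, Finset Γ(F, V l)} {l : L} {T₀ : Finset Γ(F, V l)}
    (h : ∀ m, m < l → T m = T' m) (hP : StageProp V U T l T₀) : StageProp V U T' l T₀ := by
  unfold StageProp at hP ⊢
  rw [← Nlt_congr V T T' l h]
  exact hP

/-- stage `l` is good. -/
def Good (T : ∀ l, Finset Γ(F, V l)) (l : L) : Prop := StageProp V U T l (T l)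

/-- the invariant at stage `l`. -/
def Inv (T : ∀ l, Finset Γ(F, V l)) (l : L) : Prop :=
  (∀ m : L, m < l → ∀ W : X.Opens, W ≤ V m →
      (Nlt V T l).carrier W = (gen (V m) (T m : Set Γ(F, V m))).carrier W) ∧
    ∀ W : X.Opens, W ≤ U → (Nlt V T l).carrier W = ⊤

variable {V U}

/-- comparison of the families generated at two different stages. -/
theorem gen_le_gen_of_good (T : ∀ l, Finset Γ(F, V l)) {m m' : L} (hne : m ≠ m')
    (hm : Good V U T m) (hm' : Good V U T m') (hI : m < m' → Inv V U T m')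
    {W : X.Opens} (hW : W ≤ V m) :
    (gen (V m) (T m : Set Γ(F, V m))).carrier W ≤
      (gen (V m') (T m' : Set Γ(F, V m'))).carrier W := by
  intro t ht
  rw [mem_gen_iff_inf]
  rcases lt_or_gt_of_ne hne with hlt | hgt
  · -- `m < m'`
    have hWY : W ⊓ V m' ≤ Ylt V U m' := by
      refine le_inf inf_le_right (le_sup_of_le_right ?_)
      exact le_trans (inf_le_left.trans hW) (le_iSup (fun k : {k : L // k < m'} => V k.1) ⟨m, hlt⟩)
    rw [hm'.2 _ hWY, (hI hlt).1 m hlt _ (inf_le_left.trans hW)]
    exact (gen (V m) _).res _ ht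
  · -- `m' < m`
    have hWY : W ⊓ V m' ≤ Ylt V U m := by
      refine le_inf (inf_le_left.trans hW) (le_sup_of_le_right ?_)
      exact le_trans inf_le_right (le_iSup (fun k : {k : L // k < m} => V k.1) ⟨m', hgt⟩)
    have h1 : mres F (inf_le_left : W ⊓ V m' ≤ W) t ∈
        (gen (V m) (T m : Set Γ(F, V m))).carrier (W ⊓ V m') := (gen (V m) _).res _ ht
    rw [hm.2 _ hWY, mem_Nlt_iff] at h1
    exact h1 m' hgt

/-- the invariant follows from the earlier stages. -/
theorem inv_of_good (T : ∀ l, Finset Γ(F, V l)) (l : L)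
    (h : ∀ m, m < l → Good V U T m ∧ Inv V U T m) : Inv V U T l := by
  constructor
  · intro m hm W hW
    apply le_antisymm
    · intro t ht
      exact (mem_Nlt_iff V T l W t).mp ht m hm
    · intro t ht
      rw [mem_Nlt_iff]
      intro m' hm'
      by_cases hmm' : m = m'
      · subst hmm'
        exact ht
      · exact gen_le_gen_of_good T hmm' (h m hm).1 (h m' hm').1 (fun _ => (h m' hm').2) hW ht
  · intro W hW
    rw [eq_top_iff]
    intro t _
    rw [mem_Nlt_iff]
    intro m hm
    rw [mem_gen_iff_inf]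
    have hWY : W ⊓ V m ≤ Ylt V U m := le_inf inf_le_right (le_sup_of_le_left (inf_le_left.trans hW))
    rw [(h m hm).1.2 _ hWY, (h m hm).2.2 _ (inf_le_left.trans hW)]
    trivial

section Exists

variable [F.IsQuasicoherent] (hV : ∀ l, IsAffineOpen (V l))

include hV

theorem isLocal_Nlt (T : ∀ l, Finset Γ(F, V l)) (l : L) : (Nlt V T l).IsLocal :=
  SubFam.isLocal_iInf _ fun m => isLocal_gen (hV m.1) _

/-- existence of suitable generators at stage `l`, given the invariant. -/
theorem exists_stageProp (hU : (SubFam.top F).IsCohOn U)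
    (hYc : ∀ l, IsCompact (Ylt V U l : Set X)) (T : ∀ l, Finset Γ(F, V l)) (l : L)
    (hI : Inv V U T l) : ∃ T₀ : Finset Γ(F, V l), StageProp V U T l T₀ := by
  have hcoh : (Nlt V T l).IsCohOn (Ylt V U l) := by
    apply SubFam.IsCohOn.mono_left
    intro y hy
    have hy2 : y ∈ U ⊔ ⨆ m : {m : L // m < l}, V m.1 := hy.2
    rcases (Opens.mem_sup.mp hy2) with hyU | hyV
    · refine ⟨Ylt V U l ⊓ U, ⟨hy, hyU⟩, inf_le_left, ?_⟩
      refine (hU.mono (inf_le_right : Ylt V U l ⊓ U ≤ U)).congr ?_
      intro W hW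
      rw [hI.2 W (hW.trans inf_le_right)]
      rfl
    · obtain ⟨m, hym⟩ := Opens.mem_iSup.mp hyV
      refine ⟨Ylt V U l ⊓ V m.1, ⟨hy, hym⟩, inf_le_left, ?_⟩
      refine ((isCohOn_gen (hV m.1) (T m.1)).mono
        (inf_le_right : Ylt V U l ⊓ V m.1 ≤ V m.1)).congr ?_
      intro W hW
      exact (hI.1 m.1 m.2 W (hW.trans inf_le_right)).symm
  exact exists_fg_extension (hV l) (isLocal_Nlt hV T l) (Ylt_le V U l) (hYc l) hcoh

end Exists

section Fix

variable (V U)

/-- extend a partial choice of generators by the empty set. -/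
def extT (l : L) (Tp : ∀ m, m < l → Finset Γ(F, V m)) : ∀ m, Finset Γ(F, V m) :=
  fun m => if h : m < l then Tp m h else ∅

open Classical in
/-- the choice made at stage `l`. -/
def Tsel (l : L) (Tp : ∀ m, m < l → Finset Γ(F, V m)) : Finset Γ(F, V l) :=
  if h : ∃ T₀ : Finset Γ(F, V l), StageProp V U (extT V l Tp) l T₀ then h.choose else ∅

variable [WellFoundedLT L]

/-- the generators chosen by transfinite recursion. -/
def Tfix : ∀ l, Finset Γ(F, V l) := WellFoundedLT.fix (Tsel (F := F) V U)

theorem Tfix_eq (l : L) : Tfix (F := F) V U l = Tsel V U l (fun m _ => Tfix V U m) :=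
  WellFoundedLT.fix_eq _ l

theorem extT_Tfix (l m : L) (hm : m < l) :
    extT V l (fun m _ => Tfix (F := F) V U m) m = Tfix V U m := by
  unfold extT
  rw [dif_pos hm]

theorem good_Tfix_of_exists (l : L)
    (h : ∃ T₀ : Finset Γ(F, V l), StageProp V U (Tfix V U) l T₀) :
    Good V U (Tfix (F := F) V U) l := by
  have h' : ∃ T₀ : Finset Γ(F, V l),
      StageProp V U (extT V l (fun m _ => Tfix (F := F) V U m)) l T₀ := by
    obtain ⟨T₀, hT₀⟩ := h
    exact ⟨T₀, hT₀.congr V U (fun m hm => (extT_Tfix V U l m hm).symm)⟩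
  have hsel : Tfix (F := F) V U l = h'.choose := by
    rw [Tfix_eq, Tsel, dif_pos h']
  unfold Good
  rw [hsel]
  exact h'.choose_spec.congr V U (fun m hm => extT_Tfix V U l m hm)

end Fix

section Main

variable [WellFoundedLT L] [F.IsQuasicoherent] (hV : ∀ l, IsAffineOpen (V l))

include hV

theorem good_inv_Tfix (hU : (SubFam.top F).IsCohOn U)
    (hYc : ∀ l, IsCompact (Ylt V U l : Set X)) (l : L) :
    Good V U (Tfix (F := F) V U) l ∧ Inv V U (Tfix (F := F) V U) l := by
  induction l using WellFoundedLT.induction with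
  | ind l IH =>
    have hI : Inv V U (Tfix (F := F) V U) l := inv_of_good _ l IH
    exact ⟨good_Tfix_of_exists V U l (exists_stageProp hV hU hYc _ l hI), hI⟩

/-- **family-level extension theorem**: if `F` is coherent on `U`, there is a local family
agreeing with `F` on `U` and generated over each `V l` by finitely many sections. -/
theorem exists_coherent_family (hU : (SubFam.top F).IsCohOn U)
    (hYc : ∀ l, IsCompact (Ylt V U l : Set X)) :
    ∃ (N : SubFam F) (T : ∀ l, Finset Γ(F, V l)), N.IsLocal ∧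
      (∀ (l : L) (W : X.Opens), W ≤ V l →
        N.carrier W = (gen (V l) (T l : Set Γ(F, V l))).carrier W) ∧
      ∀ W : X.Opens, W ≤ U → N.carrier W = ⊤ := by
  have hGI := good_inv_Tfix (F := F) hV hU hYc
  refine ⟨SubFam.iInf fun m : L => gen (V m) (Tfix (F := F) V U m : Set Γ(F, V m)), Tfix V U,
    SubFam.isLocal_iInf _ fun m => isLocal_gen (hV m) _, ?_, ?_⟩
  · intro l W hW
    apply le_antisymm
    · intro t ht
      exact (SubFam.mem_iInf _ W t).mp ht l
    · intro t ht
      rw [SubFam.mem_iInf]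
      intro m'
      by_cases hmm' : l = m'
      · subst hmm'
        exact ht
      · exact gen_le_gen_of_good _ hmm' (hGI l).1 (hGI m').1 (fun _ => (hGI m').2) hW ht
  · intro W hW
    rw [eq_top_iff]
    intro t _
    rw [SubFam.mem_iInf]
    intro m
    rw [mem_gen_iff_inf]
    have hWY : W ⊓ V m ≤ Ylt V U m := le_inf inf_le_right (le_sup_of_le_left (inf_le_left.trans hW))
    rw [(hGI m).1.2 _ hWY, (hGI m).2.2 _ (inf_le_left.trans hW)]
    trivial

end Main

end Groth.Agent.H12.SubSheaf
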