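import Groth.Agent.H12.ExtRec
import Groth.Agent.H12.CohOpen
set_option autoImplicit false
universe u v
noncomputable section
namespace Groth.Agent.H12.SubSheaf
open CategoryTheory CategoryTheory.Limits Opposite TopologicalSpace AlgebraicGeometry
open Groth.Agent.H18
variable {X : Scheme.{u}}

/-- over an affine open, a quasi-coherent module is generated by any generating set of its
sections. -/
theorem gen_eq_top_of_span_eq_top (F : X.Modules) [F.IsQuasicoherent] {W' : X.Opens}
    (hW' : IsAffineOpen W') (T : Set Γ(F, W')) (hT : Submodule.span Γ(X, W') T = ⊤)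
    {W'' : X.Opens} (hW'' : W'' ≤ W') : (gen W' T).carrier W'' = ⊤ := by
  rw [eq_top_iff]
  intro t _ f hf
  obtain ⟨n, x, hx⟩ := exists_pow_smul_eq_res_of_isQuasicoherent F hW' f (mres F hf t)
  have hxT : x ∈ Submodule.span Γ(X, W') T := by rw [hT]; trivial
  have h1 := mres_mem_resSpan_of_mem_span F (X.basicOpen_le f) T hxT
  rw [← hx] at h1
  have hu : IsUnit (X.presheaf.map (homOfLE (X.basicOpen_le f)).op f) :=
    RingedSpace.isUnit_res_basicOpen _ f
  obtain ⟨v, hv⟩ := hu.pow n
  rw [← hv] at h1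
  have h3 := Submodule.smul_mem _ (↑v⁻¹ : Γ(X, X.basicOpen f)) h1
  rwa [smul_smul, Units.inv_mul, one_smul] at h3

/-- a quasi-coherent module whose restriction to `U` is of finite type is coherent on `U` as a
family. -/
theorem isCohOn_top_of_isFiniteType_restrict (F : X.Modules) [F.IsQuasicoherent] (U : X.Opens)
    (hft : SheafOfModules.IsFiniteType (R := (U : Scheme.{u}).ringCatSheaf) (F.restrict U.ι)) :
    (SubFam.top F).IsCohOn U := by
  intro y hy
  have := hft
  obtain ⟨W, hW, hyW, -⟩ := exists_isAffineOpen_mem_and_subset (X := (U : Scheme.{u}))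
    (x := (⟨y, hy⟩ : U)) (U := ⊤) trivial
  have hfin : Module.Finite Γ((U : Scheme.{u}), W) Γ(F.restrict U.ι, W) :=
    Groth.Agent.H44.finite_sections_of_isFiniteType (F.restrict U.ι) hW
  have hW' : IsAffineOpen (U.ι ''ᵁ W) := hW.image_of_isOpenImmersion U.ι
  have hfin' : Module.Finite Γ(X, U.ι ''ᵁ W) Γ(F, U.ι ''ᵁ W) := by
    let σ : Γ((U : Scheme.{u}), W) →+* Γ(X, U.ι ''ᵁ W) := (U.ι.appIso W).inv.hom
    have hσ : RingHomSurjective σ := ⟨fun r => ⟨(U.ι.appIso W).hom.hom r, by
      change ((U.ι.appIso W).hom ≫ (U.ι.appIso W).inv).hom r = r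
      rw [Iso.hom_inv_id]
      rfl⟩⟩
    let φ : Γ(F.restrict U.ι, W) →ₛₗ[σ] Γ(F, U.ι ''ᵁ W) :=
      { toFun := fun x => x
        map_add' := fun x y => rfl
        map_smul' := fun r x => rfl }
    exact Module.Finite.of_surjective φ (fun y => ⟨y, rfl⟩)
  obtain ⟨T, hT⟩ := hfin'.fg_top
  refine ⟨U.ι ''ᵁ W, T, hW', ⟨⟨y, hy⟩, hyW, rfl⟩, ?_, ?_⟩
  · rintro _ ⟨x, -, rfl⟩
    exact x.2
  · intro W'' hW''
    rw [gen_eq_top_of_span_eq_top F hW' (T : Set Γ(F, U.ι ''ᵁ W)) hT hW'']
    rfl

section Convert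

variable (F : X.Modules) [F.IsQuasicoherent] {L : Type v} (V : L → X.Opens)
  (hV : ∀ l, IsAffineOpen (V l)) (hcov : ⨆ l, V l = ⊤)
  (N : SubFam F) (T : ∀ l, Finset Γ(F, V l)) (hN : N.IsLocal)
  (hNV : ∀ (l : L) (W : X.Opens), W ≤ V l →
    N.carrier W = (gen (V l) (T l : Set Γ(F, V l))).carrier W)

/-- the index type of the cover, in the universe of the scheme. -/
abbrev CovIdx : Type u := {W : X.Opens // ∃ l, W = V l}

include hcov in
omit [F.IsQuasicoherent] in
theorem isOpenCover_covIdx : IsOpenCover (fun i : CovIdx V => i.1) := by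
  rw [IsOpenCover, eq_top_iff, ← hcov]
  exact iSup_le fun l => le_iSup (fun i : CovIdx V => i.1) ⟨V l, l, rfl⟩

include hV hNV in
theorem carrier_eq_span (l : L) :
    N.carrier (V l) = Submodule.span Γ(X, V l) (T l : Set Γ(F, V l)) := by
  rw [hNV l (V l) le_rfl, gen_carrier_eq_resSpan (hV l) _ (hV l) le_rfl, resSpan]
  congr 1
  have : (fun s : Γ(F, V l) => (mres F (le_rfl : V l ≤ V l) s : Γ(F, V l))) = id := by
    funext s
    exact mres_self F _ s
  rw [this, Set.image_id]

include hV hcov hNV in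
theorem isQuasicoherent_toModules : (N.toModules hN).IsQuasicoherent := by
  refine isQuasicoherent_of_localizes (N.toModules hN) (fun i : CovIdx V => i.1)
    (isOpenCover_covIdx V hcov) ?_ ?_ ?_
  · rintro ⟨W, l, rfl⟩
    exact hV l
  · rintro ⟨W, l, rfl⟩ r y
    have hy : ((N.ι hN).app (X.basicOpen r)).hom y ∈ N.carrier (X.basicOpen r) :=
      N.ι_app_mem hN _ y
    rw [hNV l _ (X.basicOpen_le r),
      gen_carrier_eq_resSpan (hV l) _ ((hV l).basicOpen r) (X.basicOpen_le r),
      ← resSpan_span] at hy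
    obtain ⟨n, m, hm, hnm⟩ := exists_pow_smul_eq_mres (hV l)
      (Submodule.span Γ(X, V l) (T l : Set Γ(F, V l))) r hy
    rw [← carrier_eq_span F V hV N T hNV l] at hm
    obtain ⟨x, hx⟩ := N.exists_ι_app_eq hN (V l) m hm
    refine ⟨n, x, ?_⟩
    apply N.ι_app_injective hN
    have h1 := Scheme.Modules.Hom.app_smul (N.ι hN)
      ((X.presheaf.map (homOfLE (X.basicOpen_le r)).op r) ^ n) y
    have h2 := Groth.Agent.H12.QCohExt.app_mres (N.ι hN) (X.basicOpen_le r) x
    exact h1.trans (hnm.trans ((congrArg (mres F (X.basicOpen_le r)) hx).symm.trans h2))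
  · rintro ⟨W, l, rfl⟩ r x hx
    have h2 := Groth.Agent.H12.QCohExt.app_mres (N.ι hN) (X.basicOpen_le r) x
    have h3 : mres F (X.basicOpen_le r) (((N.ι hN).app (V l)).hom x) = 0 := by
      refine h2.trans ?_
      rw [hx, map_zero]
    obtain ⟨n, hn⟩ := exists_pow_smul_eq_zero_of_isQuasicoherent F (hV l) r _ h3
    refine ⟨n, ?_⟩
    apply N.ι_app_injective hN
    have h1 := Scheme.Modules.Hom.app_smul (N.ι hN) (r ^ n) x
    exact h1.trans (hn.trans (map_zero _).symm)

include hV hcov hNV in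
theorem isFiniteType_toModules [(N.toModules hN).IsQuasicoherent] :
    SheafOfModules.IsFiniteType (R := X.ringCatSheaf) (N.toModules hN) := by
  refine Groth.Agent.H71.QCoh.isFiniteType_of_finite_sections_cover (N.toModules hN)
    (fun i : CovIdx V => i.1) (isOpenCover_covIdx V hcov) ?_ ?_
  · rintro ⟨W, l, rfl⟩
    exact hV l
  · rintro ⟨W, l, rfl⟩
    let φl : Γ(N.toModules hN, V l) →ₗ[Γ(X, V l)] Γ(F, V l) :=
      { toFun := fun x => ((N.ι hN).app (V l)).hom x
        map_add' := fun x y => map_add _ x y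
        map_smul' := fun r x => Scheme.Modules.Hom.app_smul (N.ι hN) r x }
    have hinj : Function.Injective φl := N.ι_app_injective hN (V l)
    have hrange : LinearMap.range φl = Submodule.span Γ(X, V l) (T l : Set Γ(F, V l)) := by
      rw [← carrier_eq_span F V hV N T hNV l]
      ext s
      constructor
      · rintro ⟨x, rfl⟩
        exact N.ι_app_mem hN _ x
      · intro hs
        obtain ⟨x, hx⟩ := N.exists_ι_app_eq hN (V l) s hs
        exact ⟨x, hx⟩
    have hfin : Module.Finite Γ(X, V l) (LinearMap.range φl) := by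
      rw [hrange]
      exact Module.Finite.span_of_finite _ (Finset.finite_toSet (T l))
    exact Module.Finite.equiv (LinearEquiv.ofInjective φl hinj).symm

omit [F.IsQuasicoherent] in
theorem bijective_restrict_ι_app (U : X.Opens)
    (hNU : ∀ W : X.Opens, W ≤ U → N.carrier W = ⊤) (W : (U : Scheme.{u}).Opens) :
    Function.Bijective (((Scheme.Modules.restrictFunctor U.ι).map (N.ι hN)).app W) := by
  have hle : U.ι ''ᵁ W ≤ U := by
    rintro _ ⟨x, -, rfl⟩
    exact x.2
  constructor
  · exact N.ι_app_injective hN (U.ι ''ᵁ W)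
  · intro s
    have hs : (s : Γ(F, U.ι ''ᵁ W)) ∈ N.carrier (U.ι ''ᵁ W) := by
      rw [hNU _ hle]; trivial
    exact N.exists_ι_app_eq hN (U.ι ''ᵁ W) s hs

end Convert

end Groth.Agent.H12.SubSheaf
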