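import Mathlib
set_option autoImplicit false
universe u
namespace Groth.Agent.H12.FibreAvoid
open CategoryTheory

/-- prime avoidance along the fibre of an integral ring map: if finitely many elements have no
common zero on the fibre over `p`, some integer polynomial without constant term in them is
nowhere zero on that fibre. -/
theorem exists_poly_notMem {R C : Type u} [CommRing R] [CommRing C] [Algebra R C]
    [Algebra.IsIntegral R C] (p : Ideal R) [p.IsPrime] {m : ℕ} (β : Fin m → C)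
    (h : ∀ q : Ideal C, q.IsPrime → q.comap (algebraMap R C) = p → ∃ k, β k ∉ q) :
    ∃ P : MvPolynomial (Fin m) ℤ, P ∈ Ideal.span (Set.range (MvPolynomial.X (R := ℤ) (σ := Fin m))) ∧
      ∀ q : Ideal C, q.IsPrime → q.comap (algebraMap R C) = p → MvPolynomial.aeval β P ∉ q := by
  classical
  let C₂ : Subalgebra R C := Algebra.adjoin R (Set.range β)
  have hfg : C₂.toSubmodule.FG :=
    _root_.fg_adjoin_of_finite (Set.finite_range β) (fun x _ => Algebra.IsIntegral.isIntegral x)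
  have hfin : Module.Finite R C₂ := Module.Finite.iff_fg.mpr hfg
  let β₂ : Fin m → C₂ := fun k => ⟨β k, Algebra.subset_adjoin ⟨k, rfl⟩⟩
  let ψ : MvPolynomial (Fin m) ℤ →+* C₂ := (MvPolynomial.aeval β₂ : MvPolynomial (Fin m) ℤ →ₐ[ℤ] C₂)
  have hψ : ∀ P, ((ψ P : C₂) : C) = MvPolynomial.aeval β P := by
    intro P
    have h1 : (C₂.val.toRingHom.comp ψ) = (MvPolynomial.aeval β : MvPolynomial (Fin m) ℤ →ₐ[ℤ] C) := by
      apply MvPolynomial.ringHom_ext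
      · intro r; simp
      · intro k; simp [ψ, β₂]
    exact congrArg (fun f => f P) h1
  have hF : (PrimeSpectrum.comap (algebraMap R C₂) ⁻¹' {⟨p, inferInstance⟩}).Finite :=
    Algebra.QuasiFinite.finite_comap_preimage_singleton _
  let S : Finset (PrimeSpectrum C₂) := hF.toFinset
  have hint : Algebra.IsIntegral C₂ C := Algebra.IsIntegral.tower_top (R := R)
  -- the maximal ideal of the origin is not contained in any of the contracted primes
  have hnot : ∀ q₂ ∈ S, ¬ (Ideal.span (Set.range (MvPolynomial.X (R := ℤ) (σ := Fin m))) ≤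
      q₂.asIdeal.comap ψ) := by
    intro q₂ hq₂ hle
    have hq₂' : q₂.asIdeal.comap (algebraMap R C₂) = p := by
      have := (hF.mem_toFinset).1 hq₂
      exact congrArg PrimeSpectrum.asIdeal this
    have hker : (⊥ : Ideal C).comap (algebraMap C₂ C) ≤ q₂.asIdeal := by
      intro x hx
      have hx0 : (algebraMap C₂ C) x = 0 := hx
      have : x = 0 := Subtype.ext hx0
      rw [this]; exact q₂.asIdeal.zero_mem
    obtain ⟨q, -, hqp, hqc⟩ := Ideal.exists_ideal_over_prime_of_isIntegral q₂.asIdeal ⊥ hker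
    have hqR : q.comap (algebraMap R C) = p := by
      rw [← hq₂', ← hqc, Ideal.comap_comap]
      rfl
    obtain ⟨k, hk⟩ := h q hqp hqR
    apply hk
    have h1 : (MvPolynomial.X k : MvPolynomial (Fin m) ℤ) ∈ q₂.asIdeal.comap ψ :=
      hle (Ideal.subset_span ⟨k, rfl⟩)
    have h2 : ψ (MvPolynomial.X k) ∈ q₂.asIdeal := h1
    have h3 : ψ (MvPolynomial.X k) = β₂ k := by simp [ψ]
    rw [h3, ← hqc] at h2
    exact h2
  have hav : ¬ ((Ideal.span (Set.range (MvPolynomial.X (R := ℤ) (σ := Fin m))) : Set _) ⊆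
      ⋃ q₂ ∈ (S : Set (PrimeSpectrum C₂)),
        ((q₂.asIdeal.comap ψ : Ideal (MvPolynomial (Fin m) ℤ)) : Set (MvPolynomial (Fin m) ℤ))) := by
    intro hsub
    by_cases hS : S.Nonempty
    · obtain ⟨a, ha⟩ := hS
      obtain ⟨q₂, hq₂, hle⟩ := (Ideal.subset_union_prime (f := fun q₂ : PrimeSpectrum C₂ =>
        q₂.asIdeal.comap ψ) a a (fun i _ _ _ => Ideal.IsPrime.comap ψ)).1 hsub
      exact hnot q₂ hq₂ hle
    · rw [Finset.not_nonempty_iff_eq_empty] at hS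
      rw [hS] at hsub
      simp only [Finset.coe_empty, Set.mem_empty_iff_false, Set.iUnion_of_empty,
        Set.iUnion_empty, Set.subset_empty_iff] at hsub
      have : (0 : MvPolynomial (Fin m) ℤ) ∈
          (Ideal.span (Set.range (MvPolynomial.X (R := ℤ) (σ := Fin m))) : Set _) :=
        Ideal.zero_mem _
      rw [hsub] at this
      exact this
  rw [Set.not_subset] at hav
  obtain ⟨P, hPm, hPn⟩ := hav
  refine ⟨P, hPm, fun q hq hqp => ?_⟩
  intro hmem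
  apply hPn
  let q₂ : PrimeSpectrum C₂ := ⟨q.comap (algebraMap C₂ C), Ideal.IsPrime.comap _⟩
  have hq₂S : q₂ ∈ S := by
    rw [hF.mem_toFinset]
    apply PrimeSpectrum.ext
    show (q.comap (algebraMap C₂ C)).comap (algebraMap R C₂) = p
    rw [Ideal.comap_comap, ← hqp]
    rfl
  refine Set.mem_iUnion₂.mpr ⟨q₂, hq₂S, ?_⟩
  show ψ P ∈ q.comap (algebraMap C₂ C)
  show ((ψ P : C₂) : C) ∈ q
  rw [hψ]
  exact hmem

/-- the fibre of `Spec C → Spec R` over a point is quasi-compact. -/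
theorem isCompact_fibre {R C : Type u} [CommRing R] [CommRing C] [Algebra R C]
    (p : PrimeSpectrum R) : IsCompact (PrimeSpectrum.comap (algebraMap R C) ⁻¹' {p}) := by
  rw [isCompact_iff_compactSpace]
  exact (PrimeSpectrum.preimageHomeomorphFiber R C p).symm.compactSpace

/-- a principal open around the image of a fibre of an integral map, inside a given open. -/
theorem exists_basicOpen_fibre {R C B : Type u} [CommRing R] [CommRing C] [CommRing B]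
    (φ : R →+* C) (hφ : φ.IsIntegral) (ρ : B →+* C) (p : Ideal R) [p.IsPrime]
    (O : Set (PrimeSpectrum B)) (hO : IsOpen O)
    (hT : ∀ q : PrimeSpectrum C, q.asIdeal.comap φ = p → PrimeSpectrum.comap ρ q ∈ O) :
    ∃ b : B, (∀ r : PrimeSpectrum B, b ∉ r.asIdeal → r ∈ O) ∧
      ∀ q : Ideal C, q.IsPrime → q.comap φ = p → ρ b ∉ q := by
  classical
  let _ : Algebra R C := φ.toAlgebra
  have hint : Algebra.IsIntegral R C := ⟨hφ⟩
  let P₀ : PrimeSpectrum R := ⟨p, inferInstance⟩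
  let ι := {b : B // ∀ r : PrimeSpectrum B, b ∉ r.asIdeal → r ∈ O}
  have hcov : (PrimeSpectrum.comap (algebraMap R C) ⁻¹' {P₀}) ⊆
      ⋃ b : ι, PrimeSpectrum.comap ρ ⁻¹' (PrimeSpectrum.basicOpen b.1 : Set (PrimeSpectrum B)) := by
    intro q hq
    have hq' : q.asIdeal.comap φ = p := congrArg PrimeSpectrum.asIdeal hq
    have hmem := hT q hq'
    obtain ⟨_, ⟨b, rfl⟩, hb1, hb2⟩ :=
      PrimeSpectrum.isTopologicalBasis_basic_opens.exists_subset_of_mem_open hmem hO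
    refine Set.mem_iUnion.mpr ⟨⟨b, fun r hr => hb2 hr⟩, hb1⟩
  obtain ⟨t, ht⟩ := (isCompact_fibre (C := C) P₀).elim_finite_subcover
    (fun b : ι => PrimeSpectrum.comap ρ ⁻¹' (PrimeSpectrum.basicOpen b.1 : Set (PrimeSpectrum B)))
    (fun b => (PrimeSpectrum.basicOpen b.1).isOpen.preimage (PrimeSpectrum.continuous_comap ρ)) hcov
  let e := t.equivFin
  let bs : Fin t.card → B := fun k => (e.symm k).1.1
  obtain ⟨P, hPm, hPn⟩ := exists_poly_notMem (R := R) (C := C) p (fun k => ρ (bs k)) (by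
    intro q hq hqp
    have hqmem : (⟨q, hq⟩ : PrimeSpectrum C) ∈ PrimeSpectrum.comap (algebraMap R C) ⁻¹' {P₀} :=
      PrimeSpectrum.ext hqp
    have := ht hqmem
    simp only [Set.mem_iUnion, exists_prop] at this
    obtain ⟨b, hbt, hb⟩ := this
    refine ⟨e ⟨b, hbt⟩, ?_⟩
    show ρ (e.symm (e ⟨b, hbt⟩)).1.1 ∉ q
    rw [Equiv.symm_apply_apply]
    exact hb)
  have hρ : ∀ Q : MvPolynomial (Fin t.card) ℤ, ρ (MvPolynomial.aeval bs Q) =
      MvPolynomial.aeval (fun k => ρ (bs k)) Q := by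
    intro Q
    have h1 : (ρ.comp (MvPolynomial.aeval bs : MvPolynomial (Fin t.card) ℤ →ₐ[ℤ] B).toRingHom) =
        (MvPolynomial.aeval (fun k => ρ (bs k)) : MvPolynomial (Fin t.card) ℤ →ₐ[ℤ] C).toRingHom := by
      apply MvPolynomial.ringHom_ext
      · intro r; simp
      · intro k; simp
    exact congrArg (fun f => f Q) h1
  refine ⟨MvPolynomial.aeval bs P, ?_, ?_⟩
  · intro r hr
    by_contra hrO
    apply hr
    have hle : Ideal.span (Set.range (MvPolynomial.X (R := ℤ) (σ := Fin t.card))) ≤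
        r.asIdeal.comap (MvPolynomial.aeval bs : MvPolynomial (Fin t.card) ℤ →ₐ[ℤ] B).toRingHom := by
      rw [Ideal.span_le]
      rintro _ ⟨k, rfl⟩
      show (MvPolynomial.aeval bs : MvPolynomial (Fin t.card) ℤ →ₐ[ℤ] B) (MvPolynomial.X k) ∈ r.asIdeal
      rw [MvPolynomial.aeval_X]
      by_contra hk
      exact hrO ((e.symm k).1.2 r hk)
    exact hle hPm
  · intro q hq hqp
    rw [hρ]
    exact hPn q hq hqp

open AlgebraicGeometry

/-- shrink a principal open of the base around `y` so that its preimage lies in a given open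
containing the fibre. -/
theorem exists_basicOpen_preimage_le {Z Y : Scheme.{u}} (j : Z ⟶ Y) [IsIntegralHom j]
    {V₀ : Y.Opens} (hV₀ : IsAffineOpen V₀) {y : Y} (hy : y ∈ V₀) (O : Z.Opens)
    (hO : j ⁻¹' {y} ⊆ (O : Set Z)) :
    ∃ g : Γ(Y, V₀), y ∈ Y.basicOpen g ∧ j ⁻¹ᵁ (Y.basicOpen g) ≤ O := by
  have hcl : IsClosedMap j := j.isClosedMap
  have hC' : IsClosed (j '' (O : Set Z)ᶜ) := hcl _ O.isOpen.isClosed_compl
  have hyC : y ∉ j '' (O : Set Z)ᶜ := by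
    rintro ⟨z, hz, rfl⟩
    exact hz (hO rfl)
  let N : Y.Opens := ⟨(j '' (O : Set Z)ᶜ)ᶜ, hC'.isOpen_compl⟩
  obtain ⟨g, hg1, hg2⟩ := hV₀.exists_basicOpen_le (V := N) ⟨y, hyC⟩ hy
  refine ⟨g, hg2, ?_⟩
  intro z hz
  by_contra hzO
  exact hg1 hz ⟨z, hzO, rfl⟩

/-- a principal open of an affine open `Z'` of `Z`, containing the fibre over `y` and contained
in the preimage of an affine neighbourhood of `y`. -/
theorem exists_basicOpen_fibre_scheme {Z Y : Scheme.{u}} (j : Z ⟶ Y) [IsIntegralHom j]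
    {V₁ : Y.Opens} (hV₁ : IsAffineOpen V₁) {y : Y} (hy : y ∈ V₁)
    {Z' : Z.Opens} (hZ' : IsAffineOpen Z') (hle : j ⁻¹ᵁ V₁ ≤ Z') :
    ∃ b : Γ(Z, Z'), Z.basicOpen b ≤ j ⁻¹ᵁ V₁ ∧ j ⁻¹' {y} ⊆ (Z.basicOpen b : Set Z) := by
  have hZ'' : IsAffineOpen (j ⁻¹ᵁ V₁) := hV₁.preimage j
  let φ : Γ(Y, V₁) →+* Γ(Z, j ⁻¹ᵁ V₁) := (j.app V₁).hom
  have hφ : φ.IsIntegral := j.isIntegral_app V₁ hV₁
  let ρ : Γ(Z, Z') →+* Γ(Z, j ⁻¹ᵁ V₁) := (Z.presheaf.map (homOfLE hle).op).hom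
  let p' : PrimeSpectrum Γ(Y, V₁) := hV₁.primeIdealOf ⟨y, hy⟩
  have hp' : hV₁.fromSpec p' = y := hV₁.fromSpec_primeIdealOf ⟨y, hy⟩
  have hmap : Spec.map (Z.presheaf.map (homOfLE hle).op) ≫ hZ'.fromSpec = hZ''.fromSpec :=
    hZ'.map_fromSpec hZ'' (homOfLE hle).op
  have hT : ∀ q : PrimeSpectrum Γ(Z, j ⁻¹ᵁ V₁), q.asIdeal.comap φ = p'.asIdeal →
      PrimeSpectrum.comap ρ q ∈ (hZ'.fromSpec ⁻¹' ((j ⁻¹ᵁ V₁ : Z.Opens) : Set Z) :
        Set (PrimeSpectrum Γ(Z, Z'))) := by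
    intro q _
    show hZ'.fromSpec (PrimeSpectrum.comap ρ q) ∈ j ⁻¹ᵁ V₁
    have h1 : hZ'.fromSpec (PrimeSpectrum.comap ρ q) = hZ''.fromSpec q :=
      congrArg (fun f : Spec Γ(Z, j ⁻¹ᵁ V₁) ⟶ Z => f q) hmap
    rw [h1]
    have : hZ''.fromSpec q ∈ Set.range hZ''.fromSpec := ⟨q, rfl⟩
    rw [hZ''.range_fromSpec] at this
    exact this
  obtain ⟨b, hb1, hb2⟩ := exists_basicOpen_fibre φ hφ ρ p'.asIdeal _
    (hZ'.fromSpec ⁻¹ᵁ (j ⁻¹ᵁ V₁)).isOpen hT
  refine ⟨b, ?_, ?_⟩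
  · intro z hz
    have hzZ' : z ∈ Z' := Z.basicOpen_le b hz
    let r := hZ'.primeIdealOf ⟨z, hzZ'⟩
    have hr : hZ'.fromSpec r = z := hZ'.fromSpec_primeIdealOf ⟨z, hzZ'⟩
    have hrb : r ∈ PrimeSpectrum.basicOpen b := by
      rw [← hZ'.fromSpec_preimage_basicOpen]
      show hZ'.fromSpec r ∈ Z.basicOpen b
      rw [hr]; exact hz
    have := hb1 r hrb
    have h2 : hZ'.fromSpec r ∈ j ⁻¹ᵁ V₁ := this
    rw [hr] at h2
    exact h2
  · intro z hz
    have hjz : j z = y := hz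
    have hzZ'' : z ∈ j ⁻¹ᵁ V₁ := by
      show j z ∈ V₁
      rw [hjz]; exact hy
    let q := hZ''.primeIdealOf ⟨z, hzZ''⟩
    have hq : hZ''.fromSpec q = z := hZ''.fromSpec_primeIdealOf ⟨z, hzZ''⟩
    have hnat : Spec.map (j.appLE V₁ (j ⁻¹ᵁ V₁) le_rfl) ≫ hV₁.fromSpec = hZ''.fromSpec ≫ j :=
      IsAffineOpen.SpecMap_appLE_fromSpec j hV₁ hZ'' le_rfl
    have h1 : hV₁.fromSpec (Spec.map (j.appLE V₁ (j ⁻¹ᵁ V₁) le_rfl) q) = j (hZ''.fromSpec q) :=
      congrArg (fun f : Spec Γ(Z, j ⁻¹ᵁ V₁) ⟶ Y => f q) hnat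
    rw [hq, hjz, ← hp'] at h1
    have h2 : Spec.map (j.appLE V₁ (j ⁻¹ᵁ V₁) le_rfl) q = p' :=
      hV₁.fromSpec.isOpenEmbedding.injective h1
    have h3 : q.asIdeal.comap φ = p'.asIdeal := by
      have h4 : j.appLE V₁ (j ⁻¹ᵁ V₁) le_rfl = j.app V₁ := (Scheme.Hom.app_eq_appLE j).symm
      rw [h4] at h2
      exact congrArg PrimeSpectrum.asIdeal h2
    have h5 := hb2 q.asIdeal q.2 h3
    have hqb : q ∈ PrimeSpectrum.basicOpen (ρ b) := h5
    rw [← hZ''.fromSpec_preimage_basicOpen] at hqb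
    have h6 : hZ''.fromSpec q ∈ Z.basicOpen (ρ b) := hqb
    rw [hq] at h6
    have h7 : Z.basicOpen (ρ b) = (j ⁻¹ᵁ V₁) ⊓ Z.basicOpen b := Z.basicOpen_res b (homOfLE hle).op
    rw [h7] at h6
    exact h6.2

/-- closed immersion `i : Z ⟶ X` and integral `j : Z ⟶ Y`: around a point `y` whose fibre lies
in the preimage of an affine open, there are affine opens of `X` and `Y` with the same
preimage in `Z`. -/
theorem exists_affine_opens_same_preimage {X Y Z : Scheme.{u}} (i : Z ⟶ X) [IsClosedImmersion i]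
    (j : Z ⟶ Y) [IsIntegralHom j] (y : Y)
    (h : ∃ U : X.Opens, IsAffineOpen U ∧ j ⁻¹' {y} ⊆ (i ⁻¹ᵁ U : Set ↑Z)) :
    ∃ (U : X.Opens) (V : Y.Opens), IsAffineOpen U ∧ IsAffineOpen V ∧ y ∈ V ∧
      i ⁻¹ᵁ U = j ⁻¹ᵁ V := by
  obtain ⟨U₀, hU₀, hfib⟩ := h
  obtain ⟨V₀, hV₀, hyV₀⟩ : ∃ V₀ : Y.Opens, IsAffineOpen V₀ ∧ y ∈ V₀ := by
    obtain ⟨_, ⟨V₀, hV₀, rfl⟩, hyV₀, -⟩ :=
      Y.isBasis_affineOpens.exists_subset_of_mem_open (Set.mem_univ y) isOpen_univ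
    exact ⟨V₀, hV₀, hyV₀⟩
  have hZ' : IsAffineOpen (i ⁻¹ᵁ U₀) := hU₀.preimage i
  obtain ⟨g₁, hyg₁, hg₁⟩ := exists_basicOpen_preimage_le j hV₀ hyV₀ (i ⁻¹ᵁ U₀) hfib
  have hV₁ : IsAffineOpen (Y.basicOpen g₁) := hV₀.basicOpen g₁
  obtain ⟨b, hb1, hb2⟩ := exists_basicOpen_fibre_scheme j hV₁ hyg₁ hZ' hg₁
  obtain ⟨g₂, hyg₂, hg₂⟩ := exists_basicOpen_preimage_le j hV₁ hyg₁ (Z.basicOpen b) hb2
  have hV₂ : IsAffineOpen (Y.basicOpen g₂) := hV₁.basicOpen g₂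
  let γ : Γ(Z, Z.basicOpen b) := Z.presheaf.map (homOfLE hb1).op (j.app (Y.basicOpen g₁) g₂)
  have hγ : Z.basicOpen γ = j ⁻¹ᵁ (Y.basicOpen g₂) := by
    have h1 : Z.basicOpen γ = Z.basicOpen b ⊓ Z.basicOpen (j.app (Y.basicOpen g₁) g₂) :=
      Z.basicOpen_res _ (homOfLE hb1).op
    rw [h1, ← Scheme.preimage_basicOpen]
    exact inf_eq_right.mpr hg₂
  obtain ⟨f', hf'⟩ := hZ'.basicOpen_basicOpen_is_basicOpen b γ
  obtain ⟨f, hf⟩ := i.app_surjective U₀ hU₀ f'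
  refine ⟨X.basicOpen f, Y.basicOpen g₂, hU₀.basicOpen f, hV₂, hyg₂, ?_⟩
  rw [Scheme.preimage_basicOpen]
  have hf2 : (i.app U₀) f = f' := hf
  rw [hf2, hf', hγ]

end Groth.Agent.H12.FibreAvoid
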