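import Groth.Agent.H12.DRankLocal

set_option autoImplicit false
universe u

noncomputable section

namespace Groth.Agent.H12.GenFlat

open CategoryTheory CategoryTheory.Limits TensorProduct CohIII Groth.Agent.H12.TCx

variable {A : Type u} [CommRing A]

/-- `M` becomes flat after inverting `f`. -/
def FlatAway (f : A) (M : Type u) [AddCommGroup M] [Module A M] : Prop :=
  Module.Flat (Localization.Away f) (Localization.Away f ⊗[A] M)

theorem FlatAway.mul_right {x : A} (y : A) {M : Type u} [AddCommGroup M] [Module A M]
    (h : FlatAway x M) : FlatAway (x * y) M := by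
  unfold FlatAway at h ⊢
  let _ : Algebra (Localization.Away x) (Localization.Away (x * y)) :=
    (IsLocalization.Away.awayToAwayRight (S := Localization.Away x)
      (P := Localization.Away (x * y)) x y).toAlgebra
  have : IsScalarTower A (Localization.Away x) (Localization.Away (x * y)) :=
    IsScalarTower.of_algebraMap_eq fun a =>
      (IsLocalization.Away.awayToAwayRight_eq (S := Localization.Away x)
        (P := Localization.Away (x * y)) x y a).symm
  have e : Localization.Away (x * y) ⊗[Localization.Away x] (Localization.Away x ⊗[A] M)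
      ≃ₗ[Localization.Away (x * y)] Localization.Away (x * y) ⊗[A] M :=
    TensorProduct.AlgebraTensorModule.cancelBaseChange A (Localization.Away x)
      (Localization.Away (x * y)) (Localization.Away (x * y)) M
  exact Module.Flat.of_linearEquiv e.symm

theorem FlatAway.mul_left {x : A} (y : A) {M : Type u} [AddCommGroup M] [Module A M]
    (h : FlatAway x M) : FlatAway (y * x) M := by
  unfold FlatAway at h ⊢
  let _ : Algebra (Localization.Away x) (Localization.Away (y * x)) :=
    (IsLocalization.Away.awayToAwayLeft (S := Localization.Away x)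
      (P := Localization.Away (y * x)) x y).toAlgebra
  have : IsScalarTower A (Localization.Away x) (Localization.Away (y * x)) :=
    IsScalarTower.of_algebraMap_eq fun a =>
      (IsLocalization.Away.awayToAwayLeft_eq (S := Localization.Away x)
        (P := Localization.Away (y * x)) x y a).symm
  have e : Localization.Away (y * x) ⊗[Localization.Away x] (Localization.Away x ⊗[A] M)
      ≃ₗ[Localization.Away (y * x)] Localization.Away (y * x) ⊗[A] M :=
    TensorProduct.AlgebraTensorModule.cancelBaseChange A (Localization.Away x)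
      (Localization.Away (y * x)) (Localization.Away (y * x)) M
  exact Module.Flat.of_linearEquiv e.symm

/-- generic freeness for finitely presented modules over a domain. -/
theorem exists_flatAway [IsDomain A] (M : Type u) [AddCommGroup M] [Module A M]
    [Module.FinitePresentation A M] : ∃ r : A, r ≠ 0 ∧ FlatAway r M := by
  obtain ⟨r, hr, hfree, _⟩ := Module.FinitePresentation.exists_free_localizedModule_powers
    (nonZeroDivisors A) (LocalizedModule.mkLinearMap (nonZeroDivisors A) M) (FractionRing A)
  refine ⟨r, nonZeroDivisors.ne_zero hr, ?_⟩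
  unfold FlatAway
  have e := (IsLocalizedModule.isBaseChange (Submonoid.powers r) (Localization.Away r)
    (LocalizedModule.mkLinearMap (Submonoid.powers r) M)).equiv
  have : Module.Flat (Localization.Away r) (LocalizedModule (Submonoid.powers r) M) := by
    have : Module.Free (Localization.Away r) (LocalizedModule (Submonoid.powers r) M) := hfree
    infer_instance
  exact Module.Flat.of_linearEquiv e

/-- simultaneous generic flatness for a finite interval of a family. -/
theorem exists_flatAway_family [IsDomain A] (H : ℤ → Type u) [∀ n, AddCommGroup (H n)]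
    [∀ n, Module A (H n)] (hfp : ∀ n, Module.FinitePresentation A (H n)) (a : ℤ) (k : ℕ) :
    ∃ r : A, r ≠ 0 ∧ ∀ j : ℕ, j < k → FlatAway r (H (a + j)) := by
  induction k with
  | zero => exact ⟨1, one_ne_zero, fun j hj => absurd hj (Nat.not_lt_zero j)⟩
  | succ k ih =>
    obtain ⟨r, hr, h⟩ := ih
    have := hfp (a + k)
    obtain ⟨r', hr', h'⟩ := exists_flatAway (A := A) (H (a + k))
    refine ⟨r * r', mul_ne_zero hr hr', fun j hj => ?_⟩
    rcases Nat.lt_succ_iff_lt_or_eq.mp hj with hlt | rfl
    · exact (h j hlt).mul_right r'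
    · exact h'.mul_left r

section Bounded

open DRankLocal

/-- bounded-below induction: flat homology up to `N` gives flat `W` up to `N`. -/
theorem flat_W_of_flat_Hc_bounded (P : ChainComplex (ModuleCat.{u} A) ℤ)
    (hP : ∀ i, Module.Flat A (P.X i)) (i₀ : ℤ) (hb : ∀ i < i₀, IsZero (P.X i)) (N : ℤ)
    (hH : ∀ q ≤ N, Module.Flat A (Hc P q)) : ∀ q ≤ N, Module.Flat A (W P q) := by
  have key : ∀ n : ℕ, i₀ - 1 + n ≤ N → Module.Flat A (W P (i₀ - 1 + n)) := by
    intro n
    induction n with
    | zero =>
      intro _
      exact flat_W_of_isZero P _ (hb _ (by push_cast; omega))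
    | succ n ih =>
      intro hle
      have hnext : (ComplexShape.down ℤ).next (i₀ - 1 + ((n + 1 : ℕ) : ℤ)) = i₀ - 1 + (n : ℤ) := by
        rw [next_eq]; push_cast; ring
      have hprev : Module.Flat A (W P ((ComplexShape.down ℤ).next (i₀ - 1 + ((n + 1 : ℕ) : ℤ)))) := by
        rw [hnext]
        exact ih (by push_cast at hle; omega)
      have hBd := flat_range_lW P (i₀ - 1 + ((n + 1 : ℕ) : ℤ)) (hrel _) (hP _) hprev
      exact flat_W_of_flat_Hc P _ (hH _ hle) hBd
  intro q hq
  by_cases hlt : q < i₀
  · exact flat_W_of_isZero P _ (hb _ hlt)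
  · obtain ⟨n, hn⟩ : ∃ n : ℕ, q = i₀ - 1 + n := ⟨(q - i₀ + 1).toNat, by omega⟩
    subst hn
    exact key n hq

theorem exact_of_flat_W_bounded (P : ChainComplex (ModuleCat.{u} A) ℤ)
    (hP : ∀ i, Module.Flat A (P.X i)) (N : ℤ) (hW : ∀ q ≤ N, Module.Flat A (W P q)) :
    ∀ p ≤ N, (TFun P p).PreservesMonomorphisms ∧ (TFun P p).PreservesEpimorphisms := by
  intro p hp
  refine ⟨(preservesMono_iff_flat_W P p (hP _)).mpr (hW p hp),
    (preservesEpi_iff_flat_W_next P p hP (hrel p)).mpr (hW _ ?_)⟩
  rw [next_eq]; omega

end Bounded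

section BaseChange

variable (B : Type u) [CommRing B] [Algebra A B]

/-- for flat `B`, `B ⊗ ker l ≃ ker (B ⊗ l)`. -/
theorem ιB_bijective_of_flat [Module.Flat A B] {W Y : Type u} [AddCommGroup W] [Module A W]
    [AddCommGroup Y] [Module A Y] (l : W →ₗ[A] Y) : Function.Bijective (UCTB.ιB B l) := by
  constructor
  · have h : Function.Injective ((LinearMap.ker l).subtype.baseChange B) :=
      Module.Flat.lTensor_preserves_injective_linearMap _ (Submodule.subtype_injective _)
    intro x y hxy
    exact h (congrArg Subtype.val hxy)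
  · rintro ⟨x, hx⟩
    have hex := Module.Flat.lTensor_exact B (LinearMap.exact_subtype_ker_map l)
    obtain ⟨y, hy⟩ := (hex x).mp hx
    exact ⟨y, Subtype.ext hy⟩

/-- the homology of the base change along a flat map, as a `B`-module. -/
def hcBcEquiv [Module.Flat A B] (P : ChainComplex (ModuleCat.{u} A) ℤ) (q : ℤ) :
    Hc (bcCx (algebraMap A B) P) q ≃ₗ[B] B ⊗[A] (Hc P q) :=
  (UCT.homologyEquivHc (bcCx (algebraMap A B) P) q).symm ≪≫ₗ UCTB.homologyBcEquiv B P q ≪≫ₗ
    (LinearEquiv.ofBijective (UCTB.ιB B (lW P q)) (ιB_bijective_of_flat B (lW P q))).symm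

theorem isZero_bcCx_X (P : ChainComplex (ModuleCat.{u} A) ℤ) (i : ℤ) (h : IsZero (P.X i)) :
    IsZero ((bcCx (algebraMap A B) P).X i) :=
  Functor.map_isZero (ModuleCat.extendScalars (algebraMap A B)) h

end BaseChange

/-- S4486 in library form. -/
theorem exists_away_exact [IsDomain A] (P : ChainComplex (ModuleCat.{u} A) ℤ)
    (hP : ∀ i, Module.Flat A (P.X i)) (i₀ : ℤ) (hb : ∀ i < i₀, IsZero (P.X i))
    (hfp : ∀ n : ℤ, Module.FinitePresentation A (T P n (ModuleCat.of A A))) (N : ℤ) :
    ∃ f : A, f ≠ 0 ∧ ∀ p ≤ N,
      (TFun (bcCx (algebraMap A (Localization.Away f)) P) p).PreservesMonomorphisms ∧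
        (TFun (bcCx (algebraMap A (Localization.Away f)) P) p).PreservesEpimorphisms := by
  have hfp' : ∀ n, Module.FinitePresentation A (Hc P n) := fun n =>
    have := hfp n
    Module.FinitePresentation.of_equiv (TAEquiv P n)
  obtain ⟨f, hf, hfl⟩ := exists_flatAway_family (A := A) (fun n => Hc P n) hfp' i₀ (N - i₀ + 1).toNat
  refine ⟨f, hf, ?_⟩
  set B := Localization.Away f with hB
  have hP' : ∀ i, Module.Flat B ((bcCx (algebraMap A B) P).X i) := BW.flat_bcCx_X B P hP
  apply exact_of_flat_W_bounded _ hP' N
  apply flat_W_of_flat_Hc_bounded _ hP' i₀ (fun i hi => isZero_bcCx_X B P i (hb i hi)) N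
  intro q hq
  by_cases hlt : q < i₀
  · have hz : IsZero ((bcCx (algebraMap A B) P).X q) := isZero_bcCx_X B P q (hb q hlt)
    have : Subsingleton ((bcCx (algebraMap A B) P).X q) := ModuleCat.subsingleton_of_isZero hz
    have : Subsingleton (W (bcCx (algebraMap A B) P) q) := inferInstance
    have : Subsingleton (Hc (bcCx (algebraMap A B) P) q) := inferInstance
    exact DRankLocal.flat_of_subsingleton' _
  · have h1 : FlatAway f (Hc P (i₀ + ((q - i₀).toNat : ℤ))) :=
      hfl (q - i₀).toNat (by omega)
    have h2 : i₀ + ((q - i₀).toNat : ℤ) = q := by omega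
    rw [h2] at h1
    have h3 : Module.Flat B (B ⊗[A] (Hc P q)) := h1
    exact Module.Flat.of_linearEquiv (hcBcEquiv B P q)

end Groth.Agent.H12.GenFlat
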