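import Groth.Agent.H12.GenFlat

set_option autoImplicit false
universe u

noncomputable section

namespace Groth.Agent.H12.GenRank

open CategoryTheory CategoryTheory.Limits TensorProduct CohIII Groth.Agent.H12.TCx

variable {R : Type u} [CommRing R]

theorem fibDim_congr {M N : Type u} [AddCommGroup M] [Module R M] [AddCommGroup N] [Module R N]
    (e : M ≃ₗ[R] N) (x : PrimeSpectrum R) : fibDim M x = fibDim N x :=
  LinearEquiv.finrank_eq (LinearEquiv.baseChange R x.asIdeal.ResidueField _ _ e)

theorem fibDim_of_subsingleton (N : Type u) [AddCommGroup N] [Module R N] [Subsingleton N]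
    (x : PrimeSpectrum R) : fibDim N x = 0 := by
  have hu : Subsingleton (x.asIdeal.ResidueField ⊗[R] N) :=
    (TensorProduct.uniqueRight (R := R) (M := x.asIdeal.ResidueField) (N := N)).instSubsingleton
  exact Module.finrank_zero_of_subsingleton (R := x.asIdeal.ResidueField)
    (M := x.asIdeal.ResidueField ⊗[R] N)

/-- on the free locus the fibre dimension is the rank of the stalk. -/
theorem fibDim_eq_rankAtStalk_of_mem_freeLocus (M : Type u) [AddCommGroup M] [Module R M]
    (x : PrimeSpectrum R) (hx : x ∈ Module.freeLocus R M) :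
    fibDim M x = Module.rankAtStalk M x := by
  set B := Localization.AtPrime x.asIdeal with hB
  set κ := x.asIdeal.ResidueField with hκ
  have hfree : Module.Free B (B ⊗[R] M) := (Module.mem_freeLocus_iff_tensor x B).mp hx
  have e : κ ⊗[B] (B ⊗[R] M) ≃ₗ[κ] κ ⊗[R] M :=
    TensorProduct.AlgebraTensorModule.cancelBaseChange R B κ κ M
  rw [Module.rankAtStalk_eq_finrank_tensorProduct]
  show Module.finrank κ (κ ⊗[R] M) = _
  rw [← e.finrank_eq, Module.finrank_baseChange]

/-- the fibre dimension is locally constant on the free locus. -/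
theorem isLocallyConstant_fibDim_freeLocus (M : Type u) [AddCommGroup M] [Module R M]
    [Module.FinitePresentation R M] :
    IsLocallyConstant (fun x : Module.freeLocus R M => fibDim M x.1) := by
  have h : (fun x : Module.freeLocus R M => fibDim M x.1) =
      fun x : Module.freeLocus R M => Module.rankAtStalk M x.1 := by
    funext x
    exact fibDim_eq_rankAtStalk_of_mem_freeLocus M x.1 x.2
  rw [h]
  exact Module.isLocallyConstant_rankAtStalk_freeLocus

/-- minimal primes of a reduced ring lie in every free locus. -/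
theorem minimalPrimes_mem_freeLocus [IsReduced R] (M : Type u) [AddCommGroup M] [Module R M]
    (x : PrimeSpectrum R) (hx : x.asIdeal ∈ minimalPrimes R) : x ∈ Module.freeLocus R M := by
  have : Ring.KrullDimLE 0 (Localization.AtPrime x.asIdeal) := .of_isLocalization _ hx _
  let _ : Field (Localization.AtPrime x.asIdeal) := Ring.KrullDimLE.isField_of_isReduced.toField
  rw [Module.mem_freeLocus]
  exact Module.Free.of_divisionRing _ _

/-- an open set containing all minimal primes is dense. -/
theorem dense_of_minimalPrimes_subset (U : Set (PrimeSpectrum R))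
    (hU : ∀ x : PrimeSpectrum R, x.asIdeal ∈ minimalPrimes R → x ∈ U) : Dense U := by
  rw [dense_iff_inter_open]
  intro V hV ⟨z, hz⟩
  obtain ⟨q, hq, hqz⟩ := Ideal.exists_minimalPrimes_le (I := ⊥) (J := z.asIdeal) bot_le
  have hqp : q.IsPrime := hq.1.1
  let y : PrimeSpectrum R := ⟨q, hqp⟩
  have hspec : y ⤳ z := (PrimeSpectrum.le_iff_specializes y z).mp hqz
  exact ⟨y, hspec.mem_open hV hz, hU y hq⟩

section Loc

variable (Q : ChainComplex (ModuleCat.{u} R) ℤ) (hQ : ∀ i, Module.Flat R (Q.X i)) (i₀ : ℤ)
  (hb : ∀ i < i₀, IsZero (Q.X i)) (N : ℤ) (hfin : ∀ n, Module.Finite R (Hc Q n))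

include hQ hb hfin in
/-- at a point where the homology modules up to `N` are free, the rank function is the fibre
dimension of the homology. -/
theorem dRank_eq_fibDim_Hc_of_mem_freeLocus (x : PrimeSpectrum R)
    (hx : ∀ q, i₀ ≤ q → q ≤ N → x ∈ Module.freeLocus R (Hc Q q)) (q : ℤ) (hq : q ≤ N) :
    dRank Q q x = fibDim (Hc Q q) x := by
  set B := Localization.AtPrime x.asIdeal with hB
  set Q' := bcCx (algebraMap R B) Q with hQ'
  have hQfl : ∀ i, Module.Flat B (Q'.X i) := BW.flat_bcCx_X B Q hQ
  have hb' : ∀ i < i₀, IsZero (Q'.X i) := fun i hi => GenFlat.isZero_bcCx_X B Q i (hb i hi)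
  have hH : ∀ q ≤ N, Module.Flat B (Hc Q' q) := by
    intro q hq
    by_cases hlt : q < i₀
    · have : Subsingleton (Q'.X q) := ModuleCat.subsingleton_of_isZero (hb' q hlt)
      have : Subsingleton (W Q' q) := inferInstance
      have : Subsingleton (Hc Q' q) := inferInstance
      exact DRankLocal.flat_of_subsingleton' _
    · have hfree : Module.Free B (B ⊗[R] (Hc Q q)) :=
        (Module.mem_freeLocus_iff_tensor x B).mp (hx q (by omega) hq)
      have : Module.Flat B (B ⊗[R] (Hc Q q)) := inferInstance
      exact Module.Flat.of_linearEquiv (GenFlat.hcBcEquiv B Q q)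
  have hW := GenFlat.flat_W_of_flat_Hc_bounded Q' hQfl i₀ hb' N hH
  have hWn : Module.Flat B (W Q' ((ComplexShape.down ℤ).next q)) := by
    apply hW
    rw [DRankLocal.next_eq]; omega
  have := hfin q
  have hfinB : Module.Finite B (B ⊗[R] (Hc Q q)) := inferInstance
  have hfinH : Module.Finite B (Q'.homology q) :=
    Module.Finite.equiv ((GenFlat.hcBcEquiv B Q q).symm ≪≫ₗ (UCT.homologyEquivHc Q' q).symm)
  let y : PrimeSpectrum B := IsLocalRing.closedPoint B
  have hy : PrimeSpectrum.comap (algebraMap R B) y = x := by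
    apply PrimeSpectrum.ext
    exact IsLocalization.AtPrime.comap_maximalIdeal B x.asIdeal
  have h1 : dRank Q q x = dRank Q' q y := by
    rw [dRank_bcCx, hy]
  have h2 : dRank Q' q y = fibDim (Q'.homology q) y :=
    DRankFP.dRank_eq_fibDim_homology Q' hQfl q hWn y
  have h3 : fibDim (Q'.homology q) y = fibDim (B ⊗[R] (Hc Q q)) y :=
    fibDim_congr ((UCT.homologyEquivHc Q' q) ≪≫ₗ (GenFlat.hcBcEquiv B Q q)) y
  rw [h1, h2, h3, fibDim_baseChange, hy]

end Loc

/-- the reduced case of S4487. -/
theorem exists_dense_open_of_isReduced [IsReduced R] (Q : ChainComplex (ModuleCat.{u} R) ℤ)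
    (hQ : ∀ i, Module.Flat R (Q.X i)) (i₀ : ℤ) (hb : ∀ i < i₀, IsZero (Q.X i))
    (hfp : ∀ n, Module.FinitePresentation R (Hc Q n)) (N : ℤ) :
    ∃ U : Set (PrimeSpectrum R), IsOpen U ∧ Dense U ∧
      ∀ p ≤ N, IsLocallyConstant (fun x : U => dRank Q p x) := by
  classical
  set k := (N - i₀ + 1).toNat with hk
  let U : Set (PrimeSpectrum R) :=
    ⋂ j ∈ Finset.range k, Module.freeLocus R (Hc Q (i₀ + (j : ℤ)))
  have hUmem : ∀ x, x ∈ U ↔ ∀ j : ℕ, j < k → x ∈ Module.freeLocus R (Hc Q (i₀ + (j : ℤ))) := by
    intro x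
    simp only [U, Set.mem_iInter, Finset.mem_range]
  have hUq : ∀ x ∈ U, ∀ q, i₀ ≤ q → q ≤ N → x ∈ Module.freeLocus R (Hc Q q) := by
    intro x hx q h1 h2
    have h := (hUmem x).mp hx (q - i₀).toNat (by omega)
    have h3 : i₀ + ((q - i₀).toNat : ℤ) = q := by omega
    rw [h3] at h
    exact h
  have hfin : ∀ n, Module.Finite R (Hc Q n) := fun n => inferInstance
  refine ⟨U, ?_, ?_, ?_⟩
  · apply isOpen_biInter_finset
    intro j _
    exact Module.isOpen_freeLocus
  · apply dense_of_minimalPrimes_subset
    intro x hx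
    rw [hUmem]
    intro j _
    exact minimalPrimes_mem_freeLocus _ x hx
  · intro p hp
    have heq : (fun x : U => dRank Q p x) = fun x : U => fibDim (Hc Q p) x.1 := by
      funext x
      exact dRank_eq_fibDim_Hc_of_mem_freeLocus Q hQ i₀ hb N hfin x.1 (hUq x.1 x.2) p hp
    rw [heq]
    by_cases hlt : p < i₀
    · have : Subsingleton (Q.X p) := ModuleCat.subsingleton_of_isZero (hb p hlt)
      have : Subsingleton (W Q p) := inferInstance
      have : Subsingleton (Hc Q p) := inferInstance
      have h0 : (fun x : U => fibDim (Hc Q p) x.1) = fun _ => 0 := by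
        funext x
        exact fibDim_of_subsingleton _ x.1
      rw [h0]
      exact IsLocallyConstant.const 0
    · have hsub : ∀ x : U, x.1 ∈ Module.freeLocus R (Hc Q p) := fun x =>
        hUq x.1 x.2 p (by omega) hp
      let ι : U → Module.freeLocus R (Hc Q p) := fun x => ⟨x.1, hsub x⟩
      have hι : Continuous ι := Continuous.subtype_mk continuous_subtype_val _
      have h := isLocallyConstant_fibDim_freeLocus (R := R) (Hc Q p)
      have h2 := h.comp_continuous hι
      exact h2

end Groth.Agent.H12.GenRank
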