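import Groth.Agent.H12.TCx7

set_option autoImplicit false
universe u

noncomputable section

namespace Groth.Agent.H12.TFinite

open CategoryTheory CategoryTheory.Limits TensorProduct CohIII Groth.Agent.H12.TCx

variable {A : Type u} [CommRing A]

/-- middle term of an exact sequence with finite ends over a Noetherian ring is finite. -/
theorem finite_of_exact [IsNoetherianRing A] {X Y Z : Type u} [AddCommGroup X] [Module A X]
    [AddCommGroup Y] [Module A Y] [AddCommGroup Z] [Module A Z] (f : X →ₗ[A] Y) (g : Y →ₗ[A] Z)
    (h : Function.Exact f g) [Module.Finite A X] [Module.Finite A Z] : Module.Finite A Y := by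
  have hex : Function.Exact f g.rangeRestrict := by
    intro y
    rw [← h y]
    constructor
    · intro hy; exact congrArg Subtype.val hy
    · intro hy; exact Subtype.ext hy
  exact Module.Finite.of_exact hex (LinearMap.surjective_rangeRestrict g)

theorem finite_of_exact_cat [IsNoetherianRing A] (S : ShortComplex (ModuleCat.{u} A)) (hS : S.Exact)
    [Module.Finite A S.X₁] [Module.Finite A S.X₃] : Module.Finite A S.X₂ :=
  finite_of_exact S.f.hom S.g.hom
    ((ShortComplex.ShortExact.moduleCat_exact_iff_function_exact S).mp hS)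

section Cx

variable (P : ChainComplex (ModuleCat.{u} A) ℤ) (hP : ∀ i, Module.Flat A (P.X i))

theorem hrel (p : ℤ) : (ComplexShape.down ℤ).Rel p ((ComplexShape.down ℤ).next p) := by
  rw [ChainComplex.next]; simp

/-- `T_p(M) = 0` when `P_p = 0`. -/
theorem subsingleton_T_of_isZero (p : ℤ) (h : IsZero (P.X p)) (M : ModuleCat.{u} A) :
    Subsingleton (T P p M) := by
  have : Subsingleton (P.X p) := ModuleCat.subsingleton_of_isZero h
  have : Subsingleton (W P p) := inferInstance
  have : Subsingleton ((W P p) ⊗[A] M) :=
    (TensorProduct.uniqueLeft (R := A) (M := W P p) (N := M)).instSubsingleton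
  exact (TEquivKer P p M).injective.subsingleton

/-- `T_p(M) = 0` when `M = 0`. -/
theorem subsingleton_T_of_subsingleton (p : ℤ) (M : ModuleCat.{u} A) [Subsingleton M] :
    Subsingleton (T P p M) := by
  have : Subsingleton ((W P p) ⊗[A] M) :=
    (TensorProduct.uniqueRight (R := A) (M := W P p) (N := M)).instSubsingleton
  exact (TEquivKer P p M).injective.subsingleton

/-- the split sequence `0 → A → A^(n+1) → A^n → 0`. -/
def freeSC (n : ℕ) : ShortComplex (ModuleCat.{u} A) :=
  ShortComplex.mk (ModuleCat.ofHom (LinearMap.single A (fun _ : Fin (n + 1) => A) 0))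
    (ModuleCat.ofHom (LinearMap.funLeft A A (Fin.succ : Fin n → Fin (n + 1)))) (by
      apply ModuleCat.hom_ext
      apply LinearMap.ext
      intro a
      funext i
      show (Pi.single (0 : Fin (n + 1)) a : Fin (n + 1) → A) (Fin.succ i) = 0
      exact Pi.single_eq_of_ne (M := fun _ : Fin (n + 1) => A) (Fin.succ_ne_zero i) a)

theorem freeSC_shortExact (n : ℕ) : (freeSC (A := A) n).ShortExact := by
  apply ModuleCat.shortComplex_shortExact
  · intro x
    constructor
    · intro hx
      refine ⟨x 0, ?_⟩
      funext i
      refine Fin.cases ?_ (fun j => ?_) i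
      · exact Pi.single_eq_same (M := fun _ : Fin (n + 1) => A) 0 (x 0)
      · have h1 : x (Fin.succ j) = 0 := congrFun hx j
        rw [h1]
        exact Pi.single_eq_of_ne (M := fun _ : Fin (n + 1) => A) (Fin.succ_ne_zero j) (x 0)
    · rintro ⟨a, rfl⟩
      funext i
      exact Pi.single_eq_of_ne (M := fun _ : Fin (n + 1) => A) (Fin.succ_ne_zero i) a
  · intro a b hab
    have h := congrFun hab 0
    have ha : (Pi.single (0 : Fin (n + 1)) a : Fin (n + 1) → A) 0 = a :=
      Pi.single_eq_same (M := fun _ : Fin (n + 1) => A) 0 a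
    have hb : (Pi.single (0 : Fin (n + 1)) b : Fin (n + 1) → A) 0 = b :=
      Pi.single_eq_same (M := fun _ : Fin (n + 1) => A) 0 b
    exact ha.symm.trans (h.trans hb)
  · intro y
    exact ⟨Fin.cons 0 y, by funext i; rfl⟩

include hP in
/-- `T_p(A^n)` is finite. -/
theorem finite_T_free [IsNoetherianRing A] (p : ℤ) (hA : Module.Finite A (T P p (ModuleCat.of A A)))
    (n : ℕ) : Module.Finite A (T P p (ModuleCat.of A (Fin n → A))) := by
  induction n with
  | zero =>
    have : Subsingleton (ModuleCat.of A (Fin 0 → A)) := inferInstanceAs (Subsingleton (Fin 0 → A))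
    have := subsingleton_T_of_subsingleton P p (ModuleCat.of A (Fin 0 → A))
    exact Module.Finite.of_surjective (0 : A →ₗ[A] _) (fun x => ⟨0, Subsingleton.elim _ _⟩)
  | succ n ih =>
    have hTS := tensorSC_shortExact P hP _ (freeSC_shortExact (A := A) n)
    have hex := hTS.homology_exact₂ p
    have h1 : Module.Finite A ((tensorSC P (freeSC (A := A) n)).X₁.homology p) := hA
    have h3 : Module.Finite A ((tensorSC P (freeSC (A := A) n)).X₃.homology p) := ih
    exact finite_of_exact_cat _ hex

include hP in
/-- dévissage: if all `T_n(A)` are finite and `P` is bounded below then `T_n(M)` is finite for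
every finite `M`. -/
theorem finite_T [IsNoetherianRing A] (i₀ : ℤ) (hb : ∀ i < i₀, IsZero (P.X i))
    (hA : ∀ n : ℤ, Module.Finite A (T P n (ModuleCat.of A A))) :
    ∀ (p : ℤ) (M : ModuleCat.{u} A), Module.Finite A M → Module.Finite A (T P p M) := by
  have key : ∀ n : ℕ, ∀ (M : ModuleCat.{u} A), Module.Finite A M →
      Module.Finite A (T P (i₀ - 1 + n) M) := by
    intro n
    induction n with
    | zero =>
      intro M _
      have := subsingleton_T_of_isZero P (i₀ - 1 + ((0 : ℕ) : ℤ)) (hb _ (by push_cast; omega)) M
      exact Module.Finite.of_surjective (0 : A →ₗ[A] _) (fun x => ⟨0, Subsingleton.elim _ _⟩)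
    | succ n ih =>
      intro M hM
      obtain ⟨k, g, hg⟩ := Module.Finite.exists_fin' A M
      let S : ShortComplex (ModuleCat.{u} A) :=
        ShortComplex.mk (ModuleCat.ofHom (LinearMap.ker g).subtype) (ModuleCat.ofHom g) (by
          apply ModuleCat.hom_ext
          apply LinearMap.ext
          intro x
          exact x.2)
      have hS : S.ShortExact := ModuleCat.shortComplex_shortExact S
        (LinearMap.exact_subtype_ker_map g) (Submodule.subtype_injective _) hg
      have hTS := tensorSC_shortExact P hP S hS
      set p : ℤ := i₀ - 1 + ((n + 1 : ℕ) : ℤ) with hp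
      have hq : (ComplexShape.down ℤ).next p = i₀ - 1 + (n : ℤ) := by
        rw [ChainComplex.next, hp]; push_cast; ring
      have hex := hTS.homology_exact₃ p ((ComplexShape.down ℤ).next p) (hrel p)
      have h1 : Module.Finite A ((tensorSC P S).X₂.homology p) :=
        finite_T_free P hP p (hA p) k
      have hK : Module.Finite A (ModuleCat.of A (LinearMap.ker g)) :=
        inferInstanceAs (Module.Finite A (LinearMap.ker g))
      have h3 : Module.Finite A ((tensorSC P S).X₁.homology ((ComplexShape.down ℤ).next p)) := by
        rw [hq]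
        exact ih (ModuleCat.of A (LinearMap.ker g)) hK
      exact finite_of_exact_cat _ hex
  intro p M hM
  by_cases hlt : p < i₀
  · have := subsingleton_T_of_isZero P p (hb p hlt) M
    exact Module.Finite.of_surjective (0 : A →ₗ[A] _) (fun x => ⟨0, Subsingleton.elim _ _⟩)
  · obtain ⟨n, hn⟩ : ∃ n : ℕ, p = i₀ - 1 + n := ⟨(p - i₀ + 1).toNat, by omega⟩
    subst hn
    exact key n M hM

end Cx

end Groth.Agent.H12.TFinite
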