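import Groth.Agent.H12.GenRank
import Groth.Agent.H12.TFinite

set_option autoImplicit false
universe u

noncomputable section

namespace Groth.Agent.H12.GenRankRed

open CategoryTheory CategoryTheory.Limits TensorProduct CohIII Groth.Agent.H12.TCx

variable {A : Type u} [CommRing A]

/-- S4487 in library form. -/
theorem exists_dense_open [IsNoetherianRing A] (P : ChainComplex (ModuleCat.{u} A) ℤ)
    (hP : ∀ i, Module.Flat A (P.X i)) (i₀ : ℤ) (hb : ∀ i < i₀, IsZero (P.X i))
    (hfg : ∀ n : ℤ, Module.Finite A (T P n (ModuleCat.of A A))) (N : ℤ) :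
    ∃ U : Set (PrimeSpectrum A), IsOpen U ∧ Dense U ∧
      ∀ p ≤ N, IsLocallyConstant (fun x : U => dRank P p x) := by
  set R := A ⧸ nilradical A with hR
  have hRred : IsReduced R :=
    (Ideal.isRadical_iff_quotient_reduced _).mp (Ideal.radical_isRadical _)
  set Q := bcCx (algebraMap A R) P with hQdef
  have hQ : ∀ i, Module.Flat R (Q.X i) := BW.flat_bcCx_X R P hP
  have hbQ : ∀ i < i₀, IsZero (Q.X i) := fun i hi => GenFlat.isZero_bcCx_X R P i (hb i hi)
  -- finiteness of the homology of `Q`
  have hRfin : Module.Finite A (ModuleCat.of A R) := inferInstanceAs (Module.Finite A R)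
  have hTfin : ∀ n : ℤ, Module.Finite A (T P n (ModuleCat.of A R)) := fun n =>
    TFinite.finite_T P hP i₀ hb hfg n (ModuleCat.of A R) hRfin
  have hfinQ : ∀ n, Module.Finite R (Hc Q n) := by
    intro n
    have h1 : Module.Finite A (LinearMap.ker ((lW P n).rTensor R)) :=
      have := hTfin n
      Module.Finite.equiv (TEquivKer P n (ModuleCat.of A R))
    have h2 : Module.Finite A (LinearMap.ker ((lW P n).lTensor R)) :=
      Module.Finite.equiv (UCT.kerLTensorEquivKerRTensor (lW P n)).symm
    have h3 : Module.Finite R (LinearMap.ker ((lW P n).baseChange R)) :=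
      RankDVR.finite_ker_baseChange_of_finite_ker_lTensor R (lW P n) h2
    exact Module.Finite.equiv
      ((UCTB.homologyBcEquiv R P n).symm ≪≫ₗ UCT.homologyEquivHc Q n)
  have hfpQ : ∀ n, Module.FinitePresentation R (Hc Q n) := fun n =>
    have := hfinQ n
    Module.finitePresentation_of_finite R _
  obtain ⟨UR, hUo, hUd, hUl⟩ := GenRank.exists_dense_open_of_isReduced Q hQ i₀ hbQ hfpQ N
  -- transfer along the homeomorphism `Spec R ≃ Spec A`
  have hhomeo : IsHomeomorph (PrimeSpectrum.comap (algebraMap A R)) := by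
    apply PrimeSpectrum.isHomeomorph_comap
    · intro x
      obtain ⟨a, rfl⟩ := Ideal.Quotient.mk_surjective x
      exact ⟨1, one_pos, a, by rw [pow_one]; rfl⟩
    · intro a ha
      have : a ∈ nilradical A := by
        have h := (RingHom.mem_ker).mp ha
        exact Ideal.Quotient.eq_zero_iff_mem.mp h
      exact this
  let e : PrimeSpectrum R ≃ₜ PrimeSpectrum A := hhomeo.homeomorph
  have he : ∀ y, e y = PrimeSpectrum.comap (algebraMap A R) y := fun y => rfl
  refine ⟨e.symm ⁻¹' UR, hUo.preimage e.symm.continuous, hUd.preimage e.symm.isOpenMap, ?_⟩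
  intro p hp
  let ι : (e.symm ⁻¹' UR) → UR := fun x => ⟨e.symm x.1, x.2⟩
  have hι : Continuous ι :=
    Continuous.subtype_mk (e.symm.continuous.comp continuous_subtype_val) _
  have heq : (fun x : (e.symm ⁻¹' UR) => dRank P p x) = (fun y : UR => dRank Q p y) ∘ ι := by
    funext x
    show dRank P p x.1 = dRank Q p (e.symm x.1)
    rw [dRank_bcCx, ← he, e.apply_symm_apply]
  rw [heq]
  exact (hUl p hp).comp_continuous hι

end Groth.Agent.H12.GenRankRed
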