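import Groth.Agent.H12.AmpleAffine
set_option autoImplicit false
universe u
noncomputable section
namespace Groth.Agent.H12.InvEquiv
open CategoryTheory CategoryTheory.Limits Opposite TopologicalSpace AlgebraicGeometry MonoidalCategory
open Groth.Agent.H18 Groth.Agent.H18.STL Groth.Agent.H18.ResProp Groth.Agent.H12.AmpleAffine

variable {X : Scheme.{u}}

/-- naturality of the right unit isomorphism of `tensorMod`. -/
theorem unitorR_naturality' {A B : X.Modules} (f : A ⟶ B) :
    (DCoh.tensorBi.map f).app (Coh.structureModule X) ≫ (SecTwist.unitorR B).hom =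
      (SecTwist.unitorR A).hom ≫ f := by
  let S := CohB1.sheafifyMod X
  let adj := PresheafOfModules.sheafificationAdjunction.{u, u, u, u}
      (J := Opens.grothendieckTopology X) (𝟙 X.ringCatSheaf.obj)
  have h2 : (DCoh.toP.map f) ▷ (CohB1.toPMod (Coh.structureModule X)) ≫
      (SecTwist.unitorPre B).hom = (SecTwist.unitorPre A).hom ≫ DCoh.toP.map f :=
    rightUnitor_naturality (DCoh.toP.map f)
  have h3 : S.map ((DCoh.toP.map f) ▷ (CohB1.toPMod (Coh.structureModule X))) ≫
      S.map (SecTwist.unitorPre B).hom = S.map (SecTwist.unitorPre A).hom ≫ S.map (DCoh.toP.map f) :=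
    (S.map_comp _ _).symm.trans ((congrArg S.map h2).trans (S.map_comp _ _))
  have h4 : S.map (DCoh.toP.map f) ≫ adj.counit.app B = adj.counit.app A ≫ f :=
    adj.counit.naturality f
  show S.map ((DCoh.toP.map f) ▷ (CohB1.toPMod (Coh.structureModule X))) ≫
      (S.map (SecTwist.unitorPre B).hom ≫ adj.counit.app B) =
    (S.map (SecTwist.unitorPre A).hom ≫ adj.counit.app A) ≫ f
  calc S.map ((DCoh.toP.map f) ▷ (CohB1.toPMod (Coh.structureModule X))) ≫
      (S.map (SecTwist.unitorPre B).hom ≫ adj.counit.app B)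
      = (S.map ((DCoh.toP.map f) ▷ (CohB1.toPMod (Coh.structureModule X))) ≫
        S.map (SecTwist.unitorPre B).hom) ≫ adj.counit.app B := (Category.assoc _ _ _).symm
    _ = (S.map (SecTwist.unitorPre A).hom ≫ S.map (DCoh.toP.map f)) ≫ adj.counit.app B :=
        congrArg (fun t => t ≫ adj.counit.app B) h3
    _ = S.map (SecTwist.unitorPre A).hom ≫ (S.map (DCoh.toP.map f) ≫ adj.counit.app B) :=
        Category.assoc _ _ _
    _ = S.map (SecTwist.unitorPre A).hom ≫ (adj.counit.app A ≫ f) :=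
        congrArg (fun t => S.map (SecTwist.unitorPre A).hom ≫ t) h4
    _ = (S.map (SecTwist.unitorPre A).hom ≫ adj.counit.app A) ≫ f := (Category.assoc _ _ _).symm

/-- naturality of the right unit isomorphism of `tensorMod`. -/
theorem unitorR_naturality {A B : X.Modules} (f : A ⟶ B) :
    KoszTw.tensorMap f (𝟙 (Coh.structureModule X)) ≫ (SecTwist.unitorR B).hom =
      (SecTwist.unitorR A).hom ≫ f := by
  rw [← KoszTw.tensorBi_map_app]
  exact unitorR_naturality' f

/-- the functor `- ⊗ M`. -/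
def tensorRight (M : X.Modules) : X.Modules ⥤ X.Modules := (DCoh.tensorBi (X := X)).flip.obj M

theorem tensorRight_map (M : X.Modules) {A B : X.Modules} (f : A ⟶ B) :
    (tensorRight M).map f = KoszTw.tensorMap f (𝟙 M) := KoszTw.tensorBi_map_app f M

theorem assoc_naturality_left {A B : X.Modules} (f : A ⟶ B) (M M' : X.Modules) :
    (DCoh.tensorBi.map ((DCoh.tensorBi.map f).app M)).app M' ≫ (tensorModAssoc B M M').hom =
      (tensorModAssoc A M M').hom ≫ (DCoh.tensorBi.map f).app (CohB1.tensorMod M M') :=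
  Groth.Agent.H45.tensorAssocApp_naturality₁ (C := Opens X) (J := Opens.grothendieckTopology X)
    (O := X.sheaf) f M M'

/-- the components of `cancelIso`. -/
def cancelApp (M M' : X.Modules) (e : CohB1.tensorMod M M' ≅ Coh.structureModule X)
    (A : X.Modules) : CohB1.tensorMod (CohB1.tensorMod A M) M' ≅ A :=
  tensorModAssoc A M M' ≪≫ ((DCoh.tensorBi (X := X)).obj A).mapIso e ≪≫ SecTwist.unitorR A

theorem cancelApp_naturality (M M' : X.Modules)
    (e : CohB1.tensorMod M M' ≅ Coh.structureModule X) {A B : X.Modules} (f : A ⟶ B) :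
    (DCoh.tensorBi.map ((DCoh.tensorBi.map f).app M)).app M' ≫ (cancelApp M M' e B).hom =
      (cancelApp M M' e A).hom ≫ f := by
  have h1 := assoc_naturality_left f M M'
  have h2 : (DCoh.tensorBi.map f).app (CohB1.tensorMod M M') ≫
      ((DCoh.tensorBi (X := X)).obj B).map e.hom =
      ((DCoh.tensorBi (X := X)).obj A).map e.hom ≫
        (DCoh.tensorBi.map f).app (Coh.structureModule X) :=
    ((DCoh.tensorBi.map f).naturality e.hom).symm
  have h3 : (DCoh.tensorBi.map f).app (Coh.structureModule X) ≫ (SecTwist.unitorR B).hom =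
      (SecTwist.unitorR A).hom ≫ f :=
    unitorR_naturality' f
  let a₁ := (DCoh.tensorBi.map ((DCoh.tensorBi.map f).app M)).app M'
  let b₁ := (tensorModAssoc B M M').hom
  let b₂ := ((DCoh.tensorBi (X := X)).obj B).map e.hom
  let b₃ := (SecTwist.unitorR B).hom
  let c₁ := (tensorModAssoc A M M').hom
  let c₂ := ((DCoh.tensorBi (X := X)).obj A).map e.hom
  let c₃ := (SecTwist.unitorR A).hom
  let m₁ := (DCoh.tensorBi.map f).app (CohB1.tensorMod M M')
  let m₂ := (DCoh.tensorBi.map f).app (Coh.structureModule X)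
  have h1' : a₁ ≫ b₁ = c₁ ≫ m₁ := h1
  have h2' : m₁ ≫ b₂ = c₂ ≫ m₂ := h2
  have h3' : m₂ ≫ b₃ = c₃ ≫ f := h3
  show a₁ ≫ (b₁ ≫ b₂ ≫ b₃) = (c₁ ≫ c₂ ≫ c₃) ≫ f
  calc a₁ ≫ (b₁ ≫ b₂ ≫ b₃) = (a₁ ≫ b₁) ≫ b₂ ≫ b₃ := (Category.assoc _ _ _).symm
    _ = (c₁ ≫ m₁) ≫ b₂ ≫ b₃ := congrArg (fun t => t ≫ b₂ ≫ b₃) h1'
    _ = c₁ ≫ (m₁ ≫ b₂) ≫ b₃ := by simp only [Category.assoc]
    _ = c₁ ≫ (c₂ ≫ m₂) ≫ b₃ := congrArg (fun t => c₁ ≫ t ≫ b₃) h2'
    _ = c₁ ≫ c₂ ≫ (m₂ ≫ b₃) := by simp only [Category.assoc]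
    _ = c₁ ≫ c₂ ≫ (c₃ ≫ f) := congrArg (fun t => c₁ ≫ c₂ ≫ t) h3'
    _ = (c₁ ≫ c₂ ≫ c₃) ≫ f := by simp only [Category.assoc]

/-- tensoring with `M` and then with an inverse of `M` is naturally isomorphic to the identity. -/
def cancelIso (M M' : X.Modules) (e : CohB1.tensorMod M M' ≅ Coh.structureModule X) :
    tensorRight M ⋙ tensorRight M' ≅ 𝟭 X.Modules :=
  NatIso.ofComponents (fun A => cancelApp M M' e A)
    (fun f => cancelApp_naturality M M' e f)

end Groth.Agent.H12.InvEquiv
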