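import Groth.Agent.H12.InvEquiv
set_option autoImplicit false
universe u
noncomputable section
namespace Groth.Agent.H12.InvMono
open CategoryTheory CategoryTheory.Limits Opposite TopologicalSpace AlgebraicGeometry MonoidalCategory
open Groth.Agent.H18 Groth.Agent.H18.STL Groth.Agent.H18.ResProp Groth.Agent.H12.AmpleAffine Groth.Agent.H12.InvEquiv

variable {X : Scheme.{u}}

/-- the inverse pair in the other order. -/
def flipInv {M M' : X.Modules} (e : CohB1.tensorMod M M' ≅ Coh.structureModule X) :
    CohB1.tensorMod M' M ≅ Coh.structureModule X := tensorModBraid M' M ≪≫ e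

/-- tensoring with a module admitting an inverse is an equivalence of categories. -/
def tensorEquiv (M M' : X.Modules) (e : CohB1.tensorMod M M' ≅ Coh.structureModule X) :
    X.Modules ≌ X.Modules :=
  CategoryTheory.Equivalence.mk (tensorRight M) (tensorRight M') (cancelIso M M' e).symm
    (cancelIso M' M (flipInv e))

/-- tensoring with a module admitting an inverse preserves monomorphisms. -/
theorem mono_tensorMap_of_inverse {A B : X.Modules} (k : A ⟶ B) [Mono k] (M M' : X.Modules)
    (e : CohB1.tensorMod M M' ≅ Coh.structureModule X) : Mono (KoszTw.tensorMap k (𝟙 M)) := by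
  have h : Mono ((tensorEquiv M M' e).functor.map k) := inferInstance
  have h2 : (tensorEquiv M M' e).functor.map k = KoszTw.tensorMap k (𝟙 M) := tensorRight_map M k
  rw [← h2]
  exact h

/-- tensoring with an invertible module preserves monomorphisms. -/
theorem mono_tensorMap_of_isInvertible {A B : X.Modules} (k : A ⟶ B) [Mono k] {M : X.Modules}
    (hM : PicF.IsInvertible M) : Mono (KoszTw.tensorMap k (𝟙 M)) := by
  obtain ⟨M', -, ⟨e⟩⟩ := Groth.Agent.H18.STL.exists_inverse hM
  exact mono_tensorMap_of_inverse k M M' e

end Groth.Agent.H12.InvMono
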