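import Groth.Agent.H12.FiberRank

set_option autoImplicit false
universe u

open TensorProduct Topology

namespace Groth.Agent.H12

variable {A : Type u} [CommRing A]

/-- generators of the fibre at `x₀` lift to elements generating `N` near `x₀`. -/
theorem exists_gens_fibDim (N : Type u) [AddCommGroup N] [Module A N] [Module.Finite A N]
    (x₀ : PrimeSpectrum A) :
    ∃ v : Fin (fibDim N x₀) → N,
      x₀ ∉ Module.support A (N ⧸ Submodule.span A (Set.range v)) := by
  classical
  set K₀ := x₀.asIdeal.ResidueField with hK₀
  obtain ⟨b, hbS, hbspan, hbli⟩ := exists_linearIndependent K₀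
    (Set.range fun n : N => (1 : K₀) ⊗ₜ[A] n)
  rw [span_one_tmul_eq_top] at hbspan
  let bas : Module.Basis b K₀ (K₀ ⊗[A] N) := Module.Basis.mk hbli (by
    rw [Subtype.range_coe]; exact hbspan.ge)
  have : Finite b := Module.Finite.finite_basis bas
  let _ : Fintype b := Fintype.ofFinite b
  have hcard : Module.finrank K₀ (K₀ ⊗[A] N) = Fintype.card b :=
    Module.finrank_eq_card_basis bas
  choose v hv using fun i : b => hbS i.2
  have e : Fin (fibDim N x₀) ≃ b := by
    have : fibDim N x₀ = Fintype.card b := hcard
    rw [this]
    exact (Fintype.equivFin b).symm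
  refine ⟨v ∘ e, ?_⟩
  have hrange : Set.range (v ∘ e) = Set.range v := by
    rw [Set.range_comp, e.range_eq_univ, Set.image_univ]
  rw [hrange]
  set N' := Submodule.span A (Set.range v) with hN'
  have hsub : Subsingleton (K₀ ⊗[A] (N ⧸ N')) := by
    refine ⟨fun s t => ?_⟩
    have hz : ∀ s : K₀ ⊗[A] (N ⧸ N'), s = 0 := by
      intro s
      obtain ⟨w, rfl⟩ := LinearMap.lTensor_surjective K₀ (Submodule.mkQ_surjective N') s
      have hw : w ∈ Submodule.span K₀ (b : Set (K₀ ⊗[A] N)) := by rw [hbspan]; trivial
      have hlin : ∀ w ∈ Submodule.span K₀ (b : Set (K₀ ⊗[A] N)),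
          (N'.mkQ).baseChange K₀ w = 0 := by
        intro w hw
        induction hw using Submodule.span_induction with
        | mem x hx =>
          have : x = (1 : K₀) ⊗ₜ[A] v ⟨x, hx⟩ := (hv ⟨x, hx⟩).symm
          rw [this, LinearMap.baseChange_tmul]
          have : N'.mkQ (v ⟨x, hx⟩) = 0 := by
            rw [Submodule.mkQ_apply, Submodule.Quotient.mk_eq_zero]
            exact Submodule.subset_span ⟨_, rfl⟩
          rw [this, TensorProduct.tmul_zero]
        | zero => exact map_zero _
        | add x y _ _ hx hy => rw [map_add, hx, hy, add_zero]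
        | smul a x _ hx => rw [map_smul, hx, smul_zero]
      exact hlin w hw
    rw [hz s, hz t]
  rw [Module.mem_support_iff_nontrivial_residueField_tensorProduct, not_nontrivial_iff_subsingleton]
  exact hsub

/-- coordinates of `1 ⊗ a` in `K ⊗ (Fin n → A)`. -/
theorem algebraMap_apply_eq_zero_of_one_tmul_eq_zero (K : Type u) [Field K] [Algebra A K] {n : ℕ}
    (a : Fin n → A) (h : (1 : K) ⊗ₜ[A] a = 0) (i : Fin n) : algebraMap A K (a i) = 0 := by
  have h1 := congrArg ((TensorProduct.rid A K).toLinearMap ∘ₗ (LinearMap.proj (R := A) (φ := fun _ => A) i).lTensor K) h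
  simpa [Algebra.smul_def] using h1

/-- **Key lemma**: over a reduced local ring, a finite module whose fibre dimension at every minimal
prime equals the one at the closed point is free. -/
theorem free_of_fibDim_eq_minimal [IsLocalRing A] [IsReduced A]
    (N : Type u) [AddCommGroup N] [Module A N] [Module.Finite A N]
    (h : ∀ q : PrimeSpectrum A, q.asIdeal ∈ minimalPrimes A →
      fibDim N q = fibDim N (IsLocalRing.closedPoint A)) : Module.Free A N := by
  classical
  set n := fibDim N (IsLocalRing.closedPoint A) with hn
  obtain ⟨v, hv⟩ := exists_gens_fibDim N (IsLocalRing.closedPoint A)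
  set N' := Submodule.span A (Set.range v) with hN'
  have htop : N' = ⊤ := by
    have hemp : Module.support A (N ⧸ N') = ∅ := by
      by_contra hne
      obtain ⟨y, hy⟩ := Set.nonempty_iff_ne_empty.mpr hne
      exact hv (Module.mem_support_mono
        ((PrimeSpectrum.le_iff_specializes _ _).mpr (IsLocalRing.specializes_closedPoint y)) hy)
    rw [Module.support_eq_empty_iff] at hemp
    exact Submodule.Quotient.subsingleton_iff.mp hemp
  let f : (Fin n → A) →ₗ[A] N := Fintype.linearCombination A v
  have hf : Function.Surjective f := by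
    rw [← LinearMap.range_eq_top, Fintype.range_linearCombination]
    exact htop
  have hinj : Function.Injective f := by
    rw [injective_iff_map_eq_zero]
    intro a ha
    funext i
    have hnil : a i ∈ nilradical A := by
      rw [nilradical, ← Ideal.sInf_minimalPrimes, Ideal.mem_sInf]
      intro q hq
      have hqp : q.IsPrime := hq.1.1
      let x : PrimeSpectrum A := ⟨q, hqp⟩
      set K := x.asIdeal.ResidueField with hK
      have hdim : Module.finrank K (K ⊗[A] N) = n := h x hq
      let g : K ⊗[A] (Fin n → A) →ₗ[K] K ⊗[A] N := f.baseChange K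
      have hg : Function.Surjective g := LinearMap.lTensor_surjective K hf
      have hdim' : Module.finrank K (K ⊗[A] (Fin n → A)) = n := by
        rw [Module.finrank_baseChange]
        simp
      have hfin : Module.Finite K (K ⊗[A] N) := inferInstance
      have hginj : Function.Injective g :=
        (LinearMap.injective_iff_surjective_of_finrank_eq_finrank (hdim'.trans hdim.symm)).mpr hg
      have h0 : (1 : K) ⊗ₜ[A] a = 0 := by
        apply hginj
        rw [map_zero]
        show f.baseChange K ((1 : K) ⊗ₜ[A] a) = 0
        rw [LinearMap.baseChange_tmul, ha, TensorProduct.tmul_zero]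
      have := algebraMap_apply_eq_zero_of_one_tmul_eq_zero K a h0 i
      exact Ideal.algebraMap_residueField_eq_zero.mp this
    rw [nilradical_eq_zero] at hnil
    exact hnil
  exact Module.Free.of_equiv (LinearEquiv.ofBijective f ⟨hinj, hf⟩)

end Groth.Agent.H12
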