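import Groth.Agent.H12.Approx
import Mathlib.RingTheory.AdicCompletion.Basic
import Mathlib.RingTheory.Finiteness.Ideal
import Mathlib.RingTheory.Ideal.Operations

set_option autoImplicit false
universe u v

namespace Groth.Agent.H12

section LimSys

variable {A : Type u} [CommRing A] {I : Ideal A}
  {M : ℕ → Type v} [∀ n, AddCommGroup (M n)] [∀ n, Module A (M n)]
  {f : ∀ n, M (n + 1) →ₗ[A] M n}
  {L : Type v} [AddCommGroup L] [Module A L] {π : ∀ n, L →ₗ[A] M n}

/-- going down in the system -/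
noncomputable def down (f : ∀ n, M (n + 1) →ₗ[A] M n) {j n : ℕ} (h : j ≤ n) : M n →ₗ[A] M j :=
  Nat.leRecOn (C := fun k => M k →ₗ[A] M j) h (fun {k} g => g ∘ₗ f k) LinearMap.id

theorem down_self (j : ℕ) : down f (le_refl j) = LinearMap.id := by
  unfold down
  exact Nat.leRecOn_self _

theorem down_succ {j n : ℕ} (h : j ≤ n) : down f (Nat.le_succ_of_le h) = down f h ∘ₗ f n := by
  unfold down
  exact Nat.leRecOn_succ h _

theorem f_comp_down {j n : ℕ} (h : j + 1 ≤ n) :
    f j ∘ₗ down f h = down f (Nat.le_of_succ_le h) := by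
  induction n, h using Nat.le_induction with
  | base =>
    rw [down_self, down_succ (le_refl j), down_self]
    rfl
  | succ n hn ih =>
    rw [down_succ hn, down_succ (Nat.le_of_succ_le hn), ← ih]
    rfl

include M in
theorem exists_compatible (hf : ∀ n, Function.Surjective (f n)) (n : ℕ) (m : M n) :
    ∃ y : ∀ k, M k, (∀ k, f k (y (k + 1)) = y k) ∧ y n = m := by
  classical
  let y : ∀ k, M k := fun k => Nat.rec (down f (Nat.zero_le n) m)
    (fun j yj => if h : j + 1 ≤ n then down f h m else Classical.choose (hf j yj)) k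
  have hy0 : y 0 = down f (Nat.zero_le n) m := rfl
  have hys : ∀ j, y (j + 1) =
      if h : j + 1 ≤ n then down f h m else Classical.choose (hf j (y j)) := fun j => rfl
  have hyle : ∀ j (h : j ≤ n), y j = down f h m := by
    intro j h
    cases j with
    | zero => exact hy0
    | succ j => rw [hys, dif_pos h]
  refine ⟨y, ?_, ?_⟩
  · intro k
    by_cases h : k + 1 ≤ n
    · rw [hyle (k + 1) h, hyle k (Nat.le_of_succ_le h), ← f_comp_down h]
      rfl
    · rw [hys, dif_neg h]
      exact Classical.choose_spec (hf k (y k))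
  · rw [hyle n le_rfl, down_self]
    rfl

theorem pi_surjective (hf : ∀ n, Function.Surjective (f n))
    (_hπ : ∀ n, f n ∘ₗ π (n + 1) = π n)
    (hlift : ∀ y : (∀ n, M n), (∀ n, f n (y (n + 1)) = y n) → ∃ x : L, ∀ n, π n x = y n)
    (n : ℕ) : Function.Surjective (π n) := by
  intro m
  obtain ⟨y, hy, hyn⟩ := exists_compatible hf n m
  obtain ⟨x, hx⟩ := hlift y hy
  exact ⟨x, (hx n).trans hyn⟩

theorem pow_smul_top_eq_bot (hf : ∀ n, Function.Surjective (f n))
    (hker : ∀ n, LinearMap.ker (f n) = I ^ (n + 1) • (⊤ : Submodule A (M (n + 1))))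
    (n : ℕ) : I ^ (n + 1) • (⊤ : Submodule A (M n)) = ⊥ := by
  have h1 : (⊤ : Submodule A (M n)) = Submodule.map (f n) ⊤ := by
    rw [Submodule.map_top, LinearMap.range_eq_top.mpr (hf n)]
  rw [h1, ← Submodule.map_smul'', ← hker, eq_bot_iff]
  rintro _ ⟨x, hx, rfl⟩
  exact hx

theorem pi_comp (hπ : ∀ n, f n ∘ₗ π (n + 1) = π n) (n : ℕ) (x : L) :
    f n (π (n + 1) x) = π n x := by
  rw [← hπ n]; rfl

theorem ker_pi_antitone (hπ : ∀ n, f n ∘ₗ π (n + 1) = π n) :
    Antitone (fun n => LinearMap.ker (π n)) := by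
  apply antitone_nat_of_succ_le
  intro n x hx
  rw [LinearMap.mem_ker] at hx ⊢
  rw [← pi_comp hπ, hx, map_zero]

/-- (F2) -/
theorem pow_smul_top_le_ker (hf : ∀ n, Function.Surjective (f n))
    (hker : ∀ n, LinearMap.ker (f n) = I ^ (n + 1) • (⊤ : Submodule A (M (n + 1))))
    (n : ℕ) : I ^ (n + 1) • (⊤ : Submodule A L) ≤ LinearMap.ker (π n) := by
  intro x hx
  rw [LinearMap.mem_ker]
  have h1 : π n x ∈ Submodule.map (π n) (I ^ (n + 1) • ⊤) := ⟨x, hx, rfl⟩
  rw [Submodule.map_smul''] at h1
  have h2 : I ^ (n + 1) • Submodule.map (π n) ⊤ ≤ I ^ (n + 1) • (⊤ : Submodule A (M n)) :=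
    Submodule.smul_mono le_rfl le_top
  have h3 := h2 h1
  rw [pow_smul_top_eq_bot hf hker n] at h3
  exact (Submodule.mem_bot A).mp h3

/-- (F3) -/
theorem ker_le_sup (hf : ∀ n, Function.Surjective (f n))
    (hker : ∀ n, LinearMap.ker (f n) = I ^ (n + 1) • (⊤ : Submodule A (M (n + 1))))
    (hπ : ∀ n, f n ∘ₗ π (n + 1) = π n)
    (hlift : ∀ y : (∀ n, M n), (∀ n, f n (y (n + 1)) = y n) → ∃ x : L, ∀ n, π n x = y n)
    (n : ℕ) : LinearMap.ker (π n) ≤
      I ^ (n + 1) • (⊤ : Submodule A L) ⊔ LinearMap.ker (π (n + 1)) := by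
  intro x hx
  rw [LinearMap.mem_ker] at hx
  have h1 : π (n + 1) x ∈ LinearMap.ker (f n) := by
    rw [LinearMap.mem_ker, pi_comp hπ, hx]
  rw [hker] at h1
  have h2 : (⊤ : Submodule A (M (n + 1))) = Submodule.map (π (n + 1)) ⊤ := by
    rw [Submodule.map_top, LinearMap.range_eq_top.mpr (pi_surjective hf hπ hlift (n + 1))]
  rw [h2, ← Submodule.map_smul''] at h1
  obtain ⟨y, hy, hyx⟩ := h1
  rw [Submodule.mem_sup]
  refine ⟨y, hy, x - y, ?_, by abel⟩
  rw [LinearMap.mem_ker, map_sub, hyx, sub_self]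

/-- (F7) -/
theorem ker_le_sup_of_le (hf : ∀ n, Function.Surjective (f n))
    (hker : ∀ n, LinearMap.ker (f n) = I ^ (n + 1) • (⊤ : Submodule A (M (n + 1))))
    (hπ : ∀ n, f n ∘ₗ π (n + 1) = π n)
    (hlift : ∀ y : (∀ n, M n), (∀ n, f n (y (n + 1)) = y n) → ∃ x : L, ∀ n, π n x = y n)
    {n m : ℕ} (h : n ≤ m) : LinearMap.ker (π n) ≤
      I ^ (n + 1) • (⊤ : Submodule A L) ⊔ LinearMap.ker (π m) := by
  induction m, h using Nat.le_induction with
  | base => exact le_sup_right
  | succ m hnm ih =>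
    refine ih.trans (sup_le le_sup_left ?_)
    refine (ker_le_sup hf hker hπ hlift m).trans (sup_le ?_ le_sup_right)
    refine le_trans ?_ le_sup_left
    exact Submodule.smul_mono_left (Ideal.pow_le_pow_right (by omega))

/-- (F6) completeness with respect to the kernels -/
theorem complete_ker (hπ : ∀ n, f n ∘ₗ π (n + 1) = π n)
    (hlift : ∀ y : (∀ n, M n), (∀ n, f n (y (n + 1)) = y n) → ∃ x : L, ∀ n, π n x = y n)
    (z : ℕ → L) (hz : ∀ m, z (m + 1) - z m ∈ LinearMap.ker (π m)) :
    ∃ y : L, ∀ m, y - z m ∈ LinearMap.ker (π m) := by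
  obtain ⟨y, hy⟩ := hlift (fun m => π m (z m)) (by
    intro m
    have := hz m
    rw [LinearMap.mem_ker, map_sub, sub_eq_zero] at this
    rw [pi_comp hπ, this])
  refine ⟨y, fun m => ?_⟩
  rw [LinearMap.mem_ker, map_sub, hy m, sub_self]

end LimSys

section Comb

variable {A : Type u} [CommRing A] {L : Type v} [AddCommGroup L] [Module A L]

/-- linear combination with fixed coefficients -/
noncomputable def comb {N : ℕ} (g : Fin N → A) : (Fin N → L) →ₗ[A] L :=
  ∑ i, g i • LinearMap.proj i

theorem comb_apply {N : ℕ} (g : Fin N → A) (y : Fin N → L) : comb g y = ∑ i, g i • y i := by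
  simp [comb]

theorem span_smul_le_map_comb {N : ℕ} (g : Fin N → A) (N' : Submodule A L) :
    Ideal.span (Set.range g) • N' ≤
      Submodule.map (comb g) (Submodule.pi Set.univ (fun _ => N')) := by
  rw [Submodule.smul_le]
  intro r hr n hn
  induction hr using Submodule.span_induction generalizing n with
  | mem r hr =>
    obtain ⟨i, rfl⟩ := hr
    refine ⟨Pi.single i n, ?_, ?_⟩
    · intro j _
      by_cases hji : j = i
      · subst hji; simpa using hn
      · simp [Pi.single_eq_of_ne hji]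
    · rw [comb_apply, Finset.sum_eq_single i]
      · simp
      · intro j _ hji
        simp [Pi.single_eq_of_ne hji]
      · simp
  | zero => simp
  | add r s _ _ ihr ihs =>
    rw [add_smul]
    exact add_mem (ihr n hn) (ihs n hn)
  | smul c r _ ih =>
    rw [smul_eq_mul, mul_smul]
    exact Submodule.smul_mem _ c (ih n hn)

theorem comb_mem_smul {N : ℕ} (g : Fin N → A) (N' : Submodule A L) (y : Fin N → L)
    (hy : ∀ i, y i ∈ N') : comb g y ∈ Ideal.span (Set.range g) • N' := by
  rw [comb_apply]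
  apply Submodule.sum_mem
  intro i _
  exact Submodule.smul_mem_smul (Ideal.subset_span ⟨i, rfl⟩) (hy i)

end Comb

section Main

variable {A : Type u} [CommRing A] {I : Ideal A}
  {M : ℕ → Type v} [∀ n, AddCommGroup (M n)] [∀ n, Module A (M n)]
  {f : ∀ n, M (n + 1) →ₗ[A] M n}
  {L : Type v} [AddCommGroup L] [Module A L] {π : ∀ n, L →ₗ[A] M n}

/-- the shifted kernel filtration: `⊤, ker π 0, ker π 1, ...` -/
def Kp (π : ∀ n, L →ₗ[A] M n) : ℕ → Submodule A L
  | 0 => ⊤
  | (k + 1) => LinearMap.ker (π k)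

theorem pow_smul_top_le_Kp (hf : ∀ n, Function.Surjective (f n))
    (hker : ∀ n, LinearMap.ker (f n) = I ^ (n + 1) • (⊤ : Submodule A (M (n + 1))))
    (k : ℕ) : I ^ k • (⊤ : Submodule A L) ≤ Kp π k := by
  cases k with
  | zero => exact le_top
  | succ k => exact pow_smul_top_le_ker hf hker k

theorem ker_pi_eq (hI : I.FG) (hf : ∀ n, Function.Surjective (f n))
    (hker : ∀ n, LinearMap.ker (f n) = I ^ (n + 1) • (⊤ : Submodule A (M (n + 1))))
    (hπ : ∀ n, f n ∘ₗ π (n + 1) = π n)
    (hinj : ∀ x : L, (∀ n, π n x = 0) → x = 0)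
    (hlift : ∀ y : (∀ n, M n), (∀ n, f n (y (n + 1)) = y n) → ∃ x : L, ∀ n, π n x = y n)
    (n : ℕ) : LinearMap.ker (π n) = I ^ (n + 1) • (⊤ : Submodule A L) := by
  apply le_antisymm _ (pow_smul_top_le_ker hf hker n)
  obtain ⟨N, g, hg⟩ := Submodule.fg_iff_exists_fin_generating_family.mp (hI.pow (n := n + 1))
  have hg' : Ideal.span (Set.range g) = I ^ (n + 1) := hg
  let K : ℕ → Submodule A L := fun k => LinearMap.ker (π (n + k))
  let Q : ℕ → Submodule A (Fin N → L) := fun k => Submodule.pi Set.univ (fun _ => Kp π k)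
  have hanti := ker_pi_antitone (π := π) hπ
  have hsep : ∀ x, (∀ m, x ∈ K m) → x = 0 := by
    intro x hx
    apply hinj
    intro j
    have : x ∈ LinearMap.ker (π (n + j)) := hx j
    exact hanti (Nat.le_add_left j n) this
  have hcomp : ∀ z : ℕ → (Fin N → L), (∀ m, z (m + 1) - z m ∈ Q m) →
      ∃ y, ∀ m, y - z m ∈ Q m := by
    intro z hz
    have hi : ∀ i : Fin N, ∃ yi : L, ∀ m, yi - z (m + 1) i ∈ LinearMap.ker (π m) := by
      intro i
      apply complete_ker hπ hlift (fun m => z (m + 1) i)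
      intro m
      have := hz (m + 1) i (Set.mem_univ i)
      exact this
    choose y hy using hi
    refine ⟨y, fun m => ?_⟩
    intro i _
    cases m with
    | zero => exact Submodule.mem_top
    | succ m => exact hy i m
  have hφ : ∀ k, ∀ y ∈ Q k, comb g y ∈ K k := by
    intro k y hy
    rw [comb_apply]
    apply Submodule.sum_mem
    intro i _
    have hgi : g i ∈ I ^ (n + 1) := hg' ▸ Ideal.subset_span ⟨i, rfl⟩
    have hyi : y i ∈ Kp π k := hy i (Set.mem_univ i)
    cases k with
    | zero =>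
      apply pow_smul_top_le_ker hf hker n
      exact Submodule.smul_mem_smul hgi Submodule.mem_top
    | succ k =>
      have h1 := ker_le_sup_of_le hf hker hπ hlift (show k ≤ n + (k + 1) by omega) hyi
      obtain ⟨a, ha, b, hb, hab⟩ := Submodule.mem_sup.mp h1
      rw [← hab, smul_add]
      apply Submodule.add_mem
      · apply pow_smul_top_le_ker hf hker (n + (k + 1))
        have : I ^ (n + (k + 1) + 1) = I ^ (n + 1) * I ^ (k + 1) := by
          rw [← pow_add]; congr 1; omega
        rw [this, mul_smul]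
        exact Submodule.smul_mem_smul hgi ha
      · exact Submodule.smul_mem _ _ hb
  have happ : ∀ k, ∀ x ∈ K k, ∃ y ∈ Q k, x - comb g y ∈ K (k + 1) := by
    intro k x hx
    have h1 := ker_le_sup hf hker hπ hlift (n + k) hx
    obtain ⟨a, ha, b, hb, hab⟩ := Submodule.mem_sup.mp h1
    have : I ^ (n + k + 1) = I ^ (n + 1) * I ^ k := by
      rw [← pow_add]; congr 1; omega
    rw [this, mul_smul, ← hg'] at ha
    obtain ⟨y, hy, hya⟩ := span_smul_le_map_comb g _ ha
    refine ⟨y, ?_, ?_⟩
    · intro i hi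
      exact pow_smul_top_le_Kp hf hker k (hy i hi)
    · rw [hya, ← hab]
      have : a + b - a = b := by abel
      rw [this]
      exact hb
  intro x hx
  obtain ⟨y, _, rfl⟩ := approx_lemma K Q hsep hcomp (comb g) hφ happ x hx
  rw [← hg']
  exact comb_mem_smul g ⊤ y (fun _ => Submodule.mem_top)

theorem isAdicComplete_limit (hI : I.FG) (hf : ∀ n, Function.Surjective (f n))
    (hker : ∀ n, LinearMap.ker (f n) = I ^ (n + 1) • (⊤ : Submodule A (M (n + 1))))
    (hπ : ∀ n, f n ∘ₗ π (n + 1) = π n)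
    (hinj : ∀ x : L, (∀ n, π n x = 0) → x = 0)
    (hlift : ∀ y : (∀ n, M n), (∀ n, f n (y (n + 1)) = y n) → ∃ x : L, ∀ n, π n x = y n) :
    IsAdicComplete I L := by
  have hk := ker_pi_eq hI hf hker hπ hinj hlift
  refine { haus' := ?_, prec' := ?_ }
  · intro x hx
    apply hinj
    intro n
    have h1 := hx (n + 1)
    rw [SModEq.sub_mem, sub_zero, ← hk n] at h1
    exact h1
  · intro z hz
    obtain ⟨y, hy⟩ := complete_ker hπ hlift (fun m => z (m + 1)) (by
      intro m
      have h1 := (hz (Nat.le_succ (m + 1))).symm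
      rw [SModEq.sub_mem, ← hk m] at h1
      exact h1)
    refine ⟨y, fun n => ?_⟩
    cases n with
    | zero =>
      rw [SModEq.sub_mem, pow_zero, Ideal.one_eq_top, Submodule.top_smul]
      exact Submodule.mem_top
    | succ n =>
      have h1 := hy n
      rw [hk n] at h1
      exact (SModEq.sub_mem.mpr h1).symm

end Main

section Nakayama

variable {A : Type u} [CommRing A] {I : Ideal A} {L : Type v} [AddCommGroup L] [Module A L]

/-- Complete Nakayama: over a precomplete ring, a Hausdorff module which is generated modulo `I`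
by finitely many elements is generated by them. -/
theorem span_eq_top_of_sup_smul_eq_top [IsPrecomplete I A] [IsHausdorff I L] {N : ℕ}
    (x : Fin N → L) (hx : Submodule.span A (Set.range x) ⊔ I • (⊤ : Submodule A L) = ⊤) :
    Submodule.span A (Set.range x) = ⊤ := by
  let φ : (Fin N → A) →ₗ[A] L := Fintype.linearCombination A x
  let K : ℕ → Submodule A L := fun k => I ^ k • ⊤
  let Q : ℕ → Submodule A (Fin N → A) := fun k => Submodule.pi Set.univ (fun _ => I ^ k)
  have hsep : ∀ y, (∀ m, y ∈ K m) → y = 0 := by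
    intro y hy
    apply IsHausdorff.haus (I := I) inferInstance
    intro n
    rw [SModEq.sub_mem, sub_zero]
    exact hy n
  have hcomp : ∀ z : ℕ → (Fin N → A), (∀ m, z (m + 1) - z m ∈ Q m) →
      ∃ y, ∀ m, y - z m ∈ Q m := by
    intro z hz
    have hi : ∀ i : Fin N, ∃ yi : A, ∀ m, yi - z m i ∈ I ^ m := by
      intro i
      have hc : ∀ {m n : ℕ}, m ≤ n →
          z m i ≡ z n i [SMOD (I ^ m • ⊤ : Submodule A A)] := by
        intro m n hmn
        induction n, hmn using Nat.le_induction with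
        | base => rfl
        | succ n hmn ih =>
          refine ih.trans ?_
          rw [SModEq.sub_mem]
          have h1 : z (n + 1) i - z n i ∈ I ^ n := hz n i (Set.mem_univ i)
          have h2 : z n i - z (n + 1) i ∈ I ^ n := by
            have := (I ^ n).neg_mem h1
            rwa [neg_sub] at this
          rw [smul_eq_mul, Ideal.mul_top]
          exact Ideal.pow_le_pow_right hmn h2
      obtain ⟨yi, hyi⟩ := IsPrecomplete.prec (I := I) inferInstance hc
      refine ⟨yi, fun m => ?_⟩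
      have h1 := (hyi m).symm
      rw [SModEq.sub_mem, smul_eq_mul, Ideal.mul_top] at h1
      exact h1
    choose y hy using hi
    exact ⟨y, fun m i _ => hy i m⟩
  have hφ : ∀ k, ∀ c ∈ Q k, φ c ∈ K k := by
    intro k c hc
    show Fintype.linearCombination A x c ∈ I ^ k • ⊤
    rw [Fintype.linearCombination_apply]
    apply Submodule.sum_mem
    intro i _
    exact Submodule.smul_mem_smul (hc i (Set.mem_univ i)) Submodule.mem_top
  have happ : ∀ k, ∀ y ∈ K k, ∃ c ∈ Q k, y - φ c ∈ K (k + 1) := by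
    intro k y hy
    have h1 : y ∈ I ^ k • (Submodule.span A (Set.range x) ⊔ I • (⊤ : Submodule A L)) := by
      rw [hx]; exact hy
    rw [Submodule.smul_sup, ← mul_smul, ← pow_succ] at h1
    obtain ⟨a, ha, b, hb, hab⟩ := Submodule.mem_sup.mp h1
    obtain ⟨c, hc, hca⟩ := (Submodule.mem_ideal_smul_span_iff_exists_sum _ x a).mp ha
    refine ⟨c, fun i _ => hc i, ?_⟩
    have h2 : φ c = a := by
      show Fintype.linearCombination A x c = a
      rw [Fintype.linearCombination_apply, ← hca, Finsupp.sum_fintype]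
      intro i; simp
    rw [h2, ← hab]
    have : a + b - a = b := by abel
    rw [this]
    exact hb
  rw [eq_top_iff]
  intro y _
  have hy0 : y ∈ K 0 := by
    show y ∈ I ^ 0 • ⊤
    rw [pow_zero, Ideal.one_eq_top, Submodule.top_smul]
    exact Submodule.mem_top
  obtain ⟨c, _, rfl⟩ := approx_lemma K Q hsep hcomp φ hφ happ y hy0
  show Fintype.linearCombination A x c ∈ _
  rw [Fintype.linearCombination_apply]
  apply Submodule.sum_mem
  intro i _
  exact Submodule.smul_mem _ _ (Submodule.subset_span ⟨i, rfl⟩)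

end Nakayama

end Groth.Agent.H12
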