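import Groth.Agent.H12.ExtCases
import Groth.Agent.H44.OmegaRestrict
import Groth.Agent.H54.GlobGen

/-!
helper12: a quasi-compact quasi-separated scheme all of whose quasi-coherent ideals of finite type
are generated by global sections is quasi-affine.
-/
set_option autoImplicit false
universe u
noncomputable section
namespace Groth.Agent.H12.QAffCrit
open CategoryTheory CategoryTheory.Limits Opposite TopologicalSpace AlgebraicGeometry
open Groth.Agent.H18 Groth.Agent.H12.SubSheaf

variable {X : Scheme.{u}}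

/-- a section of the structure module as a function. -/
abbrev fn (W : X.Opens) (t : Γ(Coh.structureModule X, W)) : Γ(X, W) := t

theorem fn_mres {W W' : X.Opens} (h : W' ≤ W) (t : Γ(Coh.structureModule X, W)) :
    fn W' (mres (Coh.structureModule X) h t) = X.presheaf.map (homOfLE h).op (fn W t) := rfl

theorem fn_smul (W : X.Opens) (r : Γ(X, W)) (t : Γ(Coh.structureModule X, W)) :
    fn W (r • t) = r * fn W t := rfl

/-- the sections of `J` whose image in `O_X` vanishes at `x`. -/
def vanishFam (J : X.Modules) (i : J ⟶ Coh.structureModule X) (x : X) : SubFam J where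
  carrier W :=
    { carrier := {t | x ∉ X.basicOpen (fn W ((i.app W).hom t))}
      zero_mem' := by
        show x ∉ X.basicOpen (fn W ((i.app W).hom 0))
        rw [map_zero]
        change x ∉ X.basicOpen (0 : Γ(X, W))
        rw [Scheme.basicOpen_zero]
        exact fun h => h
      add_mem' := by
        intro a b ha hb
        show x ∉ X.basicOpen (fn W ((i.app W).hom (a + b)))
        rw [map_add]
        intro h
        have := X.basicOpen_add_le (fn W ((i.app W).hom a)) (fn W ((i.app W).hom b)) h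
        rcases this with h1 | h1
        · exact ha h1
        · exact hb h1
      smul_mem' := by
        intro r a ha
        show x ∉ X.basicOpen (fn W ((i.app W).hom (r • a)))
        rw [Scheme.Modules.Hom.app_smul, fn_smul, Scheme.basicOpen_mul]
        exact fun h => ha h.2 }
  res := by
    intro W W' h s hs
    show x ∉ X.basicOpen (fn W' ((i.app W').hom (mres J h s)))
    have h1 := Groth.Agent.H12.QCohExt.app_mres i h s
    have h2 : (i.app W').hom (mres J h s) = mres (Coh.structureModule X) h ((i.app W).hom s) :=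
      h1.symm
    rw [h2, fn_mres, Scheme.basicOpen_res]
    exact fun h' => hs h'.2

theorem mem_vanishFam (J : X.Modules) (i : J ⟶ Coh.structureModule X) (x : X) (W : X.Opens)
    (t : Γ(J, W)) :
    t ∈ (vanishFam J i x).carrier W ↔ x ∉ X.basicOpen (fn W ((i.app W).hom t)) := Iff.rfl

theorem isLocal_vanishFam (J : X.Modules) (i : J ⟶ Coh.structureModule X) (x : X) :
    (vanishFam J i x).IsLocal := by
  intro W t ht
  rw [mem_vanishFam]
  intro hx
  have hxW : x ∈ W := X.basicOpen_le _ hx
  obtain ⟨W', h, hxW', hmem⟩ := ht x hxW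
  rw [mem_vanishFam] at hmem
  apply hmem
  have h1 := Groth.Agent.H12.QCohExt.app_mres i h t
  have h2 : (i.app W').hom (mres J h t) = mres (Coh.structureModule X) h ((i.app W).hom t) :=
    h1.symm
  rw [h2, fn_mres, Scheme.basicOpen_res]
  exact ⟨hxW', hx⟩

/-- if `J` maps to `O_X` and is generated by global sections, and some local section of `J` does
not vanish at `x`, then one of the generating global sections does not vanish at `x`. -/
theorem exists_generator_not_vanishing (J : X.Modules) (i : J ⟶ Coh.structureModule X)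
    {ι : Type u} (p : (SheafOfModules.free ι : X.Modules) ⟶ J) [Epi p]
    (x : X) {U : X.Opens} (g : Γ(J, U)) (hg : x ∈ X.basicOpen (fn U ((i.app U).hom g))) :
    ∃ t : Γ(J, ⊤), x ∈ X.basicOpen (fn ⊤ ((i.app ⊤).hom t)) := by
  by_contra hcon
  push Not at hcon
  let N := vanishFam J i x
  have hN : N.IsLocal := isLocal_vanishFam J i x
  have hmem : ∀ t : Γ(J, ⊤), t ∈ N.carrier ⊤ := fun t => hcon t
  choose y hy using fun k : ι =>
    N.exists_ι_app_eq hN ⊤ ((J.freeHomEquiv p k).val (op ⊤)) (hmem _)
  let l : (SheafOfModules.free ι : X.Modules) ⟶ N.toModules hN :=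
    (N.toModules hN).freeHomEquiv.symm (fun k => Groth.Agent.H54.sectionOfTop _ (y k))
  have hl : l ≫ N.ι hN = p := by
    rw [SheafOfModules.freeHomEquiv_symm_comp]
    apply J.freeHomEquiv.injective
    rw [Equiv.apply_symm_apply]
    funext k
    rw [Groth.Agent.H54.sectionsMap_sectionOfTop]
    have h1 : ((N.ι hN).val.app (op ⊤)) (y k) = (J.freeHomEquiv p k).val (op ⊤) := hy k
    rw [h1]
    exact Groth.Agent.H54.sectionOfTop_eval _ _
  have hepi : Epi (N.ι hN) := by
    have : Epi (l ≫ N.ι hN) := by rw [hl]; infer_instance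
    exact epi_of_epi l (N.ι hN)
  have hiso : IsIso (N.ι hN) := isIso_of_mono_of_epi _
  have hbij : Function.Bijective ((N.ι hN).app U) :=
    (ConcreteCategory.isIso_iff_bijective ((N.ι hN).app U)).mp inferInstance
  obtain ⟨g', hg'⟩ := hbij.2 g
  have h2 : g ∈ N.carrier U := by
    rw [← hg']
    exact N.ι_app_mem hN U g'
  exact h2 hg


/-- sections of the ideal module over an affine open have their functions in the ideal. -/
theorem basicOpen_le_of_vanishingIdeal (U : X.Opens) (W : X.Opens) (hW : IsAffineOpen W)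
    (f : Γ(X, W))
    (hf : f ∈ (Scheme.IdealSheafData.vanishingIdeal
      (⟨(U : Set X)ᶜ, U.isOpen.isClosed_compl⟩ : Closeds X)).ideal ⟨W, hW⟩) :
    X.basicOpen f ≤ U := by
  intro z hz
  by_contra hzU
  let Z : Closeds X := ⟨(U : Set X)ᶜ, U.isOpen.isClosed_compl⟩
  have hzW : z ∈ W := X.basicOpen_le f hz
  have h1 : z ∈ ((Scheme.IdealSheafData.vanishingIdeal Z).support : Set X) ∩ W := by
    refine ⟨?_, hzW⟩
    rw [Scheme.IdealSheafData.coe_support_vanishingIdeal]
    exact hzU
  rw [Scheme.IdealSheafData.coe_support_inter _ ⟨W, hW⟩] at h1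
  have h2 := (Scheme.mem_zeroLocus_iff X _ _).mp h1.1 f hf
  exact h2 hz

set_option backward.isDefEq.respectTransparency false in
theorem one_mem_vanishingIdeal (U : X.affineOpens) :
    (1 : Γ(X, U.1)) ∈ (Scheme.IdealSheafData.vanishingIdeal
      (⟨((U.1 : X.Opens) : Set X)ᶜ, U.1.isOpen.isClosed_compl⟩ : Closeds X)).ideal U := by
  rw [Scheme.IdealSheafData.vanishingIdeal_ideal]
  have : U.2.fromSpec ⁻¹'
      ((⟨((U.1 : X.Opens) : Set X)ᶜ, U.1.isOpen.isClosed_compl⟩ : Closeds X) : Set X) = ∅ := by
    ext y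
    simp only [Set.mem_preimage, Set.mem_empty_iff_false, iff_false]
    intro hy
    have : U.2.fromSpec y ∈ ((U.1 : X.Opens) : Set X) := by
      rw [← U.2.range_fromSpec]
      exact ⟨y, rfl⟩
    exact hy this
  rw [this, PrimeSpectrum.vanishingIdeal_empty]
  trivial

set_option backward.isDefEq.respectTransparency false in
/-- EGA II 5.1.2 (e') ⇒ (a). -/
theorem isQuasiAffine_of_ft_ideals_globally_generated [CompactSpace X] [QuasiSeparatedSpace X]
    (h : ∀ (J : X.Modules) (i : J ⟶ Coh.structureModule X), Mono i → J.IsQuasicoherent →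
      SheafOfModules.IsFiniteType (R := X.ringCatSheaf) J →
      ∃ (ι : Type u) (p : (SheafOfModules.free ι : X.Modules) ⟶ J), Epi p) :
    X.IsQuasiAffine := by
  refine Scheme.IsQuasiAffine.of_forall_exists_mem_basicOpen X fun x => ?_
  obtain ⟨U, hU, hxU⟩ : ∃ U : X.Opens, IsAffineOpen U ∧ x ∈ U := by
    obtain ⟨_, ⟨U, hU, rfl⟩, hxU, -⟩ :=
      X.isBasis_affineOpens.exists_subset_of_mem_open (Set.mem_univ x) isOpen_univ
    exact ⟨U, hU, hxU⟩
  let K : X.IdealSheafData := Scheme.IdealSheafData.vanishingIdeal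
    (⟨(U : Set X)ᶜ, U.isOpen.isClosed_compl⟩ : Closeds X)
  have h1 : (1 : Γ(X, U)) ∈ K.ideal ⟨U, hU⟩ := one_mem_vanishingIdeal ⟨U, hU⟩
  let s : Γ(ClSub.idealMod K, U) := OmegaSh.kerLift (ClSub.toSubscheme K) U
    (OmegaSh.strSect X U 1) ((Groth.Agent.H44.toSubscheme_app_eq_zero_iff K hU 1).2 h1)
  have hs : ((ClSub.idealModι K).app U).hom s = OmegaSh.strSect X U 1 :=
    OmegaSh.ι_kerLift _ _ _ _
  obtain ⟨J, i', hmono, hq, hft, g, hg⟩ :=
    Groth.Agent.H12.ExtCases.exists_ft_sub_of_section_of_ext (ClSub.idealMod K) U hU s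
      (fun G i _ _ hG =>
        Groth.Agent.H12.ExtCases.exists_ft_extension_of_qcqs U hU.isCompact _ G i hG)
  have hmonoι : Mono (ClSub.idealModι K) := by
    unfold ClSub.idealModι
    infer_instance
  obtain ⟨ι, p, hp⟩ := h J (i' ≫ ClSub.idealModι K) (mono_comp _ _) hq hft
  have hgx : x ∈ X.basicOpen (fn U (((i' ≫ ClSub.idealModι K).app U).hom g)) := by
    have : ((i' ≫ ClSub.idealModι K).app U).hom g = OmegaSh.strSect X U 1 := by
      change ((ClSub.idealModι K).app U).hom ((i'.app U).hom g) = _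
      rw [hg, hs]
    rw [this]
    change x ∈ X.basicOpen (1 : Γ(X, U))
    rw [Scheme.basicOpen_one]
    exact hxU
  obtain ⟨t, ht⟩ := exists_generator_not_vanishing J (i' ≫ ClSub.idealModι K) p x g hgx
  let f : Γ(X, ⊤) := fn ⊤ (((i' ≫ ClSub.idealModι K).app ⊤).hom t)
  have hfU : X.basicOpen f ≤ U := by
    intro z hz
    obtain ⟨W, hW, hzW⟩ : ∃ W : X.Opens, IsAffineOpen W ∧ z ∈ W := by
      obtain ⟨_, ⟨W, hW, rfl⟩, hzW, -⟩ :=
        X.isBasis_affineOpens.exists_subset_of_mem_open (Set.mem_univ z) isOpen_univ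
      exact ⟨W, hW, hzW⟩
    have hmem := Groth.Agent.H44.idealModι_app_mem_ideal K hW
      ((i'.app W).hom (mres J (le_top : W ≤ ⊤) t))
    have heq : OmegaSh.fnSect X W (((ClSub.idealModι K).app W).hom
        ((i'.app W).hom (mres J (le_top : W ≤ ⊤) t))) =
        X.presheaf.map (homOfLE (le_top : W ≤ ⊤)).op f := by
      have h3 := Groth.Agent.H12.QCohExt.app_mres (i' ≫ ClSub.idealModι K) (le_top : W ≤ ⊤) t
      exact h3.symm
    rw [heq] at hmem
    have := basicOpen_le_of_vanishingIdeal U W hW _ hmem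
    apply this
    rw [Scheme.basicOpen_res]
    exact ⟨hzW, hz⟩
  refine ⟨f, ?_, ht⟩
  have : X.basicOpen f = X.basicOpen (X.presheaf.map (homOfLE (le_top : U ≤ ⊤)).op f) := by
    rw [Scheme.basicOpen_res]
    exact (inf_eq_right.mpr hfU).symm
  rw [this]
  exact hU.basicOpen _

end Groth.Agent.H12.QAffCrit
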