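import Groth.Agent.H22.RedImm
import Groth.Agent.H22.IntegralSection

set_option autoImplicit false
universe u

noncomputable section

namespace Groth.Agent.H12.RedClosure

open AlgebraicGeometry CategoryTheory TopologicalSpace

/-- the closure of the range of a morphism as a closed set. -/
def clRange {Z X : Scheme.{u}} (h : Z ⟶ X) : Closeds X :=
  ⟨closure (Set.range h), isClosed_closure⟩

theorem ker_eq_vanishingIdeal {Z X : Scheme.{u}} [IsReduced Z] (h : Z ⟶ X) :
    h.ker = Scheme.IdealSheafData.vanishingIdeal (clRange h) := by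
  have := Scheme.IdealSheafData.map_vanishingIdeal h ⊤
  rw [Scheme.IdealSheafData.vanishingIdeal_top, Scheme.nilradical_eq_bot,
    Scheme.IdealSheafData.map_bot] at this
  rw [this]
  congr 1
  apply Closeds.ext
  simp [clRange]

/-- the reduced closed subscheme on the closure of the range. -/
abbrev redCl {Z X : Scheme.{u}} (h : Z ⟶ X) : Scheme.{u} :=
  (Scheme.IdealSheafData.vanishingIdeal (clRange h)).subscheme

abbrev redClι {Z X : Scheme.{u}} (h : Z ⟶ X) : redCl h ⟶ X :=
  (Scheme.IdealSheafData.vanishingIdeal (clRange h)).subschemeι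

instance {Z X : Scheme.{u}} (h : Z ⟶ X) : IsReduced (redCl h) :=
  Groth.Agent.H22.isReduced_subscheme_vanishingIdeal _

theorem range_redClι {Z X : Scheme.{u}} (h : Z ⟶ X) :
    Set.range (redClι h) = closure (Set.range h) := by
  rw [Scheme.IdealSheafData.range_subschemeι]
  rfl

/-- a morphism from a reduced scheme factors through the reduced closure of its range. -/
def redLift {Z X : Scheme.{u}} [IsReduced Z] (h : Z ⟶ X) : Z ⟶ redCl h :=
  IsClosedImmersion.lift (redClι h) h (by
    rw [Scheme.IdealSheafData.ker_subschemeι, ker_eq_vanishingIdeal])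

@[reassoc (attr := simp)]
theorem redLift_ι {Z X : Scheme.{u}} [IsReduced Z] (h : Z ⟶ X) : redLift h ≫ redClι h = h :=
  IsClosedImmersion.lift_fac _ _ _

theorem irreducibleSpace_redCl {Z X : Scheme.{u}} [IrreducibleSpace Z] (h : Z ⟶ X) :
    IrreducibleSpace (redCl h) := by
  have h1 : IsIrreducible (Set.range h) := by
    rw [← Set.image_univ]
    exact (IrreducibleSpace.isIrreducible_univ Z).image _ h.continuous.continuousOn
  have h2 : IsIrreducible (closure (Set.range h)) := h1.closure
  have hemb := (redClι h).isClosedEmbedding.isEmbedding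
  have e := hemb.toHomeomorph
  rw [e.irreducibleSpace_iff]
  apply Subtype.irreducibleSpace
  rw [range_redClι]
  exact h2

end Groth.Agent.H12.RedClosure
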