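import Groth.Agent.H12.QAffCrit
import Groth.Agent.H18.SectionHom
import Groth.Agent.H44.Retract
import Groth.Agent.H44.PushUnit
/-
helper12: Serre-type affineness criterion (EGA II 5.2.1 (c') => (a)).

Main results (namespace `Groth.Agent.H12.SerreCrit`):
* `isQuasicoherent_vanishFam` : the submodule of a qcoh `J -> O_X` of sections vanishing at `x` is qcoh.
* `exists_affine_basicOpen_of_isClosed` : closed point step.
* `exists_finite_affine_basicOpen_cover`
* `isAffine_of_surjective_desc`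
* `epi_desc_sectionHom_of_cover`
* `isAffine_of_sections_exact` : quasi-compact X with exactness of sections on qcoh subsheaves of
  free modules is affine.
-/
set_option autoImplicit false
universe u
noncomputable section
namespace Groth.Agent.H12.SerreCrit
open CategoryTheory CategoryTheory.Limits Opposite TopologicalSpace AlgebraicGeometry
open Groth.Agent.H18 Groth.Agent.H12.SubSheaf Groth.Agent.H12.QAffCrit
open Groth.Agent.H12.QCohAbelian

variable {X : Scheme.{u}}

/-- the submodule of sections vanishing at a point is quasi-coherent. -/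
theorem isQuasicoherent_vanishFam (J : X.Modules) [J.IsQuasicoherent]
    (i : J ⟶ Coh.structureModule X) (x : X) :
    ((vanishFam J i x).toModules (isLocal_vanishFam J i x)).IsQuasicoherent := by
  set N := vanishFam J i x with hNdef
  have hN : N.IsLocal := isLocal_vanishFam J i x
  refine isQuasicoherent_of_localizes (N.toModules hN) (fun W : X.affineOpens => W.1)
    (iSup_affineOpens_eq_top X) (fun W => W.2) ?_ ?_
  · intro W r y
    set y' := ((N.ι hN).app (X.basicOpen r)).hom y with hy'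
    have hy'mem : y' ∈ N.carrier (X.basicOpen r) := N.ι_app_mem hN _ y
    obtain ⟨n, x₀, hx₀⟩ := exists_pow_smul_eq_res_of_isQuasicoherent J W.2 r y'
    have hmem : r • x₀ ∈ N.carrier W.1 := by
      rw [mem_vanishFam, Scheme.Modules.Hom.app_smul, fn_smul, Scheme.basicOpen_mul]
      rintro ⟨hxr, hxx⟩
      rw [mem_vanishFam] at hy'mem
      apply hy'mem
      have h1 : x ∈ X.basicOpen (fn (X.basicOpen r)
          ((i.app (X.basicOpen r)).hom (mres J (X.basicOpen_le r) x₀))) := by
        have h2 := Groth.Agent.H12.QCohExt.app_mres i (X.basicOpen_le r) x₀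
        have h3 : (i.app (X.basicOpen r)).hom (mres J (X.basicOpen_le r) x₀) =
            mres (Coh.structureModule X) (X.basicOpen_le r) ((i.app W.1).hom x₀) := h2.symm
        rw [h3, fn_mres, Scheme.basicOpen_res]
        exact ⟨hxr, hxx⟩
      rw [← hx₀, Scheme.Modules.Hom.app_smul, fn_smul, Scheme.basicOpen_mul] at h1
      exact h1.2
    obtain ⟨z, hz⟩ := N.exists_ι_app_eq hN W.1 (r • x₀) hmem
    refine ⟨n + 1, z, ?_⟩
    apply N.ι_app_injective hN
    have h1 := Scheme.Modules.Hom.app_smul (N.ι hN)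
      ((X.presheaf.map (homOfLE (X.basicOpen_le r)).op r) ^ (n + 1)) y
    have h2 := Groth.Agent.H12.QCohExt.app_mres (N.ι hN) (X.basicOpen_le r) z
    refine h1.trans ?_
    refine Eq.trans ?_ h2
    rw [hz, mres_smul, ← hx₀, pow_succ, mul_smul]
    rw [smul_comm]
  · intro W r z hz
    have h2 := Groth.Agent.H12.QCohExt.app_mres (N.ι hN) (X.basicOpen_le r) z
    have h3 : mres J (X.basicOpen_le r) (((N.ι hN).app W.1).hom z) = 0 := by
      refine h2.trans ?_
      rw [hz, map_zero]
    obtain ⟨n, hn⟩ := exists_pow_smul_eq_zero_of_isQuasicoherent J W.2 r _ h3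
    refine ⟨n, ?_⟩
    apply N.ι_app_injective hN
    have h1 := Scheme.Modules.Hom.app_smul (N.ι hN) (r ^ n) z
    exact h1.trans (hn.trans (map_zero _).symm)


/-- gluing a section over `U` vanishing away from a closed point with zero. -/
theorem exists_glue_zero (F : X.Modules) (x : X) (hx : IsClosed ({x} : Set X)) (U : X.Opens)
    (hxU : x ∈ U) (s : Γ(F, U))
    (hs : ∀ (W : X.Opens) (h : W ≤ U), x ∉ W → mres F h s = 0) :
    ∃ σ : Γ(F, ⊤), mres F (le_top : U ≤ ⊤) σ = s := by
  let V : X.Opens := ⟨({x} : Set X)ᶜ, hx.isOpen_compl⟩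
  let Fs : TopCat.Sheaf AddCommGrpCat X.toTopCat := ⟨F.presheaf, F.isSheaf⟩
  let Us : Bool → X.Opens := fun b => if b then U else V
  let sf : ∀ b : Bool, ToType (Fs.1.obj (op (Us b))) := fun b =>
    match b with
    | true => s
    | false => (0 : Γ(F, V))
  have hcompat : TopCat.Presheaf.IsCompatible Fs.1 Us sf := by
    intro b b'
    cases b <;> cases b'
    · rfl
    · show mres F (inf_le_left : V ⊓ U ≤ V) (0 : Γ(F, V)) = mres F (inf_le_right : V ⊓ U ≤ U) s
      rw [map_zero]
      refine (hs (V ⊓ U) inf_le_right ?_).symm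
      intro hmem
      exact hmem.1 rfl
    · show mres F (inf_le_left : U ⊓ V ≤ U) s = mres F (inf_le_right : U ⊓ V ≤ V) (0 : Γ(F, V))
      rw [map_zero]
      refine hs (U ⊓ V) inf_le_left ?_
      intro hmem
      exact hmem.2 rfl
    · rfl
  have hcover : (⊤ : X.Opens) ≤ iSup Us := by
    intro y _
    by_cases hy : y = x
    · exact Opens.mem_iSup.mpr ⟨true, hy ▸ hxU⟩
    · exact Opens.mem_iSup.mpr ⟨false, hy⟩
  obtain ⟨σ, hσ, -⟩ := Fs.existsUnique_gluing' Us ⊤ (fun b => homOfLE le_top) hcover sf hcompat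
  exact ⟨σ, hσ true⟩


set_option backward.isDefEq.respectTransparency false in
/-- the closed point step of the criterion of Serre: if global sections are exact on
quasi-coherent ideals, every closed point has an affine neighbourhood of the form `X_f`. -/
theorem exists_affine_basicOpen_of_isClosed
    (hsurj : ∀ (J N : X.Modules) (i : J ⟶ Coh.structureModule X) (k : N ⟶ J), Mono i → Mono k →
      J.IsQuasicoherent → N.IsQuasicoherent →
      Function.Surjective ((cokernel.π k).app ⊤).hom)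
    (x : X) (hx : IsClosed ({x} : Set X)) :
    ∃ f : Γ(X, ⊤), IsAffineOpen (X.basicOpen f) ∧ x ∈ X.basicOpen f := by
  obtain ⟨U, hU, hxU⟩ : ∃ U : X.Opens, IsAffineOpen U ∧ x ∈ U := by
    obtain ⟨_, ⟨U, hU, rfl⟩, hxU, -⟩ :=
      X.isBasis_affineOpens.exists_subset_of_mem_open (Set.mem_univ x) isOpen_univ
    exact ⟨U, hU, hxU⟩
  let K : X.IdealSheafData := Scheme.IdealSheafData.vanishingIdeal
    (⟨(U : Set X)ᶜ, U.isOpen.isClosed_compl⟩ : Closeds X)
  have h1 : (1 : Γ(X, U)) ∈ K.ideal ⟨U, hU⟩ := one_mem_vanishingIdeal ⟨U, hU⟩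
  let J := ClSub.idealMod K
  let i : J ⟶ Coh.structureModule X := ClSub.idealModι K
  have hmonoi : Mono i := by
    show Mono (ClSub.idealModι K)
    unfold ClSub.idealModι
    infer_instance
  have hqJ : J.IsQuasicoherent := Groth.Agent.H44.isQuasicoherent_idealMod K
  let g : Γ(J, U) := OmegaSh.kerLift (ClSub.toSubscheme K) U
    (OmegaSh.strSect X U 1) ((Groth.Agent.H44.toSubscheme_app_eq_zero_iff K hU 1).2 h1)
  have hg : (i.app U).hom g = OmegaSh.strSect X U 1 := OmegaSh.ι_kerLift _ _ _ _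
  let N := vanishFam J i x
  have hN : N.IsLocal := isLocal_vanishFam J i x
  have hqN : (N.toModules hN).IsQuasicoherent := isQuasicoherent_vanishFam J i x
  let k : N.toModules hN ⟶ J := N.ι hN
  let π : J ⟶ cokernel k := cokernel.π k
  -- the section of the cokernel over `U`
  have hvan : ∀ (W : X.Opens) (h : W ≤ U), x ∉ W →
      mres (cokernel k) h ((π.app U).hom g) = 0 := by
    intro W h hxW
    have h2 := Groth.Agent.H12.QCohExt.app_mres π h g
    refine h2.trans ?_
    have hmem : mres J h g ∈ N.carrier W := by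
      rw [mem_vanishFam]
      intro hcon
      exact hxW (X.basicOpen_le _ hcon)
    obtain ⟨z, hz⟩ := N.exists_ι_app_eq hN W _ hmem
    rw [← hz]
    have h3 : k ≫ π = 0 := cokernel.condition k
    exact congrArg (fun φ : N.toModules hN ⟶ cokernel k => (φ.app W).hom z) h3
  obtain ⟨σ, hσ⟩ := exists_glue_zero (cokernel k) x hx U hxU ((π.app U).hom g) hvan
  obtain ⟨f, hf⟩ := hsurj J (N.toModules hN) i k hmonoi inferInstance hqJ hqN σ
  -- `f|U - g` is killed by `π`, hence lies in `N`
  have hker : (π.app U).hom (g - mres J (le_top : U ≤ ⊤) f) = 0 := by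
    rw [map_sub, sub_eq_zero]
    have h2 := Groth.Agent.H12.QCohExt.app_mres π (le_top : U ≤ ⊤) f
    rw [← h2]
    have hf' : (π.app ⊤).hom f = σ := hf
    rw [hf', hσ]
  have hex : (ShortComplex.mk k π (cokernel.condition k)).Exact := ShortComplex.exact_cokernel k
  obtain ⟨z, hz⟩ := app_exact_of_exact_of_mono (ShortComplex.mk k π (cokernel.condition k)) hex U
    (g - mres J (le_top : U ≤ ⊤) f) hker
  have hmemN : g - mres J (le_top : U ≤ ⊤) f ∈ N.carrier U := by
    have hz' : ((N.ι hN).app U).hom z = g - mres J (le_top : U ≤ ⊤) f := hz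
    rw [← hz']
    exact N.ι_app_mem hN U z
  rw [mem_vanishFam] at hmemN
  let f₀ : Γ(X, ⊤) := fn ⊤ ((i.app ⊤).hom f)
  have hfres : fn U ((i.app U).hom (mres J (le_top : U ≤ ⊤) f)) =
      X.presheaf.map (homOfLE (le_top : U ≤ ⊤)).op f₀ := by
    have h3 := Groth.Agent.H12.QCohExt.app_mres i (le_top : U ≤ ⊤) f
    exact h3.symm
  have hxf : x ∈ X.basicOpen f₀ := by
    by_contra hcon
    have h4 : fn U ((i.app U).hom (g - mres J (le_top : U ≤ ⊤) f)) =
        1 - X.presheaf.map (homOfLE (le_top : U ≤ ⊤)).op f₀ := by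
      rw [map_sub]
      show fn U ((i.app U).hom g) - fn U ((i.app U).hom (mres J (le_top : U ≤ ⊤) f)) = _
      rw [hfres, hg]
      rfl
    rw [h4] at hmemN
    have h5 : x ∈ X.basicOpen ((1 - X.presheaf.map (homOfLE (le_top : U ≤ ⊤)).op f₀) +
        X.presheaf.map (homOfLE (le_top : U ≤ ⊤)).op f₀) := by
      rw [sub_add_cancel, Scheme.basicOpen_one]
      exact hxU
    rcases X.basicOpen_add_le _ _ h5 with h6 | h6
    · exact hmemN h6
    · rw [Scheme.basicOpen_res] at h6
      exact hcon h6.2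
  have hfU : X.basicOpen f₀ ≤ U := by
    intro z hz
    obtain ⟨W, hW, hzW⟩ : ∃ W : X.Opens, IsAffineOpen W ∧ z ∈ W := by
      obtain ⟨_, ⟨W, hW, rfl⟩, hzW, -⟩ :=
        X.isBasis_affineOpens.exists_subset_of_mem_open (Set.mem_univ z) isOpen_univ
      exact ⟨W, hW, hzW⟩
    have hmem := Groth.Agent.H44.idealModι_app_mem_ideal K hW (mres J (le_top : W ≤ ⊤) f)
    have heq : OmegaSh.fnSect X W (((ClSub.idealModι K).app W).hom (mres J (le_top : W ≤ ⊤) f)) =
        X.presheaf.map (homOfLE (le_top : W ≤ ⊤)).op f₀ := by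
      have h3 := Groth.Agent.H12.QCohExt.app_mres i (le_top : W ≤ ⊤) f
      exact h3.symm
    rw [heq] at hmem
    have := basicOpen_le_of_vanishingIdeal U W hW _ hmem
    apply this
    rw [Scheme.basicOpen_res]
    exact ⟨hzW, hz⟩
  refine ⟨f₀, ?_, hxf⟩
  have : X.basicOpen f₀ = X.basicOpen (X.presheaf.map (homOfLE (le_top : U ≤ ⊤)).op f₀) := by
    rw [Scheme.basicOpen_res]
    exact (inf_eq_right.mpr hfU).symm
  rw [this]
  exact hU.basicOpen _


/-- on a quasi-compact scheme, if every closed point lies in an affine `X_f`, finitely many affine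
`X_f` cover the scheme. -/
theorem exists_finite_affine_basicOpen_cover [CompactSpace X]
    (hcl : ∀ x : X, IsClosed ({x} : Set X) →
      ∃ f : Γ(X, ⊤), IsAffineOpen (X.basicOpen f) ∧ x ∈ X.basicOpen f) :
    ∃ (n : ℕ) (fs : Fin n → Γ(X, ⊤)), (∀ i, IsAffineOpen (X.basicOpen (fs i))) ∧
      ∀ x : X, ∃ i, x ∈ X.basicOpen (fs i) := by
  let S : Set Γ(X, ⊤) := {f | IsAffineOpen (X.basicOpen f)}
  have hall : ∀ x : X, ∃ f : S, x ∈ X.basicOpen f.1 := by
    by_contra hcon
    push Not at hcon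
    let Z : Set X := {x | ∀ f : S, x ∉ X.basicOpen f.1}
    have hZc : IsClosed Z := by
      have : Z = ⋂ f : S, ((X.basicOpen f.1 : Set X))ᶜ := by
        ext x
        simp only [Z, Set.mem_ofPred_eq, Set.mem_iInter, Set.mem_compl_iff, SetLike.mem_coe]
      rw [this]
      exact isClosed_iInter fun f => (X.basicOpen f.1).isOpen.isClosed_compl
    obtain ⟨x, hx⟩ := hcon
    obtain ⟨y, hyZ, hy⟩ := hZc.exists_closed_singleton ⟨x, hx⟩
    obtain ⟨f, hf, hyf⟩ := hcl y hy
    exact hyZ ⟨f, hf⟩ hyf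
  obtain ⟨t, ht⟩ := isCompact_univ.elim_finite_subcover (fun f : S => (X.basicOpen f.1 : Set X))
    (fun f => (X.basicOpen f.1).isOpen) (fun x _ => by
      obtain ⟨f, hf⟩ := hall x
      exact Set.mem_iUnion.mpr ⟨f, hf⟩)
  refine ⟨t.card, fun i => (t.equivFin.symm i).1.1, fun i => (t.equivFin.symm i).1.2, ?_⟩
  intro x
  have := ht (Set.mem_univ x)
  simp only [Set.mem_iUnion, exists_prop] at this
  obtain ⟨f, hft, hxf⟩ := this
  refine ⟨t.equivFin ⟨f, hft⟩, ?_⟩
  show x ∈ X.basicOpen (t.equivFin.symm (t.equivFin ⟨f, hft⟩)).1.1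
  rw [Equiv.symm_apply_apply]
  exact hxf

/-- the projections of a finite power of the structure module. -/
def proj (n : ℕ) (i : Fin n) : FlatMod.freeMod X n ⟶ Coh.structureModule X :=
  Sigma.desc (fun k : Fin n => if k = i then 𝟙 _ else 0)

theorem sum_proj_ι (n : ℕ) :
    ∑ i : Fin n, proj (X := X) n i ≫ Sigma.ι (fun _ : Fin n => Coh.structureModule X) i =
      𝟙 (FlatMod.freeMod X n) := by
  apply Sigma.hom_ext
  intro k
  rw [Preadditive.comp_sum, Category.comp_id]
  rw [Finset.sum_eq_single k]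
  · rw [← Category.assoc]
    unfold proj
    rw [Sigma.ι_desc, if_pos rfl, Category.id_comp]
  · intro b _ hb
    rw [← Category.assoc]
    unfold proj
    rw [Sigma.ι_desc, if_neg (Ne.symm hb), zero_comp]
  · intro h
    exact absurd (Finset.mem_univ k) h

/-- evaluation of morphisms at a section, as an additive map. -/
def evalHom {M N : X.Modules} (W : X.Opens) (y : Γ(M, W)) : (M ⟶ N) →+ Γ(N, W) where
  toFun φ := (φ.app W).hom y
  map_zero' := rfl
  map_add' _ _ := rfl

/-- partition of unity step. -/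
theorem isAffine_of_surjective_desc (n : ℕ) (fs : Fin n → Γ(X, ⊤))
    (haff : ∀ i, IsAffineOpen (X.basicOpen (fs i)))
    (hsurj : Function.Surjective ((Sigma.desc (fun i : Fin n =>
      sectionHom (Coh.structureModule X) (fs i)) : FlatMod.freeMod X n ⟶ _).app ⊤).hom) :
    IsAffine X := by
  set p : FlatMod.freeMod X n ⟶ Coh.structureModule X :=
    Sigma.desc (fun i : Fin n => sectionHom (Coh.structureModule X) (fs i)) with hp
  obtain ⟨y, hy⟩ := hsurj (1 : Γ(X, ⊤))
  have hdecomp : p = ∑ i : Fin n, proj n i ≫ sectionHom (Coh.structureModule X) (fs i) := by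
    have h1 : p = 𝟙 _ ≫ p := (Category.id_comp p).symm
    rw [h1, ← sum_proj_ι n, Preadditive.sum_comp]
    refine Finset.sum_congr rfl fun i _ => ?_
    rw [Category.assoc, hp, Sigma.ι_desc]
  have h2 : (p.app ⊤).hom y =
      ∑ i : Fin n, ((proj n i ≫ sectionHom (Coh.structureModule X) (fs i)).app ⊤).hom y := by
    have := congrArg (evalHom (N := Coh.structureModule X) ⊤ y) hdecomp
    rw [map_sum] at this
    exact this
  have hspan : Ideal.span (Set.range fs) = ⊤ := by
    rw [Ideal.eq_top_iff_one]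
    have h3 : (1 : Γ(X, ⊤)) = ∑ i : Fin n, fn ⊤ ((((proj n i).app ⊤).hom y)) * fs i := by
      have h4 : fn ⊤ ((p.app ⊤).hom y) = 1 := hy
      rw [← h4, h2]
      show fn ⊤ (∑ i : Fin n, _) = _
      refine Finset.sum_congr rfl fun i _ => ?_
      have h5 := sectionHom_app (Coh.structureModule X) (fs i) ⊤ (((proj n i).app ⊤).hom y)
      refine h5.trans ?_
      rw [mres_self]
      rfl
    rw [h3]
    exact Ideal.sum_mem _ fun i _ => Ideal.mul_mem_left _ _ (Ideal.subset_span ⟨i, rfl⟩)
  exact isAffine_of_isAffineOpen_basicOpen (Set.range fs) hspan (by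
    rintro _ ⟨i, rfl⟩
    exact haff i)


theorem epi_desc_sectionHom_of_cover (n : ℕ) (fs : Fin n → Γ(X, ⊤))
    (hcov : ∀ x : X, ∃ i, x ∈ X.basicOpen (fs i)) :
    Epi (Sigma.desc (fun i : Fin n => sectionHom (Coh.structureModule X) (fs i))) := by
  refine epi_desc_sectionHom (Coh.structureModule X) fs ?_
  intro V t x hxV
  obtain ⟨i, hxi⟩ := hcov x
  refine ⟨V ⊓ X.basicOpen (fs i), inf_le_left, ⟨hxV, hxi⟩, ?_⟩
  have hu0 : IsUnit ((X.presheaf.map (homOfLE (X.basicOpen_le (fs i))).op).hom (fs i)) :=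
    RingedSpace.isUnit_res_basicOpen _ (fs i)
  have hu : IsUnit ((X.presheaf.map
      (homOfLE (le_top : V ⊓ X.basicOpen (fs i) ≤ ⊤)).op).hom (fs i)) := by
    have := hu0.map (X.presheaf.map
      (homOfLE (inf_le_right : V ⊓ X.basicOpen (fs i) ≤ X.basicOpen (fs i))).op).hom
    convert this using 1
    rw [← CommRingCat.comp_apply, ← Functor.map_comp]
    rfl
  obtain ⟨v, hv⟩ := hu
  have hmem : mres (Coh.structureModule X) (le_top : V ⊓ X.basicOpen (fs i) ≤ ⊤) (fs i) ∈
      Submodule.span Γ(X, V ⊓ X.basicOpen (fs i))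
        (Set.range fun k => mres (Coh.structureModule X)
          (le_top : V ⊓ X.basicOpen (fs i) ≤ ⊤) (fs k)) :=
    Submodule.subset_span ⟨i, rfl⟩
  have h1 := Submodule.smul_mem _
    (fn _ (mres (Coh.structureModule X) (inf_le_left : V ⊓ X.basicOpen (fs i) ≤ V) t) *
      ((v⁻¹ : (Γ(X, V ⊓ X.basicOpen (fs i)))ˣ) : Γ(X, V ⊓ X.basicOpen (fs i)))) hmem
  convert h1 using 1
  have h2 : mres (Coh.structureModule X) (le_top : V ⊓ X.basicOpen (fs i) ≤ ⊤) (fs i) =
      (v : Γ(X, V ⊓ X.basicOpen (fs i))) := hv.symm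
  rw [h2]
  show fn _ (mres (Coh.structureModule X) (inf_le_left : V ⊓ X.basicOpen (fs i) ≤ V) t) =
    (fn _ (mres (Coh.structureModule X) (inf_le_left : V ⊓ X.basicOpen (fs i) ≤ V) t) *
      ((v⁻¹ : (Γ(X, V ⊓ X.basicOpen (fs i)))ˣ) : Γ(X, V ⊓ X.basicOpen (fs i)))) *
        (v : Γ(X, V ⊓ X.basicOpen (fs i)))
  rw [mul_assoc, Units.inv_mul, mul_one]

/-- EGA II 5.2.1 (c') ⇒ (a). -/
theorem isAffine_of_sections_exact [CompactSpace X]
    (h : ∀ (n : ℕ) (F F'' : X.Modules) (i : F ⟶ FlatMod.freeMod X n) (p : F ⟶ F''),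
      Mono i → Epi p → F.IsQuasicoherent → F''.IsQuasicoherent →
        Function.Surjective (p.val.app (Opposite.op ⊤)).hom) :
    IsAffine X := by
  have hcl : ∀ x : X, IsClosed ({x} : Set X) →
      ∃ f : Γ(X, ⊤), IsAffineOpen (X.basicOpen f) ∧ x ∈ X.basicOpen f := by
    refine exists_affine_basicOpen_of_isClosed ?_
    intro J N i k hi hk hqJ hqN
    have hqc : (cokernel k).IsQuasicoherent := isQuasicoherent_cokernel k
    have hmono : Mono (i ≫ Sigma.ι (fun _ : Fin 1 => Coh.structureModule X) 0) := mono_comp _ _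
    have := h 1 J (cokernel k) (i ≫ Sigma.ι (fun _ : Fin 1 => Coh.structureModule X) 0)
      (cokernel.π k) hmono inferInstance hqJ hqc
    intro b
    obtain ⟨a, ha⟩ := this b
    exact ⟨a, ha⟩
  obtain ⟨n, fs, haff, hcov⟩ := exists_finite_affine_basicOpen_cover hcl
  have hepi := epi_desc_sectionHom_of_cover n fs hcov
  refine isAffine_of_surjective_desc n fs haff ?_
  have := h n (FlatMod.freeMod X n) (Coh.structureModule X) (𝟙 _)
    (Sigma.desc (fun i : Fin n => sectionHom (Coh.structureModule X) (fs i)))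
    inferInstance hepi inferInstance inferInstance
  intro b
  obtain ⟨a, ha⟩ := this b
  exact ⟨a, ha⟩

end Groth.Agent.H12.SerreCrit
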