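import Groth.Agent.H12.StratA
import Groth.Agent.H5.Stalk.Acyclic
import Groth.Agent.S0012

/-!
# Modules vanishing on an open, and the unit `F ⟶ j_* j^* F` of an affine open (helper12)

* `VanishOn U M`: all stalks of `M` at points of the open `U` vanish; closure under subobjects,
  quotients, coproducts; characterisation by sections.
* `unitU U F : F ⟶ j_* j^* F`, whose kernel and cokernel vanish on `U`.
* `subsingleton_HH_push_restrict`: `j_* j^* F` is acyclic when `U` is affine with affine inclusion.
* `subsingleton_HH_of_vanishOn_acyclic`: if quasi-coherent modules vanishing on `U` are acyclic in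
  degrees `> n`, all quasi-coherent modules are acyclic in degrees `> n + 1`.
-/
set_option autoImplicit false
universe u
noncomputable section
namespace Groth.Agent.H12.StratB
open CategoryTheory CategoryTheory.Limits Opposite TopologicalSpace AlgebraicGeometry Abelian
open Groth.Agent.H5.Stalk

variable {X : Scheme.{u}}

/-- `M` vanishes on the open `U`: all its stalks at points of `U` are zero. -/
def VanishOn (U : X.Opens) (M : X.Modules) : Prop :=
  ∀ x ∈ U, IsZero ((stalkFunctor x).obj M)

theorem VanishOn.of_mono {U : X.Opens} {K M : X.Modules} (f : K ⟶ M) [Mono f]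
    (h : VanishOn U M) : VanishOn U K :=
  fun x hx => IsZero.of_mono ((stalkFunctor x).map f) (h x hx)

theorem VanishOn.of_epi {U : X.Opens} {M Q : X.Modules} (f : M ⟶ Q) [Epi f]
    (h : VanishOn U M) : VanishOn U Q :=
  fun x hx => IsZero.of_epi ((stalkFunctor x).map f) (h x hx)

theorem VanishOn.coprod {U : X.Opens} {ι : Type u} (G : ι → X.Modules)
    (h : ∀ i, VanishOn U (G i)) : VanishOn U (∐ G) := by
  intro x hx
  refine IsZero.of_iso ?_ (PreservesCoproduct.iso (stalkFunctor x) G)
  rw [IsZero.iff_id_eq_zero]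
  apply Sigma.hom_ext
  intro i
  exact (h i x hx).eq_of_src _ _

theorem VanishOn.subsingleton_stalk {U : X.Opens} {M : X.Modules} (h : VanishOn U M) {x : X}
    (hx : x ∈ U) : Subsingleton (M.presheaf.stalk x) :=
  ModuleCat.subsingleton_of_isZero (h x hx)

theorem VanishOn.section_eq_zero {U : X.Opens} {M : X.Modules} (h : VanishOn U M) {V : X.Opens}
    (hV : V ≤ U) (t : Γ(M, V)) : t = 0 := by
  refine TopCat.Presheaf.section_ext ⟨M.presheaf, M.isSheaf⟩ V t 0 (fun x hx => ?_)
  have := h.subsingleton_stalk (hV hx)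
  exact Subsingleton.elim _ _

theorem VanishOn.of_sections {U : X.Opens} {M : X.Modules}
    (h : ∀ V : X.Opens, V ≤ U → ∀ t : Γ(M, V), t = 0) : VanishOn U M := by
  intro x hx
  have hs : Subsingleton (M.presheaf.stalk x) := by
    refine subsingleton_of_forall_eq 0 fun m => ?_
    obtain ⟨V, hxV, t, rfl⟩ := M.presheaf.exists_germ_eq m
    have hxVU : x ∈ V ⊓ U := ⟨hxV, hx⟩
    have h1 : M.presheaf.germ (V ⊓ U) x hxVU (M.presheaf.map (homOfLE inf_le_left).op t) =
        M.presheaf.germ V x hxV t := TopCat.Presheaf.germ_res_apply _ _ _ _ _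
    have h2 : M.presheaf.map (homOfLE (inf_le_left : V ⊓ U ≤ V)).op t = 0 := h _ inf_le_right _
    exact h1.symm.trans ((congrArg _ h2).trans (map_zero _))
  have hs' : Subsingleton ((stalkFunctor x).obj M) := hs
  exact ModuleCat.isZero_of_subsingleton _

theorem vanishOn_kernel (U : X.Opens) {M N : X.Modules} (φ : M ⟶ N)
    (h : ∀ V : X.Opens, V ≤ U → Function.Injective (φ.app V)) : VanishOn U (kernel φ) := by
  refine VanishOn.of_sections fun V hV t => ?_
  have h1 : (kernel.ι φ ≫ φ).app V t = 0 := by rw [kernel.condition]; rfl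
  have h2 : (kernel.ι φ).app V t = 0 := h V hV (h1.trans (map_zero _).symm)
  exact app_injective_of_mono (kernel.ι φ) V (h2.trans (map_zero _).symm)

theorem vanishOn_cokernel (U : X.Opens) {M N : X.Modules} (φ : M ⟶ N)
    (h : ∀ V : X.Opens, V ≤ U → Function.Surjective (φ.app V)) : VanishOn U (cokernel φ) := by
  intro x hx
  have hepi : Epi ((stalkFunctor x).map φ) := by
    rw [ModuleCat.epi_iff_surjective]
    intro n
    obtain ⟨V, hxV, t, rfl⟩ := N.presheaf.exists_germ_eq n
    have hxVU : x ∈ V ⊓ U := ⟨hxV, hx⟩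
    obtain ⟨s, hs⟩ := h (V ⊓ U) inf_le_right (N.presheaf.map (homOfLE inf_le_left).op t)
    refine ⟨M.presheaf.germ (V ⊓ U) x hxVU s, ?_⟩
    have h1 := stalkFunctor_map_germ x φ (V ⊓ U) hxVU s
    refine h1.trans ?_
    rw [hs]
    exact TopCat.Presheaf.germ_res_apply _ _ _ _ _
  have h0 : (stalkFunctor x).map φ ≫ (stalkFunctor x).map (cokernel.π φ) = 0 := by
    rw [← Functor.map_comp, cokernel.condition, Functor.map_zero]
  have h1 : (stalkFunctor x).map (cokernel.π φ) = 0 := by
    rw [← cancel_epi ((stalkFunctor x).map φ), h0, comp_zero]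
  exact IsZero.of_epi_eq_zero _ h1

section Unit

variable (U : X.Opens) (F : X.Modules)

/-- the unit `F ⟶ j_* j^* F` for the inclusion `j` of the open `U`. -/
def unitU : F ⟶ (Scheme.Modules.pushforward U.ι).obj (F.restrict U.ι) :=
  (Scheme.Modules.restrictAdjunction U.ι).unit.app F

theorem unitU_app (V : X.Opens) :
    (unitU U F).app V = F.presheaf.map (homOfLE (U.ι.image_preimage_le V)).op := rfl

theorem bijective_map_of_eq {V W : X.Opens} (e : W = V) (h : W ≤ V) :
    Function.Bijective (F.presheaf.map (homOfLE h).op) := by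
  subst e
  have h1 : F.presheaf.map (homOfLE h).op = 𝟙 _ := F.presheaf.map_id _
  rw [h1]
  exact Function.bijective_id

theorem unitU_app_bijective {V : X.Opens} (hV : V ≤ U) :
    Function.Bijective ((unitU U F).app V) := by
  rw [unitU_app]
  refine bijective_map_of_eq F ?_ _
  rw [Scheme.Hom.image_preimage_eq_opensRange_inf, Scheme.Opens.opensRange_ι]
  exact inf_eq_right.mpr hV

theorem vanishOn_kernel_unitU : VanishOn U (kernel (unitU U F)) :=
  vanishOn_kernel U _ fun _ hV => (unitU_app_bijective U F hV).1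

theorem vanishOn_cokernel_unitU : VanishOn U (cokernel (unitU U F)) :=
  vanishOn_cokernel U _ fun _ hV => (unitU_app_bijective U F hV).2

end Unit

section Assembly

open Groth.Agent.Lead.Coh Groth.Agent.H12.StratA Groth.Agent.Lead.SerreAffine

variable (U : X.Opens)

theorem subsingleton_HH_push_restrict (hU : IsAffineOpen U) [IsAffineHom U.ι] (F : X.Modules)
    [F.IsQuasicoherent] (p : ℕ) (hp : 0 < p) :
    Subsingleton (Coh.HH X ((Scheme.Modules.pushforward U.ι).obj (F.restrict U.ι)) p) := by
  have hUa : IsAffine (U : Scheme.{u}) := hU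
  have hq : Coh.IsQCoh (F.restrict U.ι) := inferInstanceAs (F.restrict U.ι).IsQuasicoherent
  obtain ⟨e⟩ := Groth.Agent.S0012.result U.ι (F.restrict U.ι) p
  obtain ⟨n, rfl⟩ := Nat.exists_eq_succ_of_ne_zero hp.ne'
  have h1 : Subsingleton (Coh.HH (U : Scheme.{u}) (F.restrict U.ι) (n + 1)) :=
    subsingleton_HH_of_hVanish_top _ _ _
      (hVanish_of_isAffineOpen _ _ (isAffineOpen_top (U : Scheme.{u})) n)
  exact e.symm.injective.subsingleton

/-- if `U` is an affine open with affine inclusion, and all quasi-coherent modules vanishing on `U`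
are acyclic in degrees `> n`, then all quasi-coherent modules are acyclic in degrees `> n + 1`. -/
theorem subsingleton_HH_of_vanishOn_acyclic (hU : IsAffineOpen U) [IsAffineHom U.ι] (n : ℕ)
    (hZ : ∀ G : X.Modules, G.IsQuasicoherent → VanishOn U G → ∀ p, n < p →
      Subsingleton (Coh.HH X G p))
    (F : X.Modules) [F.IsQuasicoherent] (p : ℕ) (hp : n + 1 < p) :
    Subsingleton (Coh.HH X F p) := by
  obtain ⟨m, rfl⟩ := Nat.exists_eq_succ_of_ne_zero (by omega : p ≠ 0)
  let η := unitU U F
  have hP : ((Scheme.Modules.pushforward U.ι).obj (F.restrict U.ι)).IsQuasicoherent :=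
    Groth.Agent.H8.isQuasicoherent_pushforward_of_qcqs U.ι (F.restrict U.ι)
  have hK : (kernel η).IsQuasicoherent := Groth.Agent.H12.QCohAbelian.isQuasicoherent_kernel η
  have hQ : (cokernel η).IsQuasicoherent := Groth.Agent.H12.QCohAbelian.isQuasicoherent_cokernel η
  have hI : (Abelian.image η).IsQuasicoherent := Groth.Agent.H12.QCohAbelian.isQuasicoherent_image η
  have hS1 := shortExact_kernel_image η
  have hS2 : (ShortComplex.mk (kernel.ι (cokernel.π η)) (cokernel.π η)
      (kernel.condition _)).ShortExact :=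
    ShortComplex.ShortExact.mk' (ShortComplex.exact_kernel (cokernel.π η)) inferInstance
      inferInstance
  have h1 : Subsingleton (Coh.HH X (kernel η) (m + 1)) :=
    hZ _ hK (vanishOn_kernel_unitU U F) _ (by omega)
  have h2 : Subsingleton (Coh.HH X (cokernel η) m) :=
    hZ _ hQ (vanishOn_cokernel_unitU U F) _ (by omega)
  have h3 : Subsingleton (Coh.HH X ((Scheme.Modules.pushforward U.ι).obj (F.restrict U.ι))
      (m + 1)) := subsingleton_HH_push_restrict U hU F _ (Nat.succ_pos m)
  have h4 : Subsingleton (Coh.HH X (Abelian.image η) (m + 1)) :=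
    subsingleton_HH_X₁_of_shortExact _ hS2 m h2 h3
  exact subsingleton_HH_of_shortExact _ hS1 (m + 1) h1 h4

end Assembly

end Groth.Agent.H12.StratB
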