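import Groth.Agent.H12.StratB
import Groth.Agent.H44.FiniteSections
import Groth.Agent.H44.PullbackAffine
import Groth.Agent.S9376

/-!
# The annihilator ideal sheaf of a quasi-coherent module of finite type (helper12)

* `ann_map_basicOpen`: annihilators of sections over affine opens localise.
* `annIdeal G : X.IdealSheafData`, with `annIdeal_smul`, `not_mem_support_annIdeal`.
* `exists_closedImmersion_of_vanishOn`: a quasi-coherent module of finite type vanishing on an open
  `U` is the direct image of a quasi-coherent module on a closed subscheme disjoint from `U`.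
-/
set_option autoImplicit false
universe u
noncomputable section
namespace Groth.Agent.H12.StratC
open CategoryTheory CategoryTheory.Limits Opposite TopologicalSpace AlgebraicGeometry
open Groth.Agent.H18 Groth.Agent.H12.StratB

variable {X : Scheme.{u}} (G : X.Modules)

/-- the annihilator of the sections of a quasi-coherent module of finite type over an affine open
localises. -/
theorem ann_map_basicOpen [G.IsQuasicoherent] [SheafOfModules.IsFiniteType (R := X.ringCatSheaf) G]
    {V : X.Opens} (hV : IsAffineOpen V) (f : Γ(X, V)) :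
    (Module.annihilator Γ(X, V) Γ(G, V)).map (X.presheaf.map (homOfLE (X.basicOpen_le f)).op).hom =
      Module.annihilator Γ(X, X.basicOpen f) Γ(G, X.basicOpen f) := by
  classical
  have hfu : IsUnit (X.presheaf.map (homOfLE (X.basicOpen_le f)).op f) :=
    X.toRingedSpace.isUnit_res_basicOpen f
  apply le_antisymm
  · rw [Ideal.map_le_iff_le_comap]
    intro a ha
    rw [Ideal.mem_comap, Module.mem_annihilator]
    intro y
    obtain ⟨n, x, hx⟩ := exists_pow_smul_eq_res_of_isQuasicoherent G hV f y
    have h1 : X.presheaf.map (homOfLE (X.basicOpen_le f)).op a • mres G (X.basicOpen_le f) x = 0 := by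
      rw [← mres_smul, Module.mem_annihilator.mp ha x, map_zero]
    rw [← hx, smul_comm] at h1
    exact (hfu.pow n).smul_left_cancel.mp (h1.trans (smul_zero _).symm)
  · intro b hb
    have hloc := hV.isLocalization_basicOpen f
    obtain ⟨⟨a, s⟩, hs⟩ := IsLocalization.surj (Submonoid.powers f) b
    obtain ⟨k, hk⟩ := s.2
    have hfin : Module.Finite Γ(X, V) Γ(G, V) := Groth.Agent.H44.finite_sections_of_isFiniteType G hV
    obtain ⟨S, hS⟩ := (Module.Finite.fg_top : (⊤ : Submodule Γ(X, V) Γ(G, V)).FG)
    -- a kills the restrictions of all sections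
    have hres : ∀ g : Γ(G, V), mres G (X.basicOpen_le f) (a • g) = 0 := by
      intro g
      rw [mres_smul]
      have h2 : X.presheaf.map (homOfLE (X.basicOpen_le f)).op a =
          b * X.presheaf.map (homOfLE (X.basicOpen_le f)).op (s : Γ(X, V)) := hs.symm
      rw [h2, mul_comm, mul_smul, Module.mem_annihilator.mp hb, smul_zero]
    choose N hN using fun g : Γ(G, V) =>
      exists_pow_smul_eq_zero_of_isQuasicoherent G hV f (a • g) (hres g)
    -- uniform exponent
    have hann : f ^ (S.sup N) * a ∈ Module.annihilator Γ(X, V) Γ(G, V) := by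
      rw [Module.mem_annihilator]
      intro g
      have hg : g ∈ Submodule.span Γ(X, V) (S : Set Γ(G, V)) := hS ▸ Submodule.mem_top
      induction hg using Submodule.span_induction with
      | mem g hg =>
        obtain ⟨d, hd⟩ : ∃ d, N g + d = S.sup N := ⟨S.sup N - N g, by
          have := Finset.le_sup (f := N) hg; omega⟩
        rw [mul_smul, ← hd, pow_add, mul_comm, mul_smul, hN g, smul_zero]
      | zero => exact smul_zero _
      | add x y _ _ hx hy => rw [smul_add, hx, hy, add_zero]
      | smul c x _ hx => rw [smul_comm, hx, smul_zero]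
    have h3 : (X.presheaf.map (homOfLE (X.basicOpen_le f)).op).hom (f ^ (S.sup N) * a) ∈
        (Module.annihilator Γ(X, V) Γ(G, V)).map
          (X.presheaf.map (homOfLE (X.basicOpen_le f)).op).hom := Ideal.mem_map_of_mem _ hann
    have h4 : (X.presheaf.map (homOfLE (X.basicOpen_le f)).op).hom (f ^ (S.sup N) * a) =
        (X.presheaf.map (homOfLE (X.basicOpen_le f)).op f) ^ (S.sup N + k) * b := by
      have h5 : (X.presheaf.map (homOfLE (X.basicOpen_le f)).op).hom a =
          b * (X.presheaf.map (homOfLE (X.basicOpen_le f)).op).hom (s : Γ(X, V)) := hs.symm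
      rw [map_mul, map_pow, h5, ← hk, map_pow, pow_add]
      ring
    rw [h4] at h3
    obtain ⟨u, hu⟩ := hfu.pow (S.sup N + k)
    have h6 : b = (↑u⁻¹ : Γ(X, X.basicOpen f)) *
        ((X.presheaf.map (homOfLE (X.basicOpen_le f)).op f) ^ (S.sup N + k) * b) := by
      rw [← mul_assoc, ← hu, Units.inv_mul, one_mul]
    rw [h6]
    exact Ideal.mul_mem_left _ _ h3

section AnnIdeal

variable [G.IsQuasicoherent] [SheafOfModules.IsFiniteType (R := X.ringCatSheaf) G]

/-- the annihilator ideal sheaf of a quasi-coherent module of finite type. -/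
def annIdeal : X.IdealSheafData where
  ideal V := Module.annihilator Γ(X, V.1) Γ(G, V.1)
  map_ideal_basicOpen V f := ann_map_basicOpen G V.2 f

theorem annIdeal_smul (V : X.affineOpens) (a : Γ(X, V.1)) (ha : a ∈ (annIdeal G).ideal V)
    (s : Γ(G, V.1)) : a • s = 0 := Module.mem_annihilator.mp ha s

theorem not_mem_support_annIdeal {U : X.Opens} (h : VanishOn U G) {x : X} (hx : x ∈ U) :
    x ∉ (annIdeal G).support := by
  obtain ⟨V, hVa, hxV, hVU⟩ := Opens.isBasis_iff_nbhd.1 X.isBasis_affineOpens hx
  rw [Scheme.IdealSheafData.mem_support_iff_of_mem (U := ⟨V, hVa⟩) hxV]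
  have h1 : (1 : Γ(X, V)) ∈ (annIdeal G).ideal ⟨V, hVa⟩ := by
    change (1 : Γ(X, V)) ∈ Module.annihilator Γ(X, V) Γ(G, V)
    rw [Module.mem_annihilator]
    intro s
    rw [h.section_eq_zero hVU s, smul_zero]
  intro hz
  rw [Scheme.mem_zeroLocus_iff] at hz
  have h2 := hz 1 h1
  rw [Scheme.basicOpen_of_isUnit X isUnit_one] at h2
  exact h2 hxV

/-- a quasi-coherent module of finite type vanishing on an open `U` is the direct image of a
quasi-coherent module on a closed subscheme disjoint from `U`. -/
theorem exists_closedImmersion_of_vanishOn {U : X.Opens} (h : VanishOn U G) :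
    ∃ (Z : Scheme.{u}) (i : Z ⟶ X) (_ : IsClosedImmersion i) (N : Z.Modules),
      N.IsQuasicoherent ∧ (∀ z : Z, i z ∉ U) ∧
        Nonempty (G ≅ (Scheme.Modules.pushforward i).obj N) := by
  let J := annIdeal G
  have hiso : IsIso ((Scheme.Modules.pullbackPushforwardAdjunction J.subschemeι).unit.app G) := by
    rw [Groth.Agent.S9376.result J.subschemeι G inferInstance]
    intro V a ha s
    rw [Scheme.IdealSheafData.ker_subschemeι] at ha
    exact annIdeal_smul G V a ha s
  refine ⟨J.subscheme, J.subschemeι, inferInstance, (Scheme.Modules.pullback J.subschemeι).obj G,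
    inferInstance, ?_, ⟨asIso ((Scheme.Modules.pullbackPushforwardAdjunction J.subschemeι).unit.app G)⟩⟩
  intro z hz
  have h1 : J.subschemeι z ∈ Set.range J.subschemeι := ⟨z, rfl⟩
  rw [Scheme.IdealSheafData.range_subschemeι] at h1
  exact not_mem_support_annIdeal G h hz h1

end AnnIdeal

end Groth.Agent.H12.StratC
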