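import Groth.Agent.H12.StratB
import Groth.Agent.S0440
import Groth.Agent.S1302
import Groth.Prelude.Def_MoreMor

/-!
# Affine stratifications: closed subschemes and the top stratum (helper12)

* `hasAffineStratification_of_closedImmersion`: an affine stratification with `n + 2` strata
  induces one with `n + 1` strata on a closed subscheme missing the top stratum.
* `isAffineOpen_and_isAffineHom_of_range_eq`: an open which is the range of an affine immersion
  from an affine scheme is an affine open with affine inclusion.
-/
set_option autoImplicit false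
universe u
noncomputable section
namespace Groth.Agent.H12.StratD
open CategoryTheory CategoryTheory.Limits Opposite TopologicalSpace AlgebraicGeometry

/-- an affine stratification with `n + 2` strata induces one with `n + 1` strata on any closed
subscheme missing the top stratum. -/
theorem hasAffineStratification_of_closedImmersion {X Z : Scheme.{u}} (i : Z ⟶ X)
    [IsClosedImmersion i] (n : ℕ) (s : X → Fin (n + 2))
    (hcl : ∀ k : Fin (n + 2), IsClosed {x : X | s x ≤ k})
    (hstr : ∀ k : Fin (n + 2), ∃ (W : Scheme.{u}) (ι : W ⟶ X),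
      IsImmersion ι ∧ IsAffine W ∧ IsAffineHom ι ∧ Set.range ι = {x : X | s x = k})
    (hZ : ∀ z : Z, s (i z) ≠ Fin.last (n + 1)) : MoreMor.HasAffineStratification Z n := by
  refine ⟨fun z => (s (i z)).castPred (hZ z), fun k => ?_, fun k => ?_⟩
  · have h1 : {z : Z | (s (i z)).castPred (hZ z) ≤ k} = i ⁻¹' {x : X | s x ≤ k.castSucc} := by
      ext z
      exact Fin.castPred_le_iff (hZ z)
    rw [h1]
    exact (hcl k.castSucc).preimage i.continuous
  · obtain ⟨W, ι, hι, hW, hιa, hr⟩ := hstr k.castSucc
    have hsnd : IsAffineHom (pullback.snd ι i) := MorphismProperty.pullback_snd _ _ hιa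
    refine ⟨pullback ι i, pullback.snd ι i, inferInstance, inferInstance, hsnd, ?_⟩
    rw [Scheme.Pullback.range_snd, hr]
    ext z
    exact ((Fin.castPred_eq_iff_eq_castSucc (s (i z)) (hZ z) k).symm)

/-- an open set which is the range of an affine immersion from an affine scheme is an affine open
with affine inclusion. -/
theorem isAffineOpen_and_isAffineHom_of_range_eq {X : Scheme.{u}} (U : X.Opens) {W : Scheme.{u}}
    (ι : W ⟶ X) [IsImmersion ι] [IsAffine W] [IsAffineHom ι] (hr : Set.range ι = (U : Set X)) :
    IsAffineOpen U ∧ IsAffineHom U.ι := by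
  have hle : Set.range ι ⊆ Set.range U.ι := by
    rw [hr, Scheme.Opens.range_ι]
  let ι' : W ⟶ U := IsOpenImmersion.lift U.ι ι hle
  have hfac : ι' ≫ U.ι = ι := IsOpenImmersion.lift_fac _ _ _
  have himm : IsImmersion ι' := by
    have : IsImmersion (ι' ≫ U.ι) := by rw [hfac]; infer_instance
    exact IsImmersion.of_comp ι' U.ι
  have hsurj : Function.Surjective ι' := by
    intro u
    have h1 : U.ι u ∈ Set.range ι := by rw [hr]; exact u.2
    obtain ⟨w, hw⟩ := h1
    refine ⟨w, ?_⟩
    apply U.ι.injective
    rw [← Scheme.Hom.comp_apply, hfac]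
    exact hw
  have hcl : IsClosedImmersion ι' :=
    .of_isPreimmersion _ (by rw [hsurj.range_eq]; exact isClosed_univ)
  have hUaff : IsAffine (U : Scheme.{u}) := Groth.Agent.S0440.result ι' hsurj
  refine ⟨hUaff, ?_⟩
  exact (Groth.Agent.S1302.result ι' (𝟙 X) ι U.ι ⟨hcl, ⟨hsurj⟩⟩
    ⟨inferInstance, ⟨fun x => ⟨x, rfl⟩⟩⟩ (by rw [hfac, Category.comp_id])).mp inferInstance

end Groth.Agent.H12.StratD
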