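import Groth.Agent.H12.StratC
import Groth.Agent.H12.StratD
import Groth.Agent.S1435
import Groth.Agent.S9819

/-!
# Quasi-coherent cohomology vanishes above the affine stratification number (helper12)

Induction on the number of strata.  The top stratum is an affine open `U` with affine inclusion
`j`; `F ⟶ j_* j^* F` has acyclic target, and kernel and cokernel vanishing on `U`.  Quasi-coherent
modules vanishing on `U` are quotients of coproducts of quasi-coherent submodules of finite type,
which are direct images from closed subschemes (cut out by annihilators) carrying a shorter affine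
stratification; dimension shifting (`StratA.subsingleton_HH_of_generated`) concludes.
-/
set_option autoImplicit false
universe u
noncomputable section
namespace Groth.Agent.H12.StratE
open CategoryTheory CategoryTheory.Limits Opposite TopologicalSpace AlgebraicGeometry
open Groth.Agent.H12.StratA Groth.Agent.H12.StratB Groth.Agent.H12.StratC Groth.Agent.H12.StratD
open Groth.Agent.Lead.Coh

/-- the statement that quasi-coherent cohomology vanishes above the number `n` for all schemes with
an affine stratification indexed by `Fin (n + 1)`. -/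
def VanishingAbove (n : ℕ) : Prop :=
  ∀ (X : Scheme.{u}), MoreMor.HasAffineStratification X n → ∀ (F : X.Modules),
    F.IsQuasicoherent → ∀ p : ℕ, n < p → Subsingleton (Coh.HH X F p)

theorem vanishingAbove_zero : VanishingAbove.{u} 0 := by
  intro X hX F hF p hp
  obtain ⟨s, -, hstr⟩ := hX
  obtain ⟨W, ι, hι, hW, hιa, hr⟩ := hstr 0
  have hsurj : Function.Surjective ι := by
    intro x
    have : x ∈ Set.range ι := by
      rw [hr]
      exact (Fin.subsingleton_one).elim (α := Fin 1) _ _
    exact this
  have hcl : IsClosedImmersion ι :=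
    .of_isPreimmersion _ (by rw [hsurj.range_eq]; exact isClosed_univ)
  have hXa : IsAffine X := Groth.Agent.S0440.result ι hsurj
  obtain ⟨m, rfl⟩ := Nat.exists_eq_succ_of_ne_zero hp.ne'
  exact subsingleton_HH_of_hVanish_top _ _ _
    (hVanish_of_isAffineOpen _ _ (isAffineOpen_top X) m)

/-- acyclicity of quasi-coherent modules of finite type supported off the top stratum. -/
theorem subsingleton_HH_of_finiteType_of_vanishOn {n : ℕ} (ih : VanishingAbove.{u} n)
    {X : Scheme.{u}} (s : X → Fin (n + 2))
    (hcl : ∀ k : Fin (n + 2), IsClosed {x : X | s x ≤ k})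
    (hstr : ∀ k : Fin (n + 2), ∃ (W : Scheme.{u}) (ι : W ⟶ X),
      IsImmersion ι ∧ IsAffine W ∧ IsAffineHom ι ∧ Set.range ι = {x : X | s x = k})
    (U : X.Opens) (hU : (U : Set X) = {x : X | s x = Fin.last (n + 1)})
    (G : X.Modules) [G.IsQuasicoherent] [SheafOfModules.IsFiniteType (R := X.ringCatSheaf) G]
    (hG : VanishOn U G) (p : ℕ) (hp : n < p) : Subsingleton (Coh.HH X G p) := by
  obtain ⟨Z, i, hi, N, hN, hZU, ⟨e⟩⟩ := exists_closedImmersion_of_vanishOn G hG
  have hZ : ∀ z : Z, s (i z) ≠ Fin.last (n + 1) := by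
    intro z hz
    apply hZU z
    change i z ∈ (U : Set X)
    rw [hU]
    exact hz
  have hstrat := hasAffineStratification_of_closedImmersion i n s hcl hstr hZ
  have h1 : Subsingleton (Coh.HH Z N p) := ih Z hstrat N hN p hp
  have hq : Coh.IsQCoh N := hN
  obtain ⟨e'⟩ := Groth.Agent.S0012.result i N p
  have h2 : Subsingleton (Coh.HH X ((Coh.push i).obj N) p) := e'.symm.injective.subsingleton
  exact subsingleton_HH_of_iso e.symm p h2

/-- on a quasi-compact quasi-separated scheme, every quasi-coherent module is a quotient of a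
coproduct of quasi-coherent submodules of finite type. -/
theorem exists_epi_coprod_finiteType {X : Scheme.{u}} [CompactSpace X] [QuasiSeparatedSpace X]
    (F : X.Modules) (hF : F.IsQuasicoherent) :
    ∃ (ι : Type u) (G : ι → X.Modules) (i : ∀ j, G j ⟶ F), (∀ j, Mono (i j)) ∧
      (∀ j, (G j).IsQuasicoherent) ∧
      (∀ j, SheafOfModules.IsFiniteType (R := X.ringCatSheaf) (G j)) ∧ Epi (Sigma.desc i) := by
  have hFq : Coh.IsQCoh F := hF
  have key : ∀ j : (Σ V : X.affineOpens, F.val.obj (op (V : X.Opens))),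
      ∃ (G' : X.Modules) (i : G' ⟶ F), Mono i ∧ Coh.IsQCoh G' ∧ CohB1.IsFT G' ∧
        ∃ g : G'.val.obj (op (j.1 : X.Opens)), (i.val.app (op (j.1 : X.Opens))).hom g = j.2 :=
    fun j => Groth.Agent.S9819.result F j.1 j.2
  choose G' i hi hq hft g hg using key
  refine ⟨_, G', i, hi, hq, hft, ?_⟩
  apply Groth.Agent.H18.epi_of_locally_mem_range
  intro V t x hx
  obtain ⟨W, hWa, hxW, hWV⟩ := Opens.isBasis_iff_nbhd.1 X.isBasis_affineOpens hx
  refine ⟨W, hWV, hxW, ?_⟩
  let j : Σ V : X.affineOpens, F.val.obj (op (V : X.Opens)) :=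
    ⟨⟨W, hWa⟩, Groth.Agent.H18.mres F hWV t⟩
  refine ⟨(Sigma.ι G' j).app W (g j), ?_⟩
  have h1 : (Sigma.ι G' j ≫ Sigma.desc i).app W (g j) = (i j).app W (g j) := by
    rw [Sigma.ι_desc]
  exact h1.trans (hg j)

/-- acyclicity of quasi-coherent modules supported off the top stratum. -/
theorem subsingleton_HH_of_vanishOn {n : ℕ} (ih : VanishingAbove.{u} n)
    {X : Scheme.{u}} [CompactSpace X] [QuasiSeparatedSpace X] (s : X → Fin (n + 2))
    (hcl : ∀ k : Fin (n + 2), IsClosed {x : X | s x ≤ k})
    (hstr : ∀ k : Fin (n + 2), ∃ (W : Scheme.{u}) (ι : W ⟶ X),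
      IsImmersion ι ∧ IsAffine W ∧ IsAffineHom ι ∧ Set.range ι = {x : X | s x = k})
    (U : X.Opens) (hU : (U : Set X) = {x : X | s x = Fin.last (n + 1)})
    (G : X.Modules) (hGq : G.IsQuasicoherent) (hG : VanishOn U G) (p : ℕ) (hp : n < p) :
    Subsingleton (Coh.HH X G p) := by
  refine subsingleton_HH_of_generated (VanishOn U) n ?_ G hGq hG p hp
  intro F hF hFU
  obtain ⟨ι, G', i, hi, hq, hft, hepi⟩ := exists_epi_coprod_finiteType F hF
  refine ⟨ι, G', Sigma.desc i, hepi, hq, ?_, ?_⟩
  · have h1 : VanishOn U (∐ G') :=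
      VanishOn.coprod G' (fun j => have := hi j; VanishOn.of_mono (i j) hFU)
    exact VanishOn.of_mono (kernel.ι _) h1
  · intro j p hp
    have := hi j
    have := hq j
    have := hft j
    exact subsingleton_HH_of_finiteType_of_vanishOn ih s hcl hstr U hU (G' j)
      (VanishOn.of_mono (i j) hFU) p hp

theorem vanishingAbove_succ {n : ℕ} (ih : VanishingAbove.{u} n) : VanishingAbove.{u} (n + 1) := by
  intro X hX F hF p hp
  have hqcqs := (Groth.Agent.S1435.result X).mp ⟨n + 1, hX⟩
  obtain ⟨s, hcl, hstr⟩ := hX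
  have hc := hqcqs.1
  have hqs := hqcqs.2
  have hopen : IsOpen {x : X | s x = Fin.last (n + 1)} := by
    have h1 : {x : X | s x = Fin.last (n + 1)} = {x : X | s x ≤ (Fin.last n).castSucc}ᶜ := by
      ext x
      simp only [Set.mem_ofPred_eq, Set.mem_compl_iff, Fin.ext_iff, Fin.le_def, Fin.val_last,
        Fin.val_castSucc]
      have := (s x).isLt
      omega
    rw [h1]
    exact (hcl _).isOpen_compl
  let U : X.Opens := ⟨_, hopen⟩
  obtain ⟨W, ι, hι, hW, hιa, hr⟩ := hstr (Fin.last (n + 1))
  obtain ⟨hUa, hUι⟩ := isAffineOpen_and_isAffineHom_of_range_eq U ι hr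
  exact subsingleton_HH_of_vanishOn_acyclic U hUa n
    (fun G hGq hG p hp => subsingleton_HH_of_vanishOn ih s hcl hstr U rfl G hGq hG p hp) F p hp

theorem vanishingAbove (n : ℕ) : VanishingAbove.{u} n := by
  induction n with
  | zero => exact vanishingAbove_zero
  | succ n ih => exact vanishingAbove_succ ih

end Groth.Agent.H12.StratE
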