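import Groth.Agent.H12.AlgGen

/-!
helper12: the quasi-coherent subalgebra of a quasi-coherent algebra generated by a quasi-coherent
submodule; it is of finite type when the submodule is.
-/
set_option autoImplicit false
universe u
noncomputable section
namespace Groth.Agent.H12.SubAlg
open CategoryTheory CategoryTheory.Limits Opposite TopologicalSpace AlgebraicGeometry
open Groth.Agent.H18 Groth.Agent.H12.SubSheaf Groth.Agent.H12.AlgGen

variable {X : Scheme.{u}} (B : RelSpec.QCAlg X) (E : X.Modules) (j : E ⟶ B.toModule)

/-- restriction of sections of the algebra. -/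
abbrev bres {W W' : X.Opens} (h : W' ≤ W) : B.presheaf.obj (op W) →+* B.presheaf.obj (op W') :=
  (B.presheaf.map (homOfLE h).op).hom

theorem bres_bres {W W' W'' : X.Opens} (h : W' ≤ W) (h' : W'' ≤ W') (t : B.presheaf.obj (op W)) :
    bres B h' (bres B h t) = bres B (h'.trans h) t := by
  change (B.presheaf.map (homOfLE h).op ≫ B.presheaf.map (homOfLE h').op).hom t = _
  rw [← B.presheaf.map_comp]
  rfl

theorem bres_self {W : X.Opens} (h : W ≤ W) (t : B.presheaf.obj (op W)) : bres B h t = t := by
  have : (homOfLE h).op = 𝟙 (op W) := rfl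
  change (B.presheaf.map (homOfLE h).op).hom t = t
  rw [this, B.presheaf.map_id]
  rfl

/-- the sections all of whose restrictions to affine opens lie in the generated subring. -/
def locGen (W : X.Opens) : Subring (B.presheaf.obj (op W)) :=
  ⨅ U : {U : X.affineOpens // U.1 ≤ W}, (genRing B E j U.1.1).comap (bres B U.2)

theorem mem_locGen (W : X.Opens) (t : B.presheaf.obj (op W)) :
    t ∈ locGen B E j W ↔ ∀ (U : X.Opens) (_ : IsAffineOpen U) (h : U ≤ W),
      bres B h t ∈ genRing B E j U := by
  rw [locGen, Subring.mem_iInf]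
  constructor
  · intro H U hU h
    exact H ⟨⟨U, hU⟩, h⟩
  · intro H U
    exact H U.1.1 U.1.2 U.2

theorem bres_mem_locGen {W W' : X.Opens} (h : W' ≤ W) {t : B.presheaf.obj (op W)}
    (ht : t ∈ locGen B E j W) : bres B h t ∈ locGen B E j W' := by
  rw [mem_locGen] at ht ⊢
  intro U hU hUW
  rw [bres_bres]
  exact ht U hU (hUW.trans h)

theorem locGen_eq_genRing {U : X.Opens} (hU : IsAffineOpen U) :
    locGen B E j U = genRing B E j U := by
  apply le_antisymm
  · intro t ht
    have := (mem_locGen B E j U t).mp ht U hU le_rfl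
    rwa [bres_self] at this
  · intro t ht
    rw [mem_locGen]
    intro U' _ h
    exact res_mem_genRing B E j h ht

theorem str_mem_locGen (W : X.Opens) (r : Γ(X, W)) :
    (B.str.app (op W)).hom r ∈ locGen B E j W := by
  rw [mem_locGen]
  intro U _ h
  change (B.presheaf.map (homOfLE h).op).hom ((B.str.app (op W)).hom r) ∈ _
  rw [str_res]
  exact str_mem_genRing B E j U _

theorem j_mem_locGen (W : X.Opens) (e : Γ(E, W)) :
    toB B W ((j.app W).hom e) ∈ locGen B E j W := by
  rw [mem_locGen]
  intro U _ h
  have h1 := Groth.Agent.H12.QCohExt.app_mres j h e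
  have h2 : bres B h (toB B W ((j.app W).hom e)) = toB B U ((j.app U).hom (mres E h e)) := h1
  rw [h2]
  exact j_mem_genRing B E j U _

/-- locality. -/
theorem mem_locGen_of_locally [E.IsQuasicoherent] (W : X.Opens) (t : B.presheaf.obj (op W))
    (H : ∀ x ∈ W, ∃ (W' : X.Opens) (h : W' ≤ W), x ∈ W' ∧ bres B h t ∈ locGen B E j W') :
    t ∈ locGen B E j W := by
  rw [mem_locGen]
  intro U hU hUW
  let s : Set Γ(X, U) := {f | bres B (X.basicOpen_le f) (bres B hUW t) ∈
      genRing B E j (X.basicOpen f)}
  refine mem_genRing_of_cover B E j hU _ s ?_ (fun f hf => hf)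
  rw [← hU.self_le_iSup_basicOpen_iff]
  intro x hx
  obtain ⟨W', h, hxW', ht⟩ := H x (hUW hx)
  obtain ⟨f, hf, hxf⟩ := hU.exists_basicOpen_le (V := U ⊓ W') ⟨x, ⟨hx, hxW'⟩⟩ hx
  have hfs : f ∈ s := by
    show bres B (X.basicOpen_le f) (bres B hUW t) ∈ genRing B E j (X.basicOpen f)
    have h1 := (mem_locGen B E j W' _).mp ht (X.basicOpen f) (hU.basicOpen f)
      (hf.trans inf_le_right)
    rw [bres_bres] at h1 ⊢
    exact h1
  exact Opens.mem_iSup.mpr ⟨⟨f, hfs⟩, hxf⟩


/-- the family of submodules underlying `locGen`. -/
def locFam : SubFam B.toModule where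
  carrier W :=
    { carrier := {t | toB B W t ∈ locGen B E j W}
      add_mem' := by
        intro a b ha hb
        show toB B W a + toB B W b ∈ locGen B E j W
        exact Subring.add_mem _ ha hb
      zero_mem' := by
        show (0 : B.presheaf.obj (op W)) ∈ locGen B E j W
        exact Subring.zero_mem _
      smul_mem' := fun r t ht => by
        show toB B W (r • t) ∈ locGen B E j W
        rw [toB_smul]
        exact Subring.mul_mem _ (str_mem_locGen B E j W r) ht }
  res h _ hs := bres_mem_locGen B E j h hs

theorem isLocal_locFam [E.IsQuasicoherent] : (locFam B E j).IsLocal := by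
  intro W t H
  exact mem_locGen_of_locally B E j W (toB B W t) H

/-- the presheaf of subrings. -/
def subPresheaf : TopCat.Presheaf CommRingCat.{u} X.carrier where
  obj W := CommRingCat.of ↥(locGen B E j W.unop)
  map {W W'} i := CommRingCat.ofHom
    (((B.presheaf.map i).hom.comp (locGen B E j W.unop).subtype).codRestrict
      (locGen B E j W'.unop) (fun t => bres_mem_locGen B E j i.unop.le t.2))
  map_id W := by
    apply CommRingCat.hom_ext
    apply RingHom.ext
    intro t
    apply Subtype.ext
    show (B.presheaf.map (𝟙 W)).hom t.1 = t.1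
    rw [B.presheaf.map_id]
    rfl
  map_comp {W W' W''} f g := by
    apply CommRingCat.hom_ext
    apply RingHom.ext
    intro t
    apply Subtype.ext
    show (B.presheaf.map (f ≫ g)).hom t.1 = (B.presheaf.map g).hom ((B.presheaf.map f).hom t.1)
    rw [B.presheaf.map_comp]
    rfl

/-- comparison of underlying presheaves of types. -/
def subPresheafCompForget [E.IsQuasicoherent] :
    (locFam B E j).toPresheafOfModules.presheaf ⋙ forget AddCommGrpCat ≅
      subPresheaf B E j ⋙ forget CommRingCat :=
  NatIso.ofComponents (fun _ => Iso.refl _) (by intros; rfl)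

theorem isSheaf_subPresheaf [E.IsQuasicoherent] : (subPresheaf B E j).IsSheaf :=
  (TopCat.Presheaf.isSheaf_iff_isSheaf_comp (forget CommRingCat) _).mpr
    (TopCat.Presheaf.isSheaf_of_iso (subPresheafCompForget B E j)
      ((TopCat.Presheaf.isSheaf_iff_isSheaf_comp (forget AddCommGrpCat) _).mp
        ((locFam B E j).isSheaf_toPresheafOfModules (isLocal_locFam B E j))))

/-- the structure map. -/
def subStr : X.presheaf ⟶ subPresheaf B E j where
  app W := CommRingCat.ofHom ((B.str.app W).hom.codRestrict (locGen B E j W.unop)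
    (fun r => str_mem_locGen B E j W.unop r))
  naturality {W W'} i := by
    apply CommRingCat.hom_ext
    apply RingHom.ext
    intro r
    apply Subtype.ext
    exact congrArg (fun k => k.hom r) (B.str.naturality i)


/-- the underlying element of the ambient algebra. -/
def svalHom (W : X.Opens) : ((subPresheaf B E j).obj (op W)) →+* B.presheaf.obj (op W) :=
  (locGen B E j W).subtype

theorem svalHom_injective (W : X.Opens) : Function.Injective (svalHom B E j W) :=
  Subtype.val_injective

theorem svalHom_mem (W : X.Opens) (t : (subPresheaf B E j).obj (op W)) :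
    svalHom B E j W t ∈ locGen B E j W := (show ↥(locGen B E j W) from t).2

/-- an element of the subalgebra from an element of `locGen`. -/
def smk (W : X.Opens) (t : B.presheaf.obj (op W)) (ht : t ∈ locGen B E j W) :
    (subPresheaf B E j).obj (op W) := (⟨t, ht⟩ : ↥(locGen B E j W))

theorem svalHom_smk (W : X.Opens) (t : B.presheaf.obj (op W)) (ht : t ∈ locGen B E j W) :
    svalHom B E j W (smk B E j W t ht) = t := rfl

theorem svalHom_str (W : X.Opens) (r : Γ(X, W)) :
    svalHom B E j W (((subStr B E j).app (op W)).hom r) = (B.str.app (op W)).hom r := rfl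

theorem svalHom_map {W W' : X.Opens} (h : W' ≤ W) (t : (subPresheaf B E j).obj (op W)) :
    svalHom B E j W' (((subPresheaf B E j).map (homOfLE h).op).hom t) =
      bres B h (svalHom B E j W t) := rfl

theorem isQC_sub [E.IsQuasicoherent] : RelSpec.IsQC (subPresheaf B E j) (subStr B E j) := by
  intro U hU r
  let _ := ((subPresheaf B E j).map (homOfLE (X.basicOpen_le r)).op).hom.toAlgebra
  let _ := (B.presheaf.map (homOfLE (X.basicOpen_le r)).op).hom.toAlgebra
  have hloc : IsLocalization.Away ((B.str.app (op U)).hom r)
      (B.presheaf.obj (op (X.basicOpen r))) := B.isQC U hU r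
  have halg : ∀ t : (subPresheaf B E j).obj (op U),
      algebraMap ((subPresheaf B E j).obj (op U)) ((subPresheaf B E j).obj (op (X.basicOpen r))) t =
      ((subPresheaf B E j).map (homOfLE (X.basicOpen_le r)).op).hom t := fun _ => rfl
  rw [IsLocalization.Away, isLocalization_iff]
  refine ⟨?_, ?_, ?_⟩
  · rintro ⟨_, n, rfl⟩
    have hu : IsUnit ((X.presheaf.map (homOfLE (X.basicOpen_le r)).op).hom r) :=
      RingedSpace.isUnit_res_basicOpen _ r
    have h1 : algebraMap ((subPresheaf B E j).obj (op U))
        ((subPresheaf B E j).obj (op (X.basicOpen r)))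
        (((subStr B E j).app (op U)).hom r) =
        ((subStr B E j).app (op (X.basicOpen r))).hom
          ((X.presheaf.map (homOfLE (X.basicOpen_le r)).op).hom r) := by
      apply svalHom_injective
      rw [halg, svalHom_map, svalHom_str, svalHom_str]
      exact str_res B (X.basicOpen_le r) r
    show IsUnit (algebraMap ((subPresheaf B E j).obj (op U))
      ((subPresheaf B E j).obj (op (X.basicOpen r)))
      ((((subStr B E j).app (op U)).hom r) ^ n))
    rw [map_pow, h1]
    exact (hu.map _).pow n
  · intro z
    have hz : svalHom B E j _ z ∈ genRing B E j (X.basicOpen r) := by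
      rw [← locGen_eq_genRing B E j (hU.basicOpen r)]
      exact svalHom_mem B E j _ z
    obtain ⟨n, a, ha, haz⟩ := exists_pow_mul_eq_res B E j hU r hz
    have ha' : a ∈ locGen B E j U := by rw [locGen_eq_genRing B E j hU]; exact ha
    refine ⟨(smk B E j U a ha', ⟨(((subStr B E j).app (op U)).hom r) ^ n, n, rfl⟩), ?_⟩
    apply svalHom_injective
    show svalHom B E j _ (z * algebraMap _ _ ((((subStr B E j).app (op U)).hom r) ^ n)) =
      svalHom B E j _ (algebraMap _ _ (smk B E j U a ha'))
    rw [map_mul, halg, halg, svalHom_map, svalHom_map, svalHom_smk, map_pow, svalHom_str,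
      map_pow]
    have h2 : bres B (X.basicOpen_le r) ((B.str.app (op U)).hom r) =
        (B.str.app (op (X.basicOpen r))).hom
          ((X.presheaf.map (homOfLE (X.basicOpen_le r)).op).hom r) :=
      str_res B (X.basicOpen_le r) r
    rw [h2, mul_comm]
    exact haz.symm
  · intro x y hxy
    have h1 : algebraMap (B.presheaf.obj (op U)) (B.presheaf.obj (op (X.basicOpen r)))
        (svalHom B E j U x) =
        algebraMap (B.presheaf.obj (op U)) (B.presheaf.obj (op (X.basicOpen r)))
          (svalHom B E j U y) := by
      have := congrArg (svalHom B E j (X.basicOpen r)) hxy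
      rwa [halg, halg, svalHom_map, svalHom_map] at this
    obtain ⟨c, hc⟩ := IsLocalization.exists_of_eq
      (M := Submonoid.powers ((B.str.app (op U)).hom r)) h1
    obtain ⟨m, hm⟩ := c.2
    have hm' : (B.str.app (op U)).hom r ^ m = (c : B.presheaf.obj (op U)) := hm
    refine ⟨⟨(((subStr B E j).app (op U)).hom r) ^ m, m, rfl⟩, ?_⟩
    apply svalHom_injective
    show svalHom B E j U ((((subStr B E j).app (op U)).hom r) ^ m * x) =
      svalHom B E j U ((((subStr B E j).app (op U)).hom r) ^ m * y)
    rw [map_mul, map_mul, map_pow, svalHom_str, hm']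
    exact hc

/-- the quasi-coherent subalgebra generated by `E`. -/
def subAlg [E.IsQuasicoherent] : RelSpec.QCAlg X where
  presheaf := subPresheaf B E j
  isSheaf := isSheaf_subPresheaf B E j
  str := subStr B E j
  isQC := isQC_sub B E j

/-- the inclusion of the subalgebra. -/
def subAlgι [E.IsQuasicoherent] : subAlg B E j ⟶ B where
  hom :=
    { app := fun W => CommRingCat.ofHom (locGen B E j W.unop).subtype
      naturality := fun _ _ _ => rfl }
  comm := rfl


theorem finiteType_subAlg_str [E.IsQuasicoherent]
    (hE : SheafOfModules.IsFiniteType (R := X.ringCatSheaf) E) (V : X.affineOpens) :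
    ((subAlg B E j).str.app (op V.1)).hom.FiniteType := by
  have := hE
  have hfin : Module.Finite Γ(X, V.1) Γ(E, V.1) :=
    Groth.Agent.H44.finite_sections_of_isFiniteType E V.2
  obtain ⟨S, hS⟩ := hfin.fg_top
  let _ := ((subStr B E j).app (op V.1)).hom.toAlgebra
  show Algebra.FiniteType Γ(X, V.1) ((subPresheaf B E j).obj (op V.1))
  classical
  let G : Finset ((subPresheaf B E j).obj (op V.1)) :=
    S.image (fun e => smk B E j V.1 (toB B V.1 ((j.app V.1).hom e)) (j_mem_locGen B E j V.1 e))
  refine ⟨⟨G, ?_⟩⟩
  rw [eq_top_iff]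
  intro t _
  have halg : ∀ r : Γ(X, V.1), algebraMap Γ(X, V.1) ((subPresheaf B E j).obj (op V.1)) r =
      ((subStr B E j).app (op V.1)).hom r := fun _ => rfl
  have keyE : ∀ e : Γ(E, V.1), smk B E j V.1 (toB B V.1 ((j.app V.1).hom e))
      (j_mem_locGen B E j V.1 e) ∈
        Algebra.adjoin Γ(X, V.1) (G : Set ((subPresheaf B E j).obj (op V.1))) := by
    intro e
    have he : e ∈ Submodule.span Γ(X, V.1) (S : Set Γ(E, V.1)) := by rw [hS]; trivial
    induction he using Submodule.span_induction with
    | mem x hx =>
      apply Algebra.subset_adjoin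
      rw [Finset.coe_image]
      exact ⟨x, hx, rfl⟩
    | zero =>
      have : smk B E j V.1 (toB B V.1 ((j.app V.1).hom 0)) (j_mem_locGen B E j V.1 0) = 0 := by
        apply svalHom_injective
        show toB B V.1 ((j.app V.1).hom 0) = svalHom B E j V.1 0
        rw [map_zero, map_zero]
        rfl
      rw [this]
      exact Subalgebra.zero_mem _
    | add x y _ _ hx hy =>
      have : smk B E j V.1 (toB B V.1 ((j.app V.1).hom (x + y))) (j_mem_locGen B E j V.1 _) =
          smk B E j V.1 _ (j_mem_locGen B E j V.1 x) +
            smk B E j V.1 _ (j_mem_locGen B E j V.1 y) := by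
        apply svalHom_injective
        show toB B V.1 ((j.app V.1).hom (x + y)) = svalHom B E j V.1 (_ + _)
        rw [map_add, map_add]
        rfl
      rw [this]
      exact Subalgebra.add_mem _ hx hy
    | smul c x _ hx =>
      have : smk B E j V.1 (toB B V.1 ((j.app V.1).hom (c • x))) (j_mem_locGen B E j V.1 _) =
          algebraMap Γ(X, V.1) ((subPresheaf B E j).obj (op V.1)) c *
            smk B E j V.1 _ (j_mem_locGen B E j V.1 x) := by
        apply svalHom_injective
        show toB B V.1 ((j.app V.1).hom (c • x)) = svalHom B E j V.1 (_ * _)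
        rw [map_mul, Scheme.Modules.Hom.app_smul, toB_smul]
        rfl
      rw [this]
      exact Subalgebra.mul_mem _ (Subalgebra.algebraMap_mem _ c) hx
  -- every element whose value lies in the generated subring is in the adjoin
  have key : ∀ a : B.presheaf.obj (op V.1), a ∈ genRing B E j V.1 →
      ∀ ha : a ∈ locGen B E j V.1, smk B E j V.1 a ha ∈
        Algebra.adjoin Γ(X, V.1) (G : Set ((subPresheaf B E j).obj (op V.1))) := by
    intro a ha
    induction ha using Subring.closure_induction with
    | mem x hx =>
      intro hxl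
      rcases hx with ⟨r, rfl⟩ | ⟨e, rfl⟩
      · have : smk B E j V.1 ((B.str.app (op V.1)).hom r) hxl =
            algebraMap Γ(X, V.1) ((subPresheaf B E j).obj (op V.1)) r := rfl
        rw [this]
        exact Subalgebra.algebraMap_mem _ r
      · exact keyE e
    | zero =>
      intro hl
      have : smk B E j V.1 0 hl = 0 := rfl
      rw [this]
      exact Subalgebra.zero_mem _
    | one =>
      intro hl
      have : smk B E j V.1 1 hl = 1 := rfl
      rw [this]
      exact Subalgebra.one_mem _
    | add x y hx hy ihx ihy =>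
      intro hl
      have hxl : x ∈ locGen B E j V.1 := by rw [locGen_eq_genRing B E j V.2]; exact hx
      have hyl : y ∈ locGen B E j V.1 := by rw [locGen_eq_genRing B E j V.2]; exact hy
      have : smk B E j V.1 (x + y) hl = smk B E j V.1 x hxl + smk B E j V.1 y hyl := rfl
      rw [this]
      exact Subalgebra.add_mem _ (ihx hxl) (ihy hyl)
    | neg x hx ihx =>
      intro hl
      have hxl : x ∈ locGen B E j V.1 := by rw [locGen_eq_genRing B E j V.2]; exact hx
      have : smk B E j V.1 (-x) hl = - smk B E j V.1 x hxl := rfl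
      rw [this]
      exact Subalgebra.neg_mem _ (ihx hxl)
    | mul x y hx hy ihx ihy =>
      intro hl
      have hxl : x ∈ locGen B E j V.1 := by rw [locGen_eq_genRing B E j V.2]; exact hx
      have hyl : y ∈ locGen B E j V.1 := by rw [locGen_eq_genRing B E j V.2]; exact hy
      have : smk B E j V.1 (x * y) hl = smk B E j V.1 x hxl * smk B E j V.1 y hyl := rfl
      rw [this]
      exact Subalgebra.mul_mem _ (ihx hxl) (ihy hyl)
  have ht := svalHom_mem B E j V.1 t
  have ht' : svalHom B E j V.1 t ∈ genRing B E j V.1 := by
    rw [← locGen_eq_genRing B E j V.2]; exact ht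
  exact key _ ht' ht

open Groth.Agent.H12.SubSum in
/-- every section of a quasi-coherent algebra over an affine open lies in a quasi-coherent
subalgebra of finite type, provided single sections lie in quasi-coherent submodules of finite
type. -/
theorem exists_ft_subalgebra
    (hsec : ∀ a : (Σ U : X.affineOpens, Γ(B.toModule, U.1)), Captured B.toModule {a})
    (U : X.affineOpens) (b : B.presheaf.obj (op (U : X.Opens))) :
    ∃ (B' : RelSpec.QCAlg X) (φ : B' ⟶ B),
      (∀ V : X.Opens, Function.Injective (φ.hom.app (op V)).hom) ∧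
      (∀ V : X.affineOpens, (B'.str.app (op (V : X.Opens))).hom.FiniteType) ∧
      b ∈ Set.range (φ.hom.app (op (U : X.Opens))).hom := by
  obtain ⟨E, j, -, hq, hft, hb⟩ := hsec ⟨U, ofB B U.1 b⟩
  obtain ⟨g, hg⟩ := hb _ rfl
  refine ⟨subAlg B E j, subAlgι B E j, fun V => Subtype.val_injective,
    fun V => finiteType_subAlg_str B E j hft V, ?_⟩
  have hmem : b ∈ locGen B E j U.1 := by
    have := j_mem_locGen B E j U.1 g
    have hg' : toB B U.1 ((j.app U.1).hom g) = b := hg
    rwa [hg'] at this
  exact ⟨smk B E j U.1 b hmem, rfl⟩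

end Groth.Agent.H12.SubAlg
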