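import Groth.Agent.H12.QCohIso

/-!
helper12: subsheaves of an `O_X`-module given by families of submodules of sections.

`SubFam F` is a family of submodules `S W ⊆ Γ(F, W)` stable under restriction; if it is local
(`IsLocal`), it defines an `O_X`-module `toModules` with a monomorphism `ι` to `F` whose image on
sections is `S`.
-/

set_option autoImplicit false
universe u

noncomputable section

namespace Groth.Agent.H12.SubSheaf

open CategoryTheory CategoryTheory.Limits Opposite TopologicalSpace AlgebraicGeometry
open Groth.Agent.H18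

variable {X : Scheme.{u}}

/-- a family of submodules of the sections of `F`, stable under restriction. -/
structure SubFam (F : X.Modules) where
  carrier : ∀ W : X.Opens, Submodule Γ(X, W) Γ(F, W)
  res : ∀ {W W' : X.Opens} (h : W' ≤ W) {s : Γ(F, W)}, s ∈ carrier W → mres F h s ∈ carrier W'

namespace SubFam

variable {F : X.Modules}

@[ext]
theorem ext {S T : SubFam F} (h : ∀ W, S.carrier W = T.carrier W) : S = T := by
  cases S; cases T; congr 1; funext W; exact h W

instance : LE (SubFam F) := ⟨fun S T => ∀ W, S.carrier W ≤ T.carrier W⟩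

theorem le_def {S T : SubFam F} : S ≤ T ↔ ∀ W, S.carrier W ≤ T.carrier W := Iff.rfl

/-- the locality (sheaf) condition. -/
def IsLocal (S : SubFam F) : Prop :=
  ∀ (W : X.Opens) (s : Γ(F, W)),
    (∀ x ∈ W, ∃ (W' : X.Opens) (h : W' ≤ W), x ∈ W' ∧ mres F h s ∈ S.carrier W') →
      s ∈ S.carrier W

/-- the whole module. -/
def top (F : X.Modules) : SubFam F where
  carrier _ := ⊤
  res _ _ _ := trivial

theorem isLocal_top : (top F).IsLocal := fun _ _ _ => trivial

/-- intersection of two families. -/
def inf (S T : SubFam F) : SubFam F where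
  carrier W := S.carrier W ⊓ T.carrier W
  res h _ hs := ⟨S.res h hs.1, T.res h hs.2⟩

theorem IsLocal.inf {S T : SubFam F} (hS : S.IsLocal) (hT : T.IsLocal) : (S.inf T).IsLocal := by
  intro W s h
  refine ⟨hS W s ?_, hT W s ?_⟩
  · intro x hx
    obtain ⟨W', hW', hxW', hs⟩ := h x hx
    exact ⟨W', hW', hxW', hs.1⟩
  · intro x hx
    obtain ⟨W', hW', hxW', hs⟩ := h x hx
    exact ⟨W', hW', hxW', hs.2⟩

/-- intersection of a family of families. -/
def iInf {ι : Sort*} (S : ι → SubFam F) : SubFam F where
  carrier W := ⨅ i, (S i).carrier W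
  res h _ hs := by
    rw [Submodule.mem_iInf] at hs ⊢
    exact fun i => (S i).res h (hs i)

theorem mem_iInf {ι : Sort*} (S : ι → SubFam F) (W : X.Opens) (s : Γ(F, W)) :
    s ∈ (iInf S).carrier W ↔ ∀ i, s ∈ (S i).carrier W := Submodule.mem_iInf _

theorem isLocal_iInf {ι : Sort*} (S : ι → SubFam F) (hS : ∀ i, (S i).IsLocal) :
    (iInf S).IsLocal := by
  intro W s h
  rw [mem_iInf]
  intro i
  refine hS i W s ?_
  intro x hx
  obtain ⟨W', hW', hxW', hs⟩ := h x hx
  exact ⟨W', hW', hxW', (mem_iInf S W' _).mp hs i⟩

/-- the associated `PresheafOfModules.Submodule`. -/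
def toSubmodule (S : SubFam F) : PresheafOfModules.Submodule F.val where
  obj U := S.carrier U.unop
  map {U V} f := by
    intro s hs
    have h : V.unop ≤ U.unop := leOfHom f.unop
    have h1 := S.res h hs
    have h2 : (homOfLE h).op = f := Subsingleton.elim _ _
    change mres F h s ∈ S.carrier V.unop at h1
    rw [mres, h2] at h1
    exact h1

/-- the presheaf of modules of a family. -/
def toPresheafOfModules (S : SubFam F) : PresheafOfModules X.ringCatSheaf.obj :=
  S.toSubmodule.toPresheafOfModules

/-- the underlying section of `F`. -/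
def secVal (S : SubFam F) (W : X.Opens) (t : ToType (S.toPresheafOfModules.presheaf.obj (op W))) :
    Γ(F, W) :=
  ((show ↥(S.carrier W) from t) : Γ(F, W))

theorem secVal_mem (S : SubFam F) (W : X.Opens)
    (t : ToType (S.toPresheafOfModules.presheaf.obj (op W))) : S.secVal W t ∈ S.carrier W :=
  (show ↥(S.carrier W) from t).2

/-- sections of the family as sections of the presheaf. -/
def secMk (S : SubFam F) (W : X.Opens) (s : Γ(F, W)) (hs : s ∈ S.carrier W) :
    ToType (S.toPresheafOfModules.presheaf.obj (op W)) :=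
  (⟨s, hs⟩ : ↥(S.carrier W))

theorem secVal_secMk (S : SubFam F) (W : X.Opens) (s : Γ(F, W)) (hs : s ∈ S.carrier W) :
    S.secVal W (S.secMk W s hs) = s := rfl

theorem secVal_injective (S : SubFam F) (W : X.Opens) : Function.Injective (S.secVal W) :=
  fun _ _ h => Subtype.ext h

theorem secVal_map (S : SubFam F) {W W' : X.Opens} (f : W' ⟶ W)
    (t : ToType (S.toPresheafOfModules.presheaf.obj (op W))) :
    S.secVal W' (S.toPresheafOfModules.presheaf.map f.op t) =
      F.presheaf.map f.op (S.secVal W t) := rfl

theorem isSheaf_toPresheafOfModules (S : SubFam F) (hS : S.IsLocal) :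
    TopCat.Presheaf.IsSheaf S.toPresheafOfModules.presheaf := by
  rw [TopCat.Presheaf.isSheaf_iff_isSheafUniqueGluing]
  intro ι U sf hsf
  have hF : TopCat.Presheaf.IsSheaf F.presheaf := F.isSheaf
  let sf' : ∀ i : ι, Γ(F, U i) := fun i => S.secVal (U i) (sf i)
  have hcompat : TopCat.Presheaf.IsCompatible F.presheaf U sf' := by
    intro i j
    have := congrArg (S.secVal (U i ⊓ U j)) (hsf i j)
    rw [secVal_map, secVal_map] at this
    exact this
  obtain ⟨s, hs, huniq⟩ := hF.isSheafUniqueGluing U sf' hcompat
  have hmem : s ∈ S.carrier (iSup U) := by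
    apply hS
    intro x hx
    obtain ⟨i, hi⟩ := Opens.mem_iSup.mp hx
    refine ⟨U i, leOfHom (Opens.leSupr U i), hi, ?_⟩
    have h1 : mres F (leOfHom (Opens.leSupr U i)) s = sf' i := hs i
    rw [h1]
    exact S.secVal_mem (U i) (sf i)
  refine ⟨S.secMk (iSup U) s hmem, ?_, ?_⟩
  · intro i
    apply S.secVal_injective
    rw [secVal_map, secVal_secMk]
    exact hs i
  · intro t ht
    apply S.secVal_injective
    rw [secVal_secMk]
    apply huniq
    intro i
    have := congrArg (S.secVal (U i)) (ht i)
    rw [secVal_map] at this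
    exact this

/-- the `O_X`-module associated to a local family of submodules. -/
def toModules (S : SubFam F) (hS : S.IsLocal) : X.Modules :=
  (⟨S.toPresheafOfModules, S.isSheaf_toPresheafOfModules hS⟩ : SheafOfModules X.ringCatSheaf)

/-- the inclusion into the ambient module. -/
def ι (S : SubFam F) (hS : S.IsLocal) : S.toModules hS ⟶ F :=
  (⟨S.toSubmodule.ι⟩ : SheafOfModules.Hom _ _)

theorem ι_app_apply (S : SubFam F) (hS : S.IsLocal) (W : X.Opens) (t : Γ(S.toModules hS, W)) :
    ((S.ι hS).app W).hom t = S.secVal W t := rfl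

theorem ι_app_mem (S : SubFam F) (hS : S.IsLocal) (W : X.Opens) (t : Γ(S.toModules hS, W)) :
    ((S.ι hS).app W).hom t ∈ S.carrier W := S.secVal_mem W t

theorem ι_app_injective (S : SubFam F) (hS : S.IsLocal) (W : X.Opens) :
    Function.Injective ((S.ι hS).app W).hom := S.secVal_injective W

theorem exists_ι_app_eq (S : SubFam F) (hS : S.IsLocal) (W : X.Opens) (s : Γ(F, W))
    (hs : s ∈ S.carrier W) : ∃ t : Γ(S.toModules hS, W), ((S.ι hS).app W).hom t = s :=
  ⟨S.secMk W s hs, rfl⟩

instance mono_ι (S : SubFam F) (hS : S.IsLocal) : Mono (S.ι hS) := by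
  have h1 : Mono ((Scheme.Modules.toPresheaf X).map (S.ι hS)) := by
    apply (config := { allowSynthFailures := true }) NatTrans.mono_of_mono_app
    intro U
    rw [AddCommGrpCat.mono_iff_injective]
    exact S.ι_app_injective hS U.unop
  exact (Scheme.Modules.toPresheaf X).mono_of_mono_map h1

end SubFam

end Groth.Agent.H12.SubSheaf
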