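import Groth.Agent.H12.TCx

set_option autoImplicit false
universe u v

open CategoryTheory CategoryTheory.Limits MonoidalCategory CohIII

namespace Groth.Agent.H12.TCx
section Vanish
variable {A : Type u} [CommRing A] {ι : Type} {c : ComplexShape ι}
  (P : HomologicalComplex (ModuleCat.{u} A) c) (p : ι)

theorem range_d₁_le_ker_d₀ : LinearMap.range (d₁ P p) ≤ LinearMap.ker (d₀ P p) := by
  rw [LinearMap.range_le_ker_iff]
  exact d₀_comp_d₁ P p

/-- the map `W → P_{next}` induced by the outgoing differential. -/
noncomputable def lW : W P p →ₗ[A] P.X (c.next p) :=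
  (LinearMap.range (d₁ P p)).liftQ (d₀ P p) (range_d₁_le_ker_d₀ P p)

theorem lW_comp_πW : (lW P p) ∘ₗ (πW P p) = d₀ P p :=
  Submodule.liftQ_mkQ _ _ _

theorem lW_rTensor_comp (M : Type u) [AddCommGroup M] [Module A M] :
    ((lW P p).rTensor M) ∘ₗ ((πW P p).rTensor M) = (d₀ P p).rTensor M := by
  rw [← LinearMap.rTensor_comp, lW_comp_πW]

theorem isZero_T_iff (M : ModuleCat.{u} A) :
    IsZero (T P p M) ↔ Function.Injective ((lW P p).rTensor M) := by
  constructor
  · intro h
    have hs : Subsingleton (T P p M) := ModuleCat.subsingleton_of_isZero h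
    rw [injective_iff_map_eq_zero]
    intro x hx
    obtain ⟨z, rfl⟩ := LinearMap.rTensor_surjective M
      (Submodule.mkQ_surjective (LinearMap.range (d₁ P p))) x
    have hz : z ∈ LinearMap.ker ((d₀ P p).rTensor M) := by
      rw [LinearMap.mem_ker, ← lW_rTensor_comp]
      exact hx
    have h0 : cls P p M ⟨z, hz⟩ = 0 := Subsingleton.elim _ _
    have h1 := (cls_eq_zero_iff P p M _).mp h0
    rw [← ker_πW_rTensor] at h1
    exact h1
  · intro h
    have : Subsingleton (T P p M) := by
      refine ⟨fun a b => ?_⟩
      obtain ⟨z, rfl⟩ := cls_surjective P p M a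
      obtain ⟨w, rfl⟩ := cls_surjective P p M b
      have hz : ∀ z : LinearMap.ker ((d₀ P p).rTensor M), cls P p M z = 0 := by
        intro z
        refine (cls_eq_zero_iff P p M z).mpr ?_
        rw [← ker_πW_rTensor, LinearMap.mem_ker]
        apply h
        rw [map_zero, ← LinearMap.comp_apply, lW_rTensor_comp]
        exact z.2
      rw [hz z, hz w]
    exact ModuleCat.isZero_of_subsingleton _

end Vanish
end Groth.Agent.H12.TCx

namespace Groth.Agent.H12.TCx
section Vanish2
variable {A : Type u} [CommRing A] {ι : Type} {c : ComplexShape ι}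
  (P : HomologicalComplex (ModuleCat.{u} A) c) (p : ι)

theorem rTensor_injective_of_split {M₁ M₂ : Type u} [AddCommGroup M₁] [Module A M₁]
    [AddCommGroup M₂] [Module A M₂] (l : M₁ →ₗ[A] M₂) (h : ∃ l' : M₂ →ₗ[A] M₁, l' ∘ₗ l = LinearMap.id)
    (M : Type u) [AddCommGroup M] [Module A M] : Function.Injective (l.rTensor M) := by
  obtain ⟨l', hl'⟩ := h
  have : (l'.rTensor M) ∘ₗ (l.rTensor M) = LinearMap.id := by
    rw [← LinearMap.rTensor_comp, hl', LinearMap.rTensor_id]
  exact Function.HasLeftInverse.injective ⟨l'.rTensor M, fun x => LinearMap.congr_fun this x⟩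

/-- over a local ring, with finite terms and free next term: vanishing of `T_p(k)` implies that
`W → P_{next}` is split injective. -/
theorem lW_split_of_isZero_residueField [IsLocalRing A] [Module.Finite A (P.X p)]
    [Module.Finite A (P.X (c.next p))] [Module.Free A (P.X (c.next p))]
    (hk : IsZero (T P p (ModuleCat.of A (IsLocalRing.ResidueField A)))) :
    ∃ l' : P.X (c.next p) →ₗ[A] W P p, l' ∘ₗ (lW P p) = LinearMap.id := by
  have h1 := (isZero_T_iff P p _).mp hk
  rw [IsLocalRing.split_injective_iff_lTensor_residueField_injective,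
    LinearMap.lTensor_inj_iff_rTensor_inj]
  exact h1

theorem isZero_T_of_isZero_residueField [IsLocalRing A] [Module.Finite A (P.X p)]
    [Module.Finite A (P.X (c.next p))] [Module.Free A (P.X (c.next p))]
    (hk : IsZero (T P p (ModuleCat.of A (IsLocalRing.ResidueField A)))) (M : ModuleCat.{u} A) :
    IsZero (T P p M) :=
  (isZero_T_iff P p M).mpr
    (rTensor_injective_of_split _ (lW_split_of_isZero_residueField P p hk) M)

end Vanish2
end Groth.Agent.H12.TCx
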