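import Groth.Agent.H12.TCx2

set_option autoImplicit false
universe u v

open CategoryTheory CategoryTheory.Limits MonoidalCategory CohIII

namespace Groth.Agent.H12.TCx
section LES
variable {A : Type u} [CommRing A] {ι : Type} {c : ComplexShape ι}
  (P : HomologicalComplex (ModuleCat.{u} A) c)

theorem tensorMap_f {M N : ModuleCat.{u} A} (g : M ⟶ N) (i : ι) :
    (tensorMap P g).f i = P.X i ◁ g := rfl

theorem tensorMap_comp' {M N K : ModuleCat.{u} A} (g : M ⟶ N) (h : N ⟶ K) :
    tensorMap P g ≫ tensorMap P h = tensorMap P (g ≫ h) := by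
  ext i : 1
  show P.X i ◁ g ≫ P.X i ◁ h = P.X i ◁ (g ≫ h)
  exact (MonoidalCategory.whiskerLeft_comp _ _ _).symm

theorem tensorMap_zero' {M N : ModuleCat.{u} A} : tensorMap P (0 : M ⟶ N) = 0 := by
  ext i : 1
  rw [tensorMap_f, HomologicalComplex.zero_f]
  exact MonoidalPreadditive.whiskerLeft_zero

/-- `P ⊗ S` for a short complex `S` of modules. -/
noncomputable def tensorSC (S : ShortComplex (ModuleCat.{u} A)) :
    ShortComplex (HomologicalComplex (ModuleCat.{u} A) c) :=
  ShortComplex.mk (tensorMap P S.f) (tensorMap P S.g) (by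
    rw [tensorMap_comp', S.zero, tensorMap_zero'])

theorem tensorSC_shortExact (hP : ∀ i, Module.Flat A (P.X i)) (S : ShortComplex (ModuleCat.{u} A))
    (hS : S.ShortExact) : (tensorSC P S).ShortExact := by
  apply HomologicalComplex.shortExact_of_degreewise_shortExact
  intro i
  have := hP i
  apply ModuleCat.shortComplex_shortExact
  · show Function.Exact (S.f.hom.lTensor (P.X i)) (S.g.hom.lTensor (P.X i))
    exact Module.Flat.lTensor_exact (P.X i)
      ((ShortComplex.ShortExact.moduleCat_exact_iff_function_exact S).mp hS.exact)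
  · show Function.Injective (S.f.hom.lTensor (P.X i))
    exact Module.Flat.lTensor_preserves_injective_linearMap _ hS.moduleCat_injective_f
  · show Function.Surjective (S.g.hom.lTensor (P.X i))
    exact LinearMap.lTensor_surjective _ hS.moduleCat_surjective_g

end LES
end Groth.Agent.H12.TCx

namespace Groth.Agent.H12.TCx
section LES2
variable {A : Type u} [CommRing A] {ι : Type} {c : ComplexShape ι}
  (P : HomologicalComplex (ModuleCat.{u} A) c)

theorem TFun_map_eq {M N : ModuleCat.{u} A} (g : M ⟶ N) (p : ι) :
    (TFun P p).map g = HomologicalComplex.homologyMap (tensorMap P g) p := rfl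

theorem preservesEpi_iff_preservesMono (hP : ∀ i, Module.Flat A (P.X i)) (p q : ι)
    (hpq : c.Rel p q) :
    (TFun P p).PreservesEpimorphisms ↔ (TFun P q).PreservesMonomorphisms := by
  constructor
  · intro h
    refine ⟨fun {M' M} f hf => ?_⟩
    let S : ShortComplex (ModuleCat.{u} A) := ShortComplex.mk f (cokernel.π f) (by simp)
    have hS : S.ShortExact :=
      { exact := ShortComplex.exact_cokernel f
        mono_f := hf
        epi_g := inferInstanceAs (Epi (cokernel.π f)) }
    have hTS := tensorSC_shortExact P hP S hS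
    have hepi : Epi (HomologicalComplex.homologyMap (tensorSC P S).g p) :=
      h.preserves (cokernel.π f)
    have hδ : hTS.δ p q hpq = 0 := (hTS.homology_exact₃ p q hpq).epi_f_iff.mp hepi
    have := (hTS.homology_exact₁ p q hpq).mono_g_iff.mpr hδ
    exact this
  · intro h
    refine ⟨fun {M M''} g hg => ?_⟩
    let S : ShortComplex (ModuleCat.{u} A) := ShortComplex.mk (kernel.ι g) g (by simp)
    have hS : S.ShortExact :=
      { exact := ShortComplex.exact_kernel g
        mono_f := inferInstanceAs (Mono (kernel.ι g))
        epi_g := hg }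
    have hTS := tensorSC_shortExact P hP S hS
    have hmono : Mono (HomologicalComplex.homologyMap (tensorSC P S).f q) :=
      h.preserves (kernel.ι g)
    have hδ : hTS.δ p q hpq = 0 := (hTS.homology_exact₁ p q hpq).mono_g_iff.mp hmono
    have := (hTS.homology_exact₃ p q hpq).epi_f_iff.mpr hδ
    exact this

end LES2
end Groth.Agent.H12.TCx
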