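import Groth.Agent.H12.TCx3

set_option autoImplicit false
universe u v

open CategoryTheory CategoryTheory.Limits MonoidalCategory CohIII

namespace Groth.Agent.H12.TCx

/-- two surjections with the same kernel have isomorphic targets. -/
noncomputable def equivOfSurjOfKerEq {R : Type*} [CommRing R] {X Y Z : Type*} [AddCommGroup X] [Module R X]
    [AddCommGroup Y] [Module R Y] [AddCommGroup Z] [Module R Z] (f : X →ₗ[R] Y) (g : X →ₗ[R] Z)
    (hf : Function.Surjective f) (hg : Function.Surjective g)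
    (h : LinearMap.ker f = LinearMap.ker g) : Y ≃ₗ[R] Z :=
  (f.quotKerEquivOfSurjective hf).symm ≪≫ₗ (Submodule.quotEquivOfEq _ _ h) ≪≫ₗ
    (g.quotKerEquivOfSurjective hg)

theorem equivOfSurjOfKerEq_apply {R : Type*} [CommRing R] {X Y Z : Type*} [AddCommGroup X] [Module R X]
    [AddCommGroup Y] [Module R Y] [AddCommGroup Z] [Module R Z] (f : X →ₗ[R] Y) (g : X →ₗ[R] Z)
    (hf : Function.Surjective f) (hg : Function.Surjective g)
    (h : LinearMap.ker f = LinearMap.ker g) (x : X) :
    equivOfSurjOfKerEq f g hf hg h (f x) = g x := by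
  unfold equivOfSurjOfKerEq
  simp only [LinearEquiv.trans_apply]
  have : (f.quotKerEquivOfSurjective hf).symm (f x) = Submodule.Quotient.mk x := by
    rw [LinearEquiv.symm_apply_eq]
    rfl
  rw [this]
  rfl


section KerModel
variable {A : Type u} [CommRing A] {ι : Type} {c : ComplexShape ι}
  (P : HomologicalComplex (ModuleCat.{u} A) c) (p : ι)

/-- the map `Z_p(P ⊗ M) → ker (W ⊗ M → P_next ⊗ M)`. -/
noncomputable def toKerW (M : Type u) [AddCommGroup M] [Module A M] :
    LinearMap.ker ((d₀ P p).rTensor M) →ₗ[A] LinearMap.ker ((lW P p).rTensor M) :=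
  (((πW P p).rTensor M) ∘ₗ (LinearMap.ker ((d₀ P p).rTensor M)).subtype).codRestrict _ (by
    intro z
    rw [LinearMap.mem_ker, LinearMap.comp_apply, ← LinearMap.comp_apply, lW_rTensor_comp]
    exact z.2)

theorem toKerW_surjective (M : Type u) [AddCommGroup M] [Module A M] :
    Function.Surjective (toKerW P p M) := by
  rintro ⟨x, hx⟩
  obtain ⟨z, rfl⟩ := LinearMap.rTensor_surjective M
    (Submodule.mkQ_surjective (LinearMap.range (d₁ P p))) x
  have hz : z ∈ LinearMap.ker ((d₀ P p).rTensor M) := by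
    rw [LinearMap.mem_ker, ← lW_rTensor_comp]
    exact hx
  exact ⟨⟨z, hz⟩, Subtype.ext rfl⟩

theorem ker_toKerW (M : ModuleCat.{u} A) :
    LinearMap.ker (toKerW P p M) = LinearMap.ker (cls P p M) := by
  ext z
  rw [LinearMap.mem_ker, LinearMap.mem_ker]
  have h1 : toKerW P p M z = 0 ↔ (πW P p).rTensor M z.1 = 0 := by
    constructor
    · intro h; exact congrArg Subtype.val h
    · intro h; exact Subtype.ext h
  rw [h1]
  have h2 := cls_eq_zero_iff P p M z
  rw [← ker_πW_rTensor, LinearMap.mem_ker] at h2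
  exact h2.symm

theorem exists_TEquivKer (M : ModuleCat.{u} A) :
    ∃ e : T P p M ≃ₗ[A] LinearMap.ker ((lW P p).rTensor M),
      ∀ z : LinearMap.ker ((d₀ P p).rTensor M), e (cls P p M z) = toKerW P p M z :=
  ⟨_, fun z => equivOfSurjOfKerEq_apply (Y := T P p M) (Z := LinearMap.ker ((lW P p).rTensor M))
    (cls P p M) (toKerW P p M) (cls_surjective P p M) (toKerW_surjective P p M)
    (ker_toKerW P p M).symm z⟩

/-- (B): `T_p(M) ≃ ker (W ⊗ M → P_next ⊗ M)`. -/
noncomputable def TEquivKer (M : ModuleCat.{u} A) :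
    T P p M ≃ₗ[A] LinearMap.ker ((lW P p).rTensor M) :=
  (exists_TEquivKer P p M).choose

theorem TEquivKer_cls (M : ModuleCat.{u} A) (z : LinearMap.ker ((d₀ P p).rTensor M)) :
    TEquivKer P p M (cls P p M z) = toKerW P p M z :=
  (exists_TEquivKer P p M).choose_spec z

/-- concrete homology `H_p(P) = ker (W → P_next)`. -/
noncomputable abbrev Hc : Submodule A (W P p) := LinearMap.ker (lW P p)

theorem rid_rTensor {M₁ M₂ : Type u} [AddCommGroup M₁] [Module A M₁]
    [AddCommGroup M₂] [Module A M₂] (l : M₁ →ₗ[A] M₂) (y : TensorProduct A M₁ A) :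
    l ((TensorProduct.rid A M₁) y) = (TensorProduct.rid A M₂) (l.rTensor A y) := by
  induction y using TensorProduct.induction_on with
  | zero => simp
  | tmul m a => simp
  | add a b ha hb => simp only [map_add, ha, hb]

/-- `ker (l ⊗ A) ≃ ker l`. -/
noncomputable def kerRTensorSelf {M₁ M₂ : Type u} [AddCommGroup M₁] [Module A M₁]
    [AddCommGroup M₂] [Module A M₂] (l : M₁ →ₗ[A] M₂) :
    LinearMap.ker (l.rTensor A) ≃ₗ[A] LinearMap.ker l :=
  LinearEquiv.ofSubmodules (TensorProduct.rid A M₁) _ _ (by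
    ext x
    simp only [Submodule.mem_map, LinearMap.mem_ker]
    constructor
    · rintro ⟨y, hy, rfl⟩
      change l ((TensorProduct.rid A M₁) y) = 0
      rw [rid_rTensor, hy, map_zero]
    · intro hx
      refine ⟨(TensorProduct.rid A M₁).symm x, ?_, by simp⟩
      apply (TensorProduct.rid A M₂).injective
      rw [← rid_rTensor, map_zero]
      simpa using hx)

noncomputable def TAEquiv : T P p (ModuleCat.of A A) ≃ₗ[A] Hc P p :=
  TEquivKer P p (ModuleCat.of A A) ≪≫ₗ kerRTensorSelf (lW P p)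

end KerModel
end Groth.Agent.H12.TCx
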