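import Groth.Agent.H12.SubSheaf
import Groth.Agent.H18.AffineFG

/-!
helper12: the subsheaf of a quasi-coherent module generated, over an affine open `V`, by a
submodule `M` of `Γ(F, V)` (and extended maximally outside `V`).
-/

set_option autoImplicit false
universe u

noncomputable section

namespace Groth.Agent.H12.SubSheaf

open CategoryTheory CategoryTheory.Limits Opposite TopologicalSpace AlgebraicGeometry
open Groth.Agent.H18

variable {X : Scheme.{u}} (F : X.Modules)

/-- the span of the restrictions of a set of sections. -/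
def resSpan {W W' : X.Opens} (h : W' ≤ W) (S : Set Γ(F, W)) : Submodule Γ(X, W') Γ(F, W') :=
  Submodule.span Γ(X, W') ((fun s => mres F h s) '' S)

theorem mres_mem_resSpan {W W' : X.Opens} (h : W' ≤ W) {S : Set Γ(F, W)} {s : Γ(F, W)}
    (hs : s ∈ S) : mres F h s ∈ resSpan F h S :=
  Submodule.subset_span ⟨s, hs, rfl⟩

theorem resSpan_mono {W W' : X.Opens} (h : W' ≤ W) {S T : Set Γ(F, W)} (hST : S ⊆ T) :
    resSpan F h S ≤ resSpan F h T :=
  Submodule.span_mono (Set.image_mono hST)

/-- restriction maps spans into spans of restrictions. -/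
theorem mres_mem_resSpan_of_mem_span {W W' : X.Opens} (h : W' ≤ W) (S : Set Γ(F, W))
    {t : Γ(F, W)} (ht : t ∈ Submodule.span Γ(X, W) S) : mres F h t ∈ resSpan F h S := by
  induction ht using Submodule.span_induction with
  | mem y hy => exact mres_mem_resSpan F h hy
  | zero => rw [map_zero]; exact Submodule.zero_mem _
  | add y z _ _ hy hz => rw [map_add]; exact Submodule.add_mem _ hy hz
  | smul a y _ hy => rw [mres_smul]; exact Submodule.smul_mem _ _ hy

theorem resSpan_span {W W' : X.Opens} (h : W' ≤ W) (S : Set Γ(F, W)) :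
    resSpan F h (Submodule.span Γ(X, W) S : Set Γ(F, W)) = resSpan F h S := by
  apply le_antisymm
  · rw [resSpan, Submodule.span_le]
    rintro _ ⟨t, ht, rfl⟩
    exact mres_mem_resSpan_of_mem_span F h S ht
  · exact resSpan_mono F h Submodule.subset_span

/-- transitivity of restricted spans. -/
theorem mres_mem_resSpan_trans {W W' W'' : X.Opens} (h : W' ≤ W) (h' : W'' ≤ W')
    (S : Set Γ(F, W)) {t : Γ(F, W')} (ht : t ∈ resSpan F h S) :
    mres F h' t ∈ resSpan F (h'.trans h) S := by
  induction ht using Submodule.span_induction with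
  | mem y hy =>
    obtain ⟨s, hs, rfl⟩ := hy
    change mres F h' (mres F h s) ∈ _
    rw [mres_mres]
    exact mres_mem_resSpan F _ hs
  | zero => rw [map_zero]; exact Submodule.zero_mem _
  | add y z _ _ hy hz => rw [map_add]; exact Submodule.add_mem _ hy hz
  | smul a y _ hy => rw [mres_smul]; exact Submodule.smul_mem _ _ hy

variable {F}

/-- the family generated over `V` by `M ⊆ Γ(F, V)`, extended maximally outside `V`. -/
def gen (V : X.Opens) (M : Set Γ(F, V)) : SubFam F where
  carrier W :=
    { carrier := {t | ∀ (f : Γ(X, V)) (hf : X.basicOpen f ≤ W),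
        mres F hf t ∈ resSpan F (X.basicOpen_le f) M}
      zero_mem' := by
        intro f hf
        rw [map_zero]
        exact Submodule.zero_mem _
      add_mem' := by
        intro a b ha hb f hf
        rw [map_add]
        exact Submodule.add_mem _ (ha f hf) (hb f hf)
      smul_mem' := by
        intro c a ha f hf
        rw [mres_smul]
        exact Submodule.smul_mem _ _ (ha f hf) }
  res := by
    intro W W' h s hs f hf
    change mres F hf (mres F h s) ∈ _
    rw [mres_mres]
    exact hs f (hf.trans h)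

theorem mem_gen_iff (V : X.Opens) (M : Set Γ(F, V)) (W : X.Opens) (t : Γ(F, W)) :
    t ∈ (gen V M).carrier W ↔ ∀ (f : Γ(X, V)) (hf : X.basicOpen f ≤ W),
      mres F hf t ∈ resSpan F (X.basicOpen_le f) M := Iff.rfl

/-- membership in `gen V M` only depends on the restriction to `V`. -/
theorem mem_gen_iff_inf (V : X.Opens) (M : Set Γ(F, V)) (W : X.Opens) (t : Γ(F, W)) :
    t ∈ (gen V M).carrier W ↔
      mres F (inf_le_left : W ⊓ V ≤ W) t ∈ (gen V M).carrier (W ⊓ V) := by
  constructor
  · intro h
    exact (gen V M).res _ h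
  · intro h f hf
    have h1 := h f (le_inf hf (X.basicOpen_le f))
    change mres F _ (mres F _ t) ∈ _ at h1
    rw [mres_mres] at h1
    exact h1

theorem mres_mem_gen (V : X.Opens) (M : Set Γ(F, V)) {W : X.Opens} (hW : W ≤ V) {m : Γ(F, V)}
    (hm : m ∈ M) : mres F hW m ∈ (gen V M).carrier W := by
  intro f hf
  change mres F hf (mres F hW m) ∈ _
  rw [mres_mres]
  exact mres_mem_resSpan F _ hm

theorem resSpan_le_gen (V : X.Opens) (M : Set Γ(F, V)) {W : X.Opens} (hW : W ≤ V) :
    resSpan F hW M ≤ (gen V M).carrier W := by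
  rw [resSpan, Submodule.span_le]
  rintro _ ⟨m, hm, rfl⟩
  exact mres_mem_gen V M hW hm

theorem gen_mono (V : X.Opens) {M M' : Set Γ(F, V)} (h : M ⊆ M') : gen V M ≤ gen V M' := by
  intro W t ht f hf
  exact resSpan_mono F _ h (ht f hf)

theorem resSpan_image {W W' W'' : X.Opens} (h : W' ≤ W) (h' : W'' ≤ W') (S : Set Γ(F, W)) :
    resSpan F h' ((fun s => mres F h s) '' S) = resSpan F (h'.trans h) S := by
  unfold resSpan
  rw [Set.image_image]
  congr 1
  apply Set.image_congr
  intro s _
  exact mres_mres F h h' s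

section Affine

variable [F.IsQuasicoherent] {V : X.Opens} (hV : IsAffineOpen V)

include hV

/-- over an affine open `W' ≤ V`, the sections of `gen V M` are the span of the restrictions
of `M`. -/
theorem gen_carrier_eq_resSpan (M : Set Γ(F, V)) {W' : X.Opens} (hW' : IsAffineOpen W')
    (h : W' ≤ V) : (gen V M).carrier W' = resSpan F h M := by
  apply le_antisymm
  · intro t ht
    have key := mem_span_of_locally_mem_span F hW' (fun m : M => mres F h m.1) t ?_
    · have hrange : Set.range (fun m : M => mres F h m.1) = (fun s => mres F h s) '' M :=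
        (Set.image_eq_range _ _).symm
      rw [hrange] at key
      exact key
    · intro x hx
      obtain ⟨f, hfW', hxf⟩ := hV.exists_basicOpen_le (V := W') ⟨x, hx⟩ (h hx)
      refine ⟨X.basicOpen f, hfW', hxf, ?_⟩
      have h1 := ht f hfW'
      have hrange : (Set.range fun j : M => mres F hfW' (mres F h j.1)) =
          (fun s => mres F (X.basicOpen_le f) s) '' M := by
        rw [Set.image_eq_range]
        congr 1
        funext j
        exact mres_mres F h hfW' j.1
      rw [hrange]
      exact h1
  · exact resSpan_le_gen V M h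

/-- `gen V M` satisfies the sheaf condition. -/
theorem isLocal_gen (M : Set Γ(F, V)) : (gen V M).IsLocal := by
  intro W t hloc f hf
  have hDf : IsAffineOpen (X.basicOpen f) := hV.basicOpen f
  have key := mem_span_of_locally_mem_span F hDf
    (fun m : M => mres F (X.basicOpen_le f) m.1) (mres F hf t) ?_
  · have hrange : Set.range (fun m : M => mres F (X.basicOpen_le f) m.1) =
        (fun s => mres F (X.basicOpen_le f) s) '' M := (Set.image_eq_range _ _).symm
    rw [hrange] at key
    exact key
  · intro x hx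
    obtain ⟨W', hW', hxW', ht'⟩ := hloc x (hf hx)
    obtain ⟨g, hg, hxg⟩ := hV.exists_basicOpen_le (V := W' ⊓ X.basicOpen f) ⟨x, ⟨hxW', hx⟩⟩
      (X.basicOpen_le f hx)
    have hgf : X.basicOpen g ≤ X.basicOpen f := hg.trans inf_le_right
    have hgW' : X.basicOpen g ≤ W' := hg.trans inf_le_left
    refine ⟨X.basicOpen g, hgf, hxg, ?_⟩
    have h1 := ht' g hgW'
    change mres F hgW' (mres F hW' t) ∈ _ at h1
    rw [mres_mres] at h1
    rw [mres_mres]
    have hrange : (Set.range fun j : M => mres F hgf (mres F (X.basicOpen_le f) j.1)) =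
        (fun s => mres F (X.basicOpen_le g) s) '' M := by
      rw [Set.image_eq_range]
      congr 1
      funext j
      exact mres_mres F _ hgf j.1
    rw [hrange]
    exact h1

omit [F.IsQuasicoherent] in
/-- if `M` restricted to `Y ≤ V` lies in a local family `K`, then `gen V M ≤ K` over `Y`. -/
theorem gen_le_of_isLocal (M : Set Γ(F, V)) {K : SubFam F} (hK : K.IsLocal) {Y : X.Opens}
    (hY : Y ≤ V) (hM : ∀ m ∈ M, mres F hY m ∈ K.carrier Y) {W : X.Opens} (hW : W ≤ Y) :
    (gen V M).carrier W ≤ K.carrier W := by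
  intro t ht
  apply hK
  intro x hx
  obtain ⟨f, hfW, hxf⟩ := hV.exists_basicOpen_le (V := W) ⟨x, hx⟩ (hY (hW hx))
  refine ⟨X.basicOpen f, hfW, hxf, ?_⟩
  have h1 := ht f hfW
  refine (Submodule.span_le.mpr ?_) h1
  rintro _ ⟨m, hm, rfl⟩
  have h2 := K.res (hfW.trans hW) (hM m hm)
  rw [mres_mres] at h2
  exact h2

/-- transitivity: over an affine open `W' ≤ V`, `gen V M` is generated by the restriction of
`M` to `W'`. -/
theorem gen_eq_gen_of_le (M : Set Γ(F, V)) {W' : X.Opens} (hW' : IsAffineOpen W') (h : W' ≤ V)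
    {W'' : X.Opens} (hW'' : W'' ≤ W') :
    (gen V M).carrier W'' = (gen W' ((fun s => mres F h s) '' M)).carrier W'' := by
  apply le_antisymm
  · intro t ht f' hf'
    have h1 : mres F hf' t ∈ (gen V M).carrier (X.basicOpen f') := (gen V M).res hf' ht
    rw [gen_carrier_eq_resSpan hV M (hW'.basicOpen f') ((X.basicOpen_le f').trans h)] at h1
    rw [resSpan_image]
    exact h1
  · intro t ht f hf
    have h1 : mres F hf t ∈ (gen W' ((fun s => mres F h s) '' M)).carrier (X.basicOpen f) :=
      (gen W' _).res hf ht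
    rw [gen_carrier_eq_resSpan hW' _ (hV.basicOpen f) (hf.trans hW''), resSpan_image] at h1
    exact h1

omit [F.IsQuasicoherent] in
/-- elements of the restricted span over a basic open are, up to a power of `g`, restrictions
of elements of the submodule. -/
theorem exists_pow_smul_eq_mres (M : Submodule Γ(X, V) Γ(F, V)) (g : Γ(X, V))
    {t : Γ(F, X.basicOpen g)} (ht : t ∈ resSpan F (X.basicOpen_le g) (M : Set Γ(F, V))) :
    ∃ (n : ℕ) (m : Γ(F, V)), m ∈ M ∧
      (X.presheaf.map (homOfLE (X.basicOpen_le g)).op g) ^ n • t =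
        mres F (X.basicOpen_le g) m := by
  have hloc := hV.isLocalization_basicOpen g
  induction ht using Submodule.span_induction with
  | mem y hy =>
    obtain ⟨m, hm, rfl⟩ := hy
    exact ⟨0, m, hm, by rw [pow_zero, one_smul]⟩
  | zero => exact ⟨0, 0, M.zero_mem, by rw [map_zero, smul_zero]⟩
  | add y z _ _ hy hz =>
    obtain ⟨n1, m1, h1, e1⟩ := hy
    obtain ⟨n2, m2, h2, e2⟩ := hz
    refine ⟨n1 + n2, g ^ n2 • m1 + g ^ n1 • m2,
      M.add_mem (M.smul_mem _ h1) (M.smul_mem _ h2), ?_⟩
    rw [map_add, mres_smul, mres_smul, ← e1, ← e2, map_pow, map_pow, smul_smul, smul_smul,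
      smul_add, ← pow_add, ← pow_add, add_comm n2 n1]
  | smul c y _ hy =>
    obtain ⟨n1, m1, h1, e1⟩ := hy
    obtain ⟨⟨a, ⟨_, n, rfl⟩⟩, ha⟩ := IsLocalization.surj (Submonoid.powers g) c
    have ha' : c * (X.presheaf.map (homOfLE (X.basicOpen_le g)).op g) ^ n =
        X.presheaf.map (homOfLE (X.basicOpen_le g)).op a := by
      rw [← map_pow]; exact ha
    refine ⟨n1 + n, a • m1, M.smul_mem _ h1, ?_⟩
    rw [mres_smul, ← e1, ← ha', smul_smul, smul_smul]
    congr 1
    ring

end Affine

end Groth.Agent.H12.SubSheaf
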