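import Mathlib.Topology.NoetherianSpace
import Mathlib.Topology.Connected.LocallyConnected
import Mathlib.Topology.Connected.Clopen
import Mathlib.Data.List.TFAE

set_option autoImplicit false
universe u v

namespace Groth.Agent.H12

open Topology TopologicalSpace Set

variable {X : Type u} [TopologicalSpace X]

/-- In a Noetherian space connected components are open. -/
theorem isOpen_connectedComponent_of_noetherian [NoetherianSpace X] (y : X) :
    IsOpen (connectedComponent y) := by
  have hfin : (irreducibleComponents X).Finite := NoetherianSpace.finite_irreducibleComponents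
  have key : (connectedComponent y)ᶜ =
      ⋃₀ {Z ∈ irreducibleComponents X | Disjoint Z (connectedComponent y)} := by
    ext x
    constructor
    · intro hx
      refine ⟨irreducibleComponent x, ⟨irreducibleComponent_mem_irreducibleComponents x, ?_⟩,
        mem_irreducibleComponent⟩
      rw [Set.disjoint_left]
      intro z hz hzC
      apply hx
      have h1 : irreducibleComponent x ⊆ connectedComponent z :=
        (isIrreducible_irreducibleComponent.isConnected).isPreconnected.subset_connectedComponent hz
      rw [← connectedComponent_eq hzC] at h1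
      exact h1 mem_irreducibleComponent
    · rintro ⟨Z, ⟨_, hZd⟩, hxZ⟩ hxC
      exact Set.disjoint_left.mp hZd hxZ hxC
  rw [← isClosed_compl_iff, key, Set.sUnion_eq_biUnion]
  apply (hfin.subset (fun Z hZ => hZ.1)).isClosed_biUnion
  intro Z hZ
  exact isClosed_of_mem_irreducibleComponents Z hZ.1

theorem locallyConnectedSpace_of_locallyNoetherian
    (hX : ∀ x : X, ∃ U ∈ nhds x, NoetherianSpace U) : LocallyConnectedSpace X := by
  rw [locallyConnectedSpace_iff_connected_subsets]
  intro x U hU
  obtain ⟨N, hN, hNoeth⟩ := hX x
  let W : Set X := interior U ∩ interior N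
  have hWo : IsOpen W := isOpen_interior.inter isOpen_interior
  have hxW : x ∈ W := ⟨mem_interior_iff_mem_nhds.mpr hU, mem_interior_iff_mem_nhds.mpr hN⟩
  have : NoetherianSpace W :=
    NoetherianSpace.of_subset (W := N) (Set.inter_subset_right.trans interior_subset)
  let C : Set W := connectedComponent ⟨x, hxW⟩
  have hCo : IsOpen C := isOpen_connectedComponent_of_noetherian _
  refine ⟨Subtype.val '' C, ?_, ?_, ?_⟩
  · apply IsOpen.mem_nhds
    · exact hWo.isOpenMap_subtype_val C hCo
    · exact ⟨⟨x, hxW⟩, mem_connectedComponent, rfl⟩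
  · exact (isPreconnected_connectedComponent).image _ continuous_subtype_val.continuousOn
  · rintro _ ⟨w, _, rfl⟩
    exact interior_subset w.2.1


theorem pairwiseDisjoint_irreducibleComponents_of_isOpen
    (h : ∀ Z ∈ irreducibleComponents X, IsOpen Z) :
    (irreducibleComponents X).PairwiseDisjoint id := by
  intro Z1 h1 Z2 h2 hne
  show Disjoint Z1 Z2
  rw [Set.disjoint_iff_inter_eq_empty]
  by_contra hmeet
  have hne' : (Z1 ∩ Z2).Nonempty := Set.nonempty_iff_ne_empty.mpr hmeet
  apply hne
  -- Z1 ∩ Z2 is dense in Z1 and in Z2
  have hsub : ∀ A B : Set X, A ∈ irreducibleComponents X → B ∈ irreducibleComponents X →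
      (A ∩ B).Nonempty → A ⊆ B := by
    intro A B hA hB hAB
    have hcl : IsClosed B := isClosed_of_mem_irreducibleComponents B hB
    have hBo : IsOpen B := h B hB
    have : A ⊆ closure (A ∩ B) :=
      subset_closure_inter_of_isPreirreducible_of_isOpen hA.1.isPreirreducible hBo hAB
    exact this.trans (closure_minimal Set.inter_subset_right hcl)
  exact (hsub Z1 Z2 h1 h2 hne').antisymm (hsub Z2 Z1 h2 h1 (by rwa [Set.inter_comm]))

theorem isOpen_irreducibleComponents_of_pairwiseDisjoint
    (hX : ∀ x : X, ∃ U ∈ nhds x, NoetherianSpace U)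
    (hd : (irreducibleComponents X).PairwiseDisjoint id) :
    ∀ Z ∈ irreducibleComponents X, IsOpen Z := by
  intro Z hZ
  rw [isOpen_iff_mem_nhds]
  intro x hxZ
  obtain ⟨N, hN, hNoeth⟩ := hX x
  let U : Set X := interior N
  have hUo : IsOpen U := isOpen_interior
  have hxU : x ∈ U := mem_interior_iff_mem_nhds.mpr hN
  have : NoetherianSpace U := NoetherianSpace.of_subset (W := N) interior_subset
  let x' : U := ⟨x, hxU⟩
  have hfin : (irreducibleComponents U).Finite := NoetherianSpace.finite_irreducibleComponents
  let B : Set U := ⋃₀ {T ∈ irreducibleComponents U | x' ∉ T}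
  have hBc : IsClosed B := by
    show IsClosed (⋃₀ {T ∈ irreducibleComponents U | x' ∉ T})
    rw [Set.sUnion_eq_biUnion]
    apply (hfin.subset (fun T hT => hT.1)).isClosed_biUnion
    intro T hT
    exact isClosed_of_mem_irreducibleComponents T hT.1
  have hVo : IsOpen (Subtype.val '' Bᶜ) := hUo.isOpenMap_subtype_val _ hBc.isOpen_compl
  have hxV : x ∈ Subtype.val '' Bᶜ := by
    refine ⟨x', ?_, rfl⟩
    rintro ⟨T, ⟨_, hT⟩, hxT⟩
    exact hT hxT
  apply Filter.mem_of_superset (hVo.mem_nhds hxV)
  rintro _ ⟨v, hv, rfl⟩
  let T : Set U := irreducibleComponent v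
  have hT : T ∈ irreducibleComponents U := irreducibleComponent_mem_irreducibleComponents v
  have hvT : v ∈ T := mem_irreducibleComponent
  have hxT : x' ∈ T := by
    by_contra hx
    exact hv ⟨T, ⟨hT, hx⟩, hvT⟩
  have hTi : IsIrreducible (Subtype.val '' T) := hT.1.image _ continuous_subtype_val.continuousOn
  obtain ⟨Z', hZ', hsub⟩ := exists_mem_irreducibleComponents_subset_of_isIrreducible _ hTi
  have hxZ' : x ∈ Z' := hsub ⟨x', hxT, rfl⟩
  have hZZ' : Z = Z' := by
    by_contra hne
    have := hd hZ hZ' hne
    exact Set.disjoint_left.mp this hxZ hxZ'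
  rw [hZZ']
  exact hsub ⟨v, hvT, rfl⟩

theorem connectedComponent_eq_irreducibleComponent_of_isOpen
    (h : ∀ Z ∈ irreducibleComponents X, IsOpen Z) (x : X) :
    connectedComponent x = irreducibleComponent x := by
  have hZ := irreducibleComponent_mem_irreducibleComponents x
  have hclopen : IsClopen (irreducibleComponent x) :=
    ⟨isClosed_irreducibleComponent, h _ hZ⟩
  apply Set.Subset.antisymm
  · exact hclopen.connectedComponent_subset mem_irreducibleComponent
  · exact (isIrreducible_irreducibleComponent.isConnected).isPreconnected.subset_connectedComponent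
      mem_irreducibleComponent

theorem irreducibleComponents_tfae
    (hX : ∀ x : X, ∃ U ∈ nhds x, NoetherianSpace U) :
    List.TFAE [∀ Z ∈ irreducibleComponents X, IsOpen Z,
      irreducibleComponents X = Set.range (connectedComponent : X → Set X),
      ∀ x : X, IsIrreducible (connectedComponent x),
      (irreducibleComponents X).PairwiseDisjoint id] := by
  tfae_have 1 → 4 := pairwiseDisjoint_irreducibleComponents_of_isOpen
  tfae_have 4 → 1 := isOpen_irreducibleComponents_of_pairwiseDisjoint hX
  tfae_have 1 → 3 := by
    intro h x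
    rw [connectedComponent_eq_irreducibleComponent_of_isOpen h x]
    exact isIrreducible_irreducibleComponent
  tfae_have 3 → 2 := by
    intro h
    ext Z
    constructor
    · intro hZ
      obtain ⟨x, hx⟩ := hZ.1.nonempty
      refine ⟨x, ?_⟩
      have h1 : Z ⊆ connectedComponent x :=
        hZ.1.isConnected.isPreconnected.subset_connectedComponent hx
      exact (hZ.2 (h x) h1).antisymm h1
    · rintro ⟨x, rfl⟩
      refine ⟨h x, ?_⟩
      intro T hT hsub
      exact hT.isConnected.isPreconnected.subset_connectedComponent (hsub mem_connectedComponent)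
  tfae_have 2 → 4 := by
    intro h
    rw [h]
    rintro _ ⟨x, rfl⟩ _ ⟨y, rfl⟩ hne
    exact connectedComponent_disjoint hne
  tfae_finish

end Groth.Agent.H12
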