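import Groth.Agent.H18.TorBalance
import Mathlib

set_option autoImplicit false
universe u

namespace Groth.Agent.H12.Tor1Ker

open CategoryTheory CategoryTheory.Limits MonoidalCategory Groth.Agent.H18

variable {A : Type u} [CommRing A]

/-- `H₁(Q ⊗ S.X₃) ≅ ker (M ⊗ S.X₁ → M ⊗ S.X₂)` for a short exact `S` with flat middle term. -/
theorem tens_one_iso_kernel_of_flat {M : ModuleCat.{u} A} (Q : ProjectiveResolution M)
    {S : ShortComplex (ModuleCat.{u} A)} (hS : S.ShortExact) [Module.Flat A S.X₂] :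
    Nonempty ((tensCx Q S.X₃).homology 1 ≅ kernel (M ◁ S.f)) := by
  have hΦ := tensSC_shortExact Q hS
  have hmono : Mono (hΦ.δ 1 0 (by simp)) := hΦ.mono_δ 1 0 (by simp)
    (isZero_homology_tensCx_succ_of_flat Q S.X₂ 0)
  have hex := hΦ.homology_exact₁ 1 0 (by simp)
  have hker := hex.fIsKernel
  have e1 : (tensCx Q S.X₃).homology 1 ≅
      kernel (HomologicalComplex.homologyMap (tensCxMap Q S.f) 0) :=
    IsLimit.conePointUniqueUpToIso hker (limit.isLimit _)
  have e2 : kernel (HomologicalComplex.homologyMap (tensCxMap Q S.f) 0) ≅ kernel (M ◁ S.f) :=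
    kernel.mapIso _ _ (tensH0Iso Q S.X₁) (tensH0Iso Q S.X₂) (tensH0Iso_naturality Q S.f)
  exact ⟨e1 ≪≫ e2⟩

/-- Mathlib's `Tor_n(H, M)` computed by a projective resolution of `M`, with `H` on the right. -/
theorem tor_iso_tensCx_swap (H M : ModuleCat.{u} A) (Q : ProjectiveResolution M) (n : ℕ) :
    Nonempty (((Tor (ModuleCat.{u} A) n).obj H).obj M ≅ (tensCx Q H).homology n) := by
  let F : ModuleCat.{u} A ⥤ ModuleCat.{u} A := (tensoringLeft (ModuleCat.{u} A)).obj H
  let e : F ≅ tensorRight H := BraidedCategory.tensorLeftIsoTensorRight H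
  exact ⟨Q.isoLeftDerivedObj F n ≪≫
    (HomologicalComplex.homologyFunctor _ _ n).mapIso
      ((NatIso.mapHomologicalComplex e (ComplexShape.down ℕ)).app Q.complex)⟩

/-- `Tor₁(S.X₃, M) ≅ ker (M ⊗ S.X₁ → M ⊗ S.X₂)` for a short exact `S` with flat middle term. -/
theorem tor_one_iso_kernel {S : ShortComplex (ModuleCat.{u} A)} (hS : S.ShortExact)
    [Module.Flat A S.X₂] (M : ModuleCat.{u} A) :
    Nonempty (((Tor (ModuleCat.{u} A) 1).obj S.X₃).obj M ≅ kernel (M ◁ S.f)) := by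
  let Q := projectiveResolution M
  obtain ⟨e1⟩ := tor_iso_tensCx_swap S.X₃ M Q 1
  obtain ⟨e2⟩ := tens_one_iso_kernel_of_flat Q hS
  exact ⟨e1 ≪≫ e2⟩

end Groth.Agent.H12.Tor1Ker
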