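import Groth.Agent.H12.InvMono
import Groth.Agent.H12.SerreCrit
import Groth.Agent.H18.Ideal.MulIdeal
import Groth.Agent.H18.STL.AmpleBasis
import Groth.Agent.Lead.Coh.H1Surj
set_option autoImplicit false
universe u
noncomputable section
namespace Groth.Agent.H12.TwistSerre
open CategoryTheory CategoryTheory.Limits Opposite TopologicalSpace AlgebraicGeometry
open Groth.Agent.H18 Groth.Agent.H18.STL Groth.Agent.H18.IdealTw Groth.Agent.H18.PUP
open Groth.Agent.H12.SubSheaf Groth.Agent.H12.QAffCrit Groth.Agent.H12.QCohAbelian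
open Groth.Agent.H12.SerreCrit

variable {X : Scheme.{u}}

/-- compatibility of `mulHom` with a change of the ideal. -/
theorem tensorMap_comp_mulHom {N J : X.Modules} (k : N ⟶ J) (i : J ⟶ Coh.structureModule X)
    (M : X.Modules) : KoszTw.tensorMap k (𝟙 M) ≫ mulHom i M = mulHom (k ≫ i) M := by
  unfold mulHom
  rw [← Category.assoc, ← KoszTw.tensorMap_comp, Category.comp_id]

/-- the support of the vanishing ideal of the complement of an open. -/
theorem support_vanishingIdeal_compl (U : X.Opens) :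
    ((Scheme.IdealSheafData.vanishingIdeal
      (⟨(U : Set X)ᶜ, U.isOpen.isClosed_compl⟩ : Closeds X)).support : Set X) = (U : Set X)ᶜ :=
  Scheme.IdealSheafData.coe_support_vanishingIdeal _

set_option backward.isDefEq.respectTransparency false in
/-- the closed point step: if the first cohomology of the twisted quasi-coherent ideals vanishes,
every closed point lies in an affine open `X_s` for a section `s` of a positive power of `L`. -/
theorem exists_affine_genLocus_of_isClosed {L : X.Modules} (hL : PicF.IsInvertible L)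
    (h : ∀ (I : X.Modules) (i : I ⟶ Coh.structureModule X), Mono i → Coh.IsQCoh I →
      ∃ n : ℕ, Subsingleton (Coh.HH X (CohB1.tensorMod I (CohB1.tensorPow L (n + 1))) 1))
    (x : X) (hx : IsClosed ({x} : Set X)) :
    ∃ (n : ℕ) (s : Coh.structureModule X ⟶ CohB1.tensorPow L (n + 1)),
      x ∈ CohB1.genLocus _ s ∧ IsAffineOpen (CohB1.genLocus _ s) := by
  obtain ⟨U, hU, hxU⟩ : ∃ U : X.Opens, IsAffineOpen U ∧ x ∈ U := by
    obtain ⟨_, ⟨U, hU, rfl⟩, hxU, -⟩ :=
      X.isBasis_affineOpens.exists_subset_of_mem_open (Set.mem_univ x) isOpen_univ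
    exact ⟨U, hU, hxU⟩
  let K : X.IdealSheafData := Scheme.IdealSheafData.vanishingIdeal
    (⟨(U : Set X)ᶜ, U.isOpen.isClosed_compl⟩ : Closeds X)
  have h1 : (1 : Γ(X, U)) ∈ K.ideal ⟨U, hU⟩ := one_mem_vanishingIdeal ⟨U, hU⟩
  let J := ClSub.idealMod K
  let i : J ⟶ Coh.structureModule X := ClSub.idealModι K
  have hmonoi : Mono i := by
    show Mono (ClSub.idealModι K)
    unfold ClSub.idealModι
    infer_instance
  have hqJ : J.IsQuasicoherent := Groth.Agent.H44.isQuasicoherent_idealMod K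
  let g : Γ(J, U) := OmegaSh.kerLift (ClSub.toSubscheme K) U
    (OmegaSh.strSect X U 1) ((Groth.Agent.H44.toSubscheme_app_eq_zero_iff K hU 1).2 h1)
  have hg : (i.app U).hom g = OmegaSh.strSect X U 1 := OmegaSh.ι_kerLift _ _ _ _
  let N := vanishFam J i x
  have hN : N.IsLocal := isLocal_vanishFam J i x
  have hqN : (N.toModules hN).IsQuasicoherent := isQuasicoherent_vanishFam J i x
  let k : N.toModules hN ⟶ J := N.ι hN
  have hmonok : Mono k := inferInstance
  obtain ⟨n, hn⟩ := h (N.toModules hN) (k ≫ i) (mono_comp k i) hqN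
  refine ⟨n, ?_⟩
  let M := CohB1.tensorPow L (n + 1)
  have hM : PicF.IsInvertible M := isInvertible_tensorPow hL _
  let kM : CohB1.tensorMod (N.toModules hN) M ⟶ CohB1.tensorMod J M := KoszTw.tensorMap k (𝟙 M)
  have hkM : Mono kM := Groth.Agent.H12.InvMono.mono_tensorMap_of_isInvertible k hM
  let π : CohB1.tensorMod J M ⟶ cokernel kM := cokernel.π kM
  have hex : (ShortComplex.mk kM π (cokernel.condition kM)).Exact := ShortComplex.exact_cokernel kM
  have hE : (ShortComplex.mk kM π (cokernel.condition kM)).ShortExact :=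
    { exact := hex, mono_f := hkM, epi_g := inferInstanceAs (Epi (cokernel.π kM)) }
  have hsurj : Function.Surjective (π.val.app (op (⊤ : X.Opens))).hom :=
    Groth.Agent.Lead.Coh.sections_top_surjective_of_subsingleton_HH_one _ hE hn
  obtain ⟨V, e, hxV, he⟩ := exists_basis_of_isInvertible hM x
  have hU'U : U ⊓ V ≤ U := inf_le_left
  have hU'V : U ⊓ V ≤ V := inf_le_right
  have hxU' : x ∈ U ⊓ V := ⟨hxU, hxV⟩
  let g' : Γ(J, U ⊓ V) := mres J hU'U g
  let e' : Γ(M, U ⊓ V) := mres M hU'V e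
  have he' : IsBasisOn M (U ⊓ V) e' := he.mono hU'V
  have hg' : fn (U ⊓ V) ((i.app (U ⊓ V)).hom g') = 1 := by
    have h3 := Groth.Agent.H12.QCohExt.app_mres i hU'U g
    have h4 : (i.app (U ⊓ V)).hom g' = mres (Coh.structureModule X) hU'U ((i.app U).hom g) :=
      h3.symm
    rw [h4, hg, fn_mres]
    exact map_one _
  let τ : Γ(CohB1.tensorMod J M, U ⊓ V) := SecTwist.tmul J M (U ⊓ V) g' e'
  have hvan : ∀ (W : X.Opens) (hW : W ≤ U ⊓ V), x ∉ W →
      mres (cokernel kM) hW ((π.app (U ⊓ V)).hom τ) = 0 := by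
    intro W hW hxW
    have h2 := Groth.Agent.H12.QCohExt.app_mres π hW τ
    refine h2.trans ?_
    have hmem : mres J hW g' ∈ N.carrier W := by
      rw [mem_vanishFam]
      intro hcon
      exact hxW (X.basicOpen_le _ hcon)
    obtain ⟨z, hz⟩ := N.exists_ι_app_eq hN W _ hmem
    have h5 : mres (CohB1.tensorMod J M) hW τ =
        (kM.app W).hom (SecTwist.tmul (N.toModules hN) M W z (mres M hW e')) := by
      have h6 := mres_tmul J M hW g' e'
      have h7 := KoszTw.tensorMap_tmul k (𝟙 M) W z (mres M hW e')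
      refine h6.trans ?_
      refine Eq.trans ?_ h7.symm
      rw [← hz]
      rfl
    rw [h5]
    have h3 : kM ≫ π = 0 := cokernel.condition kM
    exact congrArg (fun φ : CohB1.tensorMod (N.toModules hN) M ⟶ cokernel kM =>
      (φ.app W).hom (SecTwist.tmul (N.toModules hN) M W z (mres M hW e'))) h3
  obtain ⟨σ, hσ⟩ := exists_glue_zero (cokernel kM) x hx (U ⊓ V) hxU' ((π.app (U ⊓ V)).hom τ) hvan
  obtain ⟨f, hf⟩ := hsurj σ
  let fU : Γ(CohB1.tensorMod J M, U ⊓ V) := mres (CohB1.tensorMod J M) (le_top : U ⊓ V ≤ ⊤) f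
  have hker : (π.app (U ⊓ V)).hom (τ - fU) = 0 := by
    rw [map_sub, sub_eq_zero]
    have h2 := Groth.Agent.H12.QCohExt.app_mres π (le_top : U ⊓ V ≤ ⊤) f
    rw [← h2]
    have hf' : (π.app ⊤).hom f = σ := hf
    rw [hf', hσ]
  obtain ⟨z, hz⟩ := app_exact_of_exact_of_mono (ShortComplex.mk kM π (cokernel.condition kM)) hex
    (U ⊓ V) (τ - fU) hker
  have hz' : (kM.app (U ⊓ V)).hom z = τ - fU := hz
  obtain ⟨W₁, hW₁, hxW₁, y, hy⟩ :=
    tmulLin_locally_surjective (N.toModules hN) M (U ⊓ V) z x hxU'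
  have he₁ : IsBasisOn M W₁ (mres M hW₁ e') := he'.mono hW₁
  obtain ⟨a, ha⟩ := exists_mulHom_tmulLin_eq (k ≫ i) he₁ y
  let s : Coh.structureModule X ⟶ M := sectionHom (CohB1.tensorMod J M) f ≫ mulHom i M
  refine ⟨s, ?_, ?_⟩
  · rw [mem_genLocus_iff_isGenAt s hxW₁]
    have hval : SecTwist.val s W₁ =
        (mulHom i M).app W₁ (mres (CohB1.tensorMod J M) (le_top : W₁ ≤ ⊤) f) := by
      have h8 := val_sectionHom (CohB1.tensorMod J M) f W₁
      show (mulHom i M).app W₁ (SecTwist.val (sectionHom (CohB1.tensorMod J M) f) W₁) = _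
      rw [h8]
    have hf₁ : mres (CohB1.tensorMod J M) (le_top : W₁ ≤ ⊤) f =
        mres (CohB1.tensorMod J M) hW₁ τ -
          (kM.app W₁).hom (tmulLin (N.toModules hN) M W₁ y) := by
      have h8 : mres (CohB1.tensorMod J M) hW₁ fU =
          mres (CohB1.tensorMod J M) (le_top : W₁ ≤ ⊤) f := mres_mres _ _ _ _
      have h9 : mres (CohB1.tensorMod J M) hW₁ ((kM.app (U ⊓ V)).hom z) =
          (kM.app W₁).hom (mres (CohB1.tensorMod (N.toModules hN) M) hW₁ z) :=
        hom_app_mres kM hW₁ z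
      rw [hy, ← h9, hz', map_sub, h8]
      abel
    have hr : (mulHom i M).app W₁ ((kM.app W₁).hom (tmulLin (N.toModules hN) M W₁ y)) =
        (mulHom (k ≫ i) M).app W₁ (tmulLin (N.toModules hN) M W₁ y) := by
      have h8 := tensorMap_comp_mulHom k i M
      exact congrArg (fun φ : CohB1.tensorMod (N.toModules hN) M ⟶ M =>
        (φ.app W₁).hom (tmulLin (N.toModules hN) M W₁ y)) h8
    have hτ : (mulHom i M).app W₁ (mres (CohB1.tensorMod J M) hW₁ τ) = mres M hW₁ e' := by
      have h6 := mres_tmul J M hW₁ g' e'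
      have h7 : OmegaSh.fnSect X W₁ (i.app W₁ (mres J hW₁ g')) = 1 := by
        rw [fnSect_app_mres]
        have : OmegaSh.fnSect X (U ⊓ V) (i.app (U ⊓ V) g') = 1 := hg'
        rw [this]
        exact map_one _
      rw [h6, mulHom_app_tmul, h7, one_smul]
    set r : Γ(X, W₁) := OmegaSh.fnSect X W₁ ((k ≫ i).app W₁ a) with hr_def
    have hxr : x ∉ X.basicOpen r := by
      have hmem : ((N.ι hN).app W₁).hom a ∈ N.carrier W₁ := N.ι_app_mem hN W₁ a
      rw [mem_vanishFam] at hmem
      exact hmem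
    have hgoal : (mulHom i M).app W₁ (mres (CohB1.tensorMod J M) (le_top : W₁ ≤ ⊤) f) =
        (1 - r) • mres M hW₁ e' := by
      rw [hf₁, map_sub, hτ, hr, ha, sub_smul, one_smul]
    rw [hval, hgoal, isGenAt_smul_basis_iff he₁ _ hxW₁]
    have h5 : x ∈ X.basicOpen ((1 - r) + r) := by
      rw [sub_add_cancel, Scheme.basicOpen_one]
      exact hxW₁
    rcases X.basicOpen_add_le _ _ h5 with h6 | h6
    · exact h6
    · exact absurd h6 hxr
  · have hle : CohB1.genLocus M s ≤ U := by
      intro y hy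
      have h8 := genLocus_comp_mulHom_disjoint K hM (sectionHom (CohB1.tensorMod J M) f) hy
      by_contra hyU
      apply h8
      show y ∈ (K.support : Set X)
      rw [support_vanishingIdeal_compl U]
      exact hyU
    exact isAffineOpen_genLocus_of_le hM s hU hle

/-- a quasi-compact scheme with an invertible module `L` such that for every quasi-coherent ideal
`I` some `H¹(X, I ⊗ L^(n+1))` vanishes: `L` is ample. -/
theorem isAmple_of_vanishing_H1 [CompactSpace X] {L : X.Modules} (hL : PicF.IsInvertible L)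
    (h : ∀ (I : X.Modules) (i : I ⟶ Coh.structureModule X), Mono i → Coh.IsQCoh I →
      ∃ n : ℕ, Subsingleton (Coh.HH X (CohB1.tensorMod I (CohB1.tensorPow L (n + 1))) 1)) :
    CohB1.IsAmple L := by
  refine ⟨hL, inferInstance, fun x => ?_⟩
  obtain ⟨x0, hx0, hcl⟩ := (isClosed_closure (s := ({x} : Set X))).exists_closed_singleton
    ⟨x, subset_closure rfl⟩
  obtain ⟨n, s, hmem, haff⟩ := exists_affine_genLocus_of_isClosed hL h x0 hcl
  refine ⟨n, s, ?_, haff⟩
  have h1 : x0 ∈ closure ({x} : Set X) := hx0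
  rw [mem_closure_iff] at h1
  obtain ⟨y, hy1, hy2⟩ := h1 _ (CohB1.genLocus _ s).isOpen hmem
  rw [Set.mem_singleton_iff] at hy2
  subst hy2
  exact hy1

end Groth.Agent.H12.TwistSerre
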